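import Groth.Agent.Sk62.Constructible
import Groth.Agent.Cons62.Basic

/-! Codepth of the fibres: open for flat morphisms, constructible in general. -/

set_option autoImplicit false

universe u

open CategoryTheory AlgebraicGeometry Topology

namespace Groth.Agent.Sk62

variable {X Y : Scheme.{u}}

theorem exists_invariants (f : X ⟶ Y) [LocallyOfFiniteType f] (z : X) :
    ∃ k m : ℕ, fdim f z = (k : ℕ) ∧ fdepth f z = (m : ℕ∞) ∧
      FlatMor.fibreDimAt f z = ((k + E4O.fdeg f z : ℕ) : WithBot ℕ∞) := by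
  have := isLocalRing_noetherian_fibre f z
  obtain ⟨k, hk, hD⟩ := CM62.exists_fibre_dim f z
  obtain ⟨m, hm⟩ := EGA4Alg4.exists_depth_eq (A := (f.fiber (f z)).presheaf.stalk (f.asFiber z))
    (M := (f.fiber (f z)).presheaf.stalk (f.asFiber z))
  exact ⟨k, m, hk, hm, hD⟩

theorem mem_locus_codepthLE_iff (f : X ⟶ Y) (n : ℕ) (z : X) {k m : ℕ} (hk : fdim f z = (k : ℕ))
    (hm : fdepth f z = (m : ℕ∞)) : z ∈ locus (CodepthLE n) f ↔ k ≤ m + n := by
  show fdim f z ≤ ((fdepth f z : ℕ∞) : WithBot ℕ∞) + (n : ℕ) ↔ _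
  rw [hk, hm]
  norm_cast

theorem isOpen_codepthLE (f : X ⟶ Y) [Flat f] [LocallyOfFinitePresentation f] (n : ℕ) :
    IsOpen (locus (CodepthLE n) f) := by
  rw [isOpen_iff_forall_mem_open]
  intro x hx
  obtain ⟨k, m, hk, hm, hD⟩ := exists_invariants f x
  let d := E4O.fdeg f x
  refine ⟨{a | FlatMor.fibreDimAt f a ≤ ((k + d : ℕ) : WithBot ℕ∞)} ∩
    {a | ((m + d : ℕ) : ℕ∞) ≤ rdepth f a}, ?_, (S0402.result f (k + d)).inter (isOpen_le_rdepth f (m + d)),
    hD.le, ?_⟩
  · rintro a ⟨ha, hb⟩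
    obtain ⟨k', m', hk', hm', hD'⟩ := exists_invariants f a
    rw [mem_locus_codepthLE_iff f n x hk hm] at hx
    rw [mem_locus_codepthLE_iff f n a hk' hm']
    have h1 : k' + E4O.fdeg f a ≤ k + d := by
      have ha' : FlatMor.fibreDimAt f a ≤ ((k + d : ℕ) : WithBot ℕ∞) := ha
      rw [hD'] at ha'
      exact_mod_cast ha'
    have h2 : m + d ≤ m' + E4O.fdeg f a := by
      have : ((m + d : ℕ) : ℕ∞) ≤ rdepth f a := hb
      rw [rdepth, hm'] at this
      exact_mod_cast this
    omega
  · show ((m + d : ℕ) : ℕ∞) ≤ rdepth f x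
    rw [rdepth, hm, Nat.cast_add]

theorem goodProp_codepthLE (n : ℕ) : GoodProp (CodepthLE n) where
  iso R S _ _ _ _ _ e h := codepthLE_of_ringEquiv n R S e h
  ext K S L _ _ _ _ _ _ Q' _ := codepthLE_tensor_iff K S L n Q'
  isOpen_of_flat f _ _ := isOpen_codepthLE f n

theorem isLocallyConstructible_codepth_eq (f : X ⟶ Y) [LocallyOfFinitePresentation f] (n : ℕ) :
    IsLocallyConstructible {x : X | fdim f x = ((fdepth f x : ℕ∞) : WithBot ℕ∞) + n} := by
  have hle := fun n => isLocallyConstructible_locus (goodProp_codepthLE n) f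
  cases n with
  | zero =>
    convert hle 0 using 1
    ext x
    obtain ⟨k, m, hk, hm, -⟩ := exists_invariants f x
    have := isLocalRing_noetherian_fibre f x
    have h : m ≤ k := by
      have := EGA4Alg4.depth_le_supportDim (A := (f.fiber (f x)).presheaf.stalk (f.asFiber x))
        (M := (f.fiber (f x)).presheaf.stalk (f.asFiber x))
      rw [Module.supportDim_self_eq_ringKrullDim] at this
      change ((fdepth f x : ℕ∞) : WithBot ℕ∞) ≤ fdim f x at this
      rw [hk, hm] at this
      exact_mod_cast this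
    rw [mem_locus_codepthLE_iff f 0 x hk hm]
    show fdim f x = _ ↔ _
    rw [hk, hm]
    norm_cast
    omega
  | succ n =>
    convert (hle (n + 1)).inter (Cons62.isLocallyConstructible_compl (hle n)) using 1
    ext x
    obtain ⟨k, m, hk, hm, -⟩ := exists_invariants f x
    rw [Set.mem_inter_iff, Set.mem_compl_iff, mem_locus_codepthLE_iff f _ x hk hm,
      mem_locus_codepthLE_iff f _ x hk hm]
    show fdim f x = _ ↔ _
    rw [hk, hm]
    norm_cast
    omega

end Groth.Agent.Sk62
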