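import Groth.Agent.Sk62.GeomRed
import Groth.Agent.Sk62.Codepth
import Groth.Agent.Open62.SmoothFibre

/-! The points where the fibre is geometrically reduced form an open set for flat morphisms. -/

set_option autoImplicit false

universe u

open CategoryTheory CategoryTheory.Limits AlgebraicGeometry Topology

namespace Groth.Agent.Sk62

variable {X Y : Scheme.{u}}

theorem isGeomReducedAt_fibre_iff (f : X ⟶ Y) [LocallyOfFinitePresentation f] (x : X) :
    FBase.IsGeomReducedAt (f.fiberToSpecResidueField (f x)) (f.asFiber x) ↔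
      LocCoh.HasSk 1 ((f.fiber (f x)).presheaf.stalk (f.asFiber x))
          ((f.fiber (f x)).presheaf.stalk (f.asFiber x)) ∧
        ∀ z, z ⤳ x → f z = f x → fdim f z = 0 → z ∈ Open62.fibreSmooth f := by
  let g : f.fiber (f x) ⟶ Spec (CommRingCat.of (Y.residueField (f x))) := f.fiberToSpecResidueField (f x)
  have : LocallyOfFinitePresentation g :=
    inferInstanceAs (LocallyOfFinitePresentation (pullback.snd f (Y.fromSpecResidueField (f x))))
  have : Flat g := inferInstance
  have hsm : ∀ w : ↥(f.fiber (f x)),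
      w ∈ g.smoothLocus ↔ f.fiberι (f x) w ∈ Open62.fibreSmooth f := fun w => by
    have h : Open62.fibreSmooth g = f.fiberι (f x) ⁻¹' Open62.fibreSmooth f :=
      Open62.fibreSmooth_of_isPullback (f' := g) (g' := f.fiberι (f x))
        (IsPullback.of_hasPullback f (Y.fromSpecResidueField (f x)))
    rw [← SetLike.mem_coe, ← Open62.fibreSmooth_of_flat g, h]
    rfl
  refine (isGeomReducedAt_iff g (f.asFiber x)).trans (and_congr_right fun _ => ?_)
  constructor
  · intro h z hz hfz hd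
    obtain ⟨w, rfl⟩ := E4O.exists_fiberι_eq f hfz
    refine (hsm w).1 (h w ((E4O.specializes_fiberι_iff f _ _ _).1 (by rwa [f.fiberι_asFiber])) ?_)
    exact (fibre_invariants f (f x) w).1.trans hd
  · intro h w hw hd
    have hz := hw.map (f.fiberι (f x)).continuous
    rw [f.fiberι_asFiber] at hz
    exact (hsm w).2 (h _ hz (E4O.apply_fiberι f _ w) ((fibre_invariants f (f x) w).1.symm.trans hd))

/-- Where `(S_1)` holds, the maximal points of the fibres avoid a given closed set on an open set. -/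
theorem isOpen_max_points (f : X ⟶ Y) [Flat f] [LocallyOfFinitePresentation f] {K : Set X}
    (hK : IsClosed K) :
    IsOpen {x : X | LocCoh.HasSk 1 ((f.fiber (f x)).presheaf.stalk (f.asFiber x))
        ((f.fiber (f x)).presheaf.stalk (f.asFiber x)) ∧
      ∀ z, z ⤳ x → f z = f x → fdim f z = 0 → z ∉ K} := by
  let B : ℕ → Set X := fun d =>
    {x : X | ∃ z ∈ K ∩ {z : X | ((d + 1 : ℕ) : ℕ∞) ≤ rdepth f z}ᶜ,
      z ⤳ x ∧ f z = f x ∧ d ≤ E4O.fdeg f z}
  have hB : ∀ d, IsClosed (B d) := fun d =>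
    isClosed_exists_le_fdeg f (hK.inter (isOpen_le_rdepth f (d + 1)).isClosed_compl) _
  rw [isOpen_iff_forall_mem_open]
  rintro x ⟨hxS, hx⟩
  obtain ⟨z₀, -, -, hD, -, -⟩ := E4O.exists_fibreDimAt_eq f x
  let D := E4O.fdeg f z₀
  refine ⟨({a : X | FlatMor.fibreDimAt f a ≤ (D : ℕ)} ∩
      {a : X | LocCoh.HasSk 1 ((f.fiber (f a)).presheaf.stalk (f.asFiber a))
        ((f.fiber (f a)).presheaf.stalk (f.asFiber a))}) \ ⋃ d ∈ Finset.range (D + 1), B d, ?_,
    ((S0402.result f D).inter (isOpen_hasSk f 1)).sdiff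
      ((Finset.range (D + 1)).finite_toSet.isClosed_biUnion fun d _ => hB d), ⟨hD.le, hxS⟩, ?_⟩
  · rintro a ⟨⟨ha, haS⟩, hnot⟩
    refine ⟨haS, fun z hza hfz hz hzK => ?_⟩
    obtain ⟨k, m, hk, hm, -⟩ := exists_invariants f z
    have hdeg : E4O.fdeg f z ≤ D := by
      exact_mod_cast (E4O.fdeg_le_fibreDimAt hza hfz).trans ha
    have hk0 : k = 0 := by exact_mod_cast hk.symm.trans hz
    have hm0 : m = 0 := by
      have := isLocalRing_noetherian_fibre f z
      have h := EGA4Alg4.depth_le_supportDim (A := (f.fiber (f z)).presheaf.stalk (f.asFiber z))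
        (M := (f.fiber (f z)).presheaf.stalk (f.asFiber z))
      rw [Module.supportDim_self_eq_ringKrullDim] at h
      change ((fdepth f z : ℕ∞) : WithBot ℕ∞) ≤ fdim f z at h
      rw [hk, hm] at h
      have : m ≤ k := by exact_mod_cast h
      omega
    refine hnot (Set.mem_biUnion (x := E4O.fdeg f z) (Finset.mem_range.2 (by omega))
      ⟨z, ⟨hzK, ?_⟩, hza, hfz, le_rfl⟩)
    show ¬ ((E4O.fdeg f z + 1 : ℕ) : ℕ∞) ≤ fdepth f z + (E4O.fdeg f z : ℕ∞)
    rw [hm, hm0, ← Nat.cast_add, Nat.cast_le]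
    omega
  · intro hmem
    obtain ⟨d, -, z, ⟨hzK, hd⟩, hzx, hfz, hdd⟩ := Set.mem_iUnion₂.1 hmem
    obtain ⟨k, m, hk, hm, -⟩ := exists_invariants f z
    have hd' : ¬ ((d + 1 : ℕ) : ℕ∞) ≤ fdepth f z + (E4O.fdeg f z : ℕ∞) := hd
    rw [hm, ← Nat.cast_add, Nat.cast_le] at hd'
    have h := ((hasSk_fibre_iff f 1 x).1 hxS) z hzx hfz
    rw [hk, hm] at h
    have h' : min 1 k ≤ m := by
      rw [min_le_iff] at h ⊢
      exact h.imp (fun h => by exact_mod_cast h) fun h => by exact_mod_cast h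
    exact hx z hzx hfz (by rw [hk, show k = 0 by omega]; rfl) hzK

theorem isOpen_isGeomReducedAt_fibre (f : X ⟶ Y) [Flat f] [LocallyOfFinitePresentation f] :
    IsOpen {x : X | FBase.IsGeomReducedAt (f.fiberToSpecResidueField (f x)) (f.asFiber x)} := by
  convert isOpen_max_points f (K := (f.smoothLocus : Set X)ᶜ) f.smoothLocus.isOpen.isClosed_compl using 1
  ext x
  refine (isGeomReducedAt_fibre_iff f x).trans ?_
  rw [Open62.fibreSmooth_of_flat f]
  simp only [Set.mem_compl_iff, not_not, Set.mem_ofPred_eq]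

end Groth.Agent.Sk62
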