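import Groth.Agent.Sk62.RedFlat
import Groth.Agent.Sk62.GeomRedFibre
import Groth.Agent.Ega11.FibreComp
import Groth.Agent.E4O.StalkChart

/-! Reducedness of the total space at a point of a flat morphism. -/

set_option autoImplicit false

universe u

open CategoryTheory AlgebraicGeometry TensorProduct

namespace Groth.Agent.Sk62

theorem isReduced_stalk_of_isGeomReducedAt {k : Type u} [Field k] {X : Scheme.{u}}
    (f : X ⟶ Spec (CommRingCat.of k)) (x : X) (h : FBase.IsGeomReducedAt f x) :
    _root_.IsReduced (X.presheaf.stalk x) := by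
  obtain ⟨A, _, _, j, _, ⟨q, rfl⟩, hj⟩ := FBase64.exists_chart f x
  have hgr := (isGeomReducedAt_chart_iff f j hj (show PrimeSpectrum A from q)).1 h
  have : _root_.IsReduced (Localization.AtPrime (show PrimeSpectrum A from q).asIdeal) :=
    @Algebra.isReduced_of_isGeometricallyReduced k _ _ _ _ hgr
  obtain ⟨e⟩ := FBase64.nonempty_stalkEquiv j q
  exact isReduced_of_injective e e.injective

variable {A B : Type u} [CommRing A] [CommRing B] [Algebra A B]

/-- Flat with reduced fibres: reduced at the primes over a prime with reduced local ring. -/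
theorem isReduced_localization_of_fibres [Algebra.FinitePresentation A B] [Module.Flat A B]
    (h : ∀ P : PrimeSpectrum A, _root_.IsReduced (P.asIdeal.Fiber B)) (q : Ideal B) [q.IsPrime]
    [_root_.IsReduced (Localization.AtPrime (q.under A))] : _root_.IsReduced (Localization.AtPrime q) := by
  let p := q.under A
  let T := Localization.AtPrime p
  have hT : (algebraMap A T).SurjectiveOnStalks :=
    RingHom.surjectiveOnStalks_of_isLocalization (M := p.primeCompl) T
  have : _root_.IsReduced (T ⊗[A] B) := isReduced_of_flat_of_fibres fun P => by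
    obtain ⟨e⟩ := Ega11.FibreComp.exists_fiber_equiv (B := B) hT P.asIdeal
    have := h ⟨P.asIdeal.under A, inferInstance⟩
    exact isReduced_of_injective e.symm e.symm.injective
  let e : B ⊗[A] T ≃+* T ⊗[A] B := (Algebra.TensorProduct.comm A B T).toRingEquiv
  have : _root_.IsReduced (B ⊗[A] T) := isReduced_of_injective e e.injective
  let M := Algebra.algebraMapSubmonoid B p.primeCompl
  have hM : M ≤ q.primeCompl := by
    rintro _ ⟨a, ha, rfl⟩ hmem
    exact ha hmem
  refine ⟨fun z ⟨n, hn⟩ => ?_⟩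
  obtain ⟨x, m, rfl⟩ := IsLocalization.exists_mk'_eq q.primeCompl z
  rw [← IsLocalization.mk'_pow, IsLocalization.mk'_eq_zero_iff] at hn
  obtain ⟨c, hc⟩ := hn
  have h0 : algebraMap B (B ⊗[A] T) ((c : B) * x) = 0 := by
    refine IsNilpotent.eq_zero ⟨n + 1, ?_⟩
    rw [← map_pow, mul_pow, pow_succ (c : B), pow_succ x, show (c : B) ^ n * c * (x ^ n * x) =
      ((c : B) * x ^ n) * ((c : B) ^ n * x) by ring, hc, zero_mul, map_zero]
  obtain ⟨m', hm'⟩ := (IsLocalization.map_eq_zero_iff M _ _).1 h0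
  rw [IsLocalization.mk'_eq_zero_iff]
  exact ⟨⟨(m' : B) * c, q.primeCompl.mul_mem (hM m'.2) c.2⟩, by rw [← hm']; ring⟩

theorem isReducedAt_of_flat {X Y : Scheme.{u}} (f : X ⟶ Y) [Flat f] [LocallyOfFinitePresentation f] (x : X)
    (hy : _root_.IsReduced (Y.presheaf.stalk (f x)))
    (hx : FBase.IsGeomReducedAt (f.fiberToSpecResidueField (f x)) (f.asFiber x)) :
    _root_.IsReduced (X.presheaf.stalk x) := by
  let U : X.Opens := ⟨_, isOpen_isGeomReducedAt_fibre f⟩
  obtain ⟨V, hV, hyV, -⟩ := exists_isAffineOpen_mem_and_subset (X := Y) (x := f x) (U := ⊤) trivial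
  obtain ⟨W, hW, hxW, hWV⟩ := exists_isAffineOpen_mem_and_subset (X := X) (x := x) (U := U ⊓ f ⁻¹ᵁ V) ⟨hx, hyV⟩
  have hle : W ≤ f ⁻¹ᵁ V := fun a ha => (hWV ha).2
  let φ := f.appLE V W hle
  algebraize [φ.hom]
  have : Algebra.FinitePresentation Γ(Y, V) Γ(X, W) :=
    LocallyOfFinitePresentation.finitePresentation_appLE f hV hW hle
  have : Module.Flat Γ(Y, V) Γ(X, W) := f.flat_appLE hV hW hle
  have := hW.isOpenImmersion_fromSpec
  have := hV.isOpenImmersion_fromSpec
  have comm : Spec.map φ ≫ hV.fromSpec = hW.fromSpec ≫ f :=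
    IsAffineOpen.SpecMap_appLE_fromSpec f hV hW hle
  have hfib : ∀ P : PrimeSpectrum Γ(Y, V), _root_.IsReduced (P.asIdeal.Fiber Γ(X, W)) := fun P => by
    refine isReduced_ofLocalizationMaximal _ fun J hJ => ?_
    let t : PrimeSpectrum Γ(X, W) :=
      ⟨J.comap Algebra.TensorProduct.includeRight, inferInstance⟩
    obtain ⟨e⟩ := exists_fibreRing_fiber P.asIdeal J t rfl
    obtain ⟨-, -, ⟨E⟩⟩ := fibreRing_data f hW.fromSpec hV.fromSpec comm t
    have : _root_.IsReduced ((f.fiber (f (hW.fromSpec t))).presheaf.stalk (f.asFiber (hW.fromSpec t))) :=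
      isReduced_stalk_of_isGeomReducedAt (k := Y.residueField (f (hW.fromSpec t)))
        (f.fiberToSpecResidueField (f (hW.fromSpec t))) _ (hWV (hW.range_fromSpec.le ⟨t, rfl⟩)).1
    exact isReduced_of_injective (e.trans E) (e.trans E).injective
  obtain ⟨q, rfl⟩ := hW.range_fromSpec.ge hxW
  let q' : PrimeSpectrum Γ(X, W) := q
  let p : PrimeSpectrum Γ(Y, V) := PrimeSpectrum.comap (algebraMap Γ(Y, V) Γ(X, W)) q'
  have hp : f (hW.fromSpec q) = hV.fromSpec p :=
    (congrArg (fun g : Spec Γ(X, W) ⟶ Y => g q) comm).symm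
  rw [hp] at hy
  obtain ⟨ep⟩ := FBase64.nonempty_stalkEquiv (R := Γ(Y, V)) hV.fromSpec p
  have : _root_.IsReduced (Localization.AtPrime (q'.asIdeal.under Γ(Y, V))) :=
    isReduced_of_injective ep.symm ep.symm.injective
  have := isReduced_localization_of_fibres hfib q'.asIdeal
  obtain ⟨eq⟩ := FBase64.nonempty_stalkEquiv (R := Γ(X, W)) hW.fromSpec q
  exact isReduced_of_injective eq eq.injective

end Groth.Agent.Sk62
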