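import Groth.Agent.Sk62.RectDepth
import Groth.Agent.S0402
import Groth.Agent.S4961
import Groth.Agent.EGA4H10.TensorSk
import Mathlib.AlgebraicGeometry.IdealSheaf.Subscheme

/-! The locus where the fibres satisfy Serre's condition is open for a flat morphism. -/

set_option autoImplicit false

universe u

open CategoryTheory AlgebraicGeometry Topology

namespace Groth.Agent.Sk62

variable {X Y : Scheme.{u}}

/-- Points through which a closed set has a piece of large degree in the fibre. -/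
theorem isClosed_exists_le_fdeg (f : X ⟶ Y) [LocallyOfFiniteType f] {K : Set X} (hK : IsClosed K) (n : ℕ) :
    IsClosed {x : X | ∃ z ∈ K, z ⤳ x ∧ f z = f x ∧ n ≤ E4O.fdeg f z} := by
  let I := Scheme.IdealSheafData.vanishingIdeal ⟨K, hK⟩
  let ι := I.subschemeι
  have hr : Set.range ι = K := by
    rw [Scheme.IdealSheafData.range_subschemeι, Scheme.IdealSheafData.coe_support_vanishingIdeal]
    exact rfl
  have hdeg : ∀ w, E4O.fdeg (ι ≫ f) w = E4O.fdeg f (ι w) := fun w =>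
    AffNorm62.fdeg_comp_eq_of_quasiFiniteAt ι f w (ι.quasiFiniteAt w)
  have hsub : {x : X | ∃ z ∈ K, z ⤳ x ∧ f z = f x ∧ n ≤ E4O.fdeg f z} ⊆ K := fun x ⟨z, hz, hzx, _⟩ =>
    hzx.mem_closed hK hz
  cases n with
  | zero =>
    convert hK using 1
    exact Set.Subset.antisymm hsub fun x hx => ⟨x, hx, specializes_rfl, rfl, Nat.zero_le _⟩
  | succ m =>
    convert ι.isClosedEmbedding.isClosedMap _ (S0402.result (ι ≫ f) m).isClosed_compl using 1
    ext x
    constructor
    · intro hx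
      obtain ⟨w, rfl⟩ := hr.ge (hsub hx)
      obtain ⟨z, hz, hzx, hfz, hn⟩ := hx
      obtain ⟨v, rfl⟩ := hr.ge hz
      refine ⟨w, fun h => ?_, rfl⟩
      have h1 := (E4O.fdeg_le_fibreDimAt (f := ι ≫ f) (ι.isEmbedding.isInducing.specializes_iff.1 hzx)
        hfz).trans h
      rw [hdeg] at h1
      have : E4O.fdeg f (ι v) ≤ m := by exact_mod_cast h1
      omega
    · rintro ⟨w, hw, rfl⟩
      obtain ⟨v, hv, hfv, hd, -, -⟩ := E4O.exists_fibreDimAt_eq (ι ≫ f) w
      refine ⟨ι v, hr.le ⟨v, rfl⟩, hv.map ι.continuous, hfv, ?_⟩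
      by_contra hn
      refine hw (?_ : FlatMor.fibreDimAt (ι ≫ f) w ≤ _)
      rw [hd, hdeg]
      exact_mod_cast Nat.lt_succ_iff.1 (not_le.1 hn)

/-- A failure of the Cohen–Macaulay property is a strict inequality of depth and dimension. -/
theorem isCMAt_iff (f : X ⟶ Y) [Flat f] [LocallyOfFiniteType f] (z : X) :
    MoreMor.IsCMAt f z ↔ fdim f z ≤ ((fdepth f z : ℕ∞) : WithBot ℕ∞) := by
  have := isLocalRing_noetherian_fibre f z
  exact ⟨fun h => CAlg1.cmLocal_iff.1 h.2, fun h => ⟨Flat.stalkMap f z, CAlg1.cmLocal_iff.2 h⟩⟩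

theorem isOpen_hasSk (f : X ⟶ Y) [Flat f] [LocallyOfFinitePresentation f] (k : ℕ) :
    IsOpen {x : X | LocCoh.HasSk k ((f.fiber (f x)).presheaf.stalk (f.asFiber x))
      ((f.fiber (f x)).presheaf.stalk (f.asFiber x))} := by
  let B : ℕ → Set X := fun d =>
    {x : X | ∃ z ∈ {z : X | ¬ MoreMor.IsCMAt f z} ∩ {z : X | (d : ℕ∞) ≤ rdepth f z}ᶜ,
      z ⤳ x ∧ f z = f x ∧ d - k ≤ E4O.fdeg f z}
  have hB : ∀ d, IsClosed (B d) := fun d => isClosed_exists_le_fdeg f
    ((S4961.result f).isClosed_compl.inter (isOpen_le_rdepth f d).isClosed_compl) _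
  rw [isOpen_iff_forall_mem_open]
  intro x hx
  obtain ⟨z₀, -, -, hD, -, -⟩ := E4O.exists_fibreDimAt_eq f x
  let D := E4O.fdeg f z₀
  refine ⟨{a : X | FlatMor.fibreDimAt f a ≤ (D : ℕ)} \ ⋃ d ∈ Finset.range (D + k + 1), B d, ?_,
    (S0402.result f D).sdiff ((Finset.range (D + k + 1)).finite_toSet.isClosed_biUnion fun d _ => hB d),
    hD.le, ?_⟩
  · rintro a ⟨ha, hnot⟩
    show LocCoh.HasSk _ _ _
    rw [hasSk_fibre_iff]
    intro z hza hfz
    by_contra h
    rw [min_le_iff, not_or, ← WithBot.coe_natCast, WithBot.coe_le_coe] at h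
    obtain ⟨hk, hcm⟩ := h
    obtain ⟨m, hm⟩ := ENat.ne_top_iff_exists.1 (lt_top_iff_ne_top.1
      (lt_of_lt_of_le (not_le.1 hk) le_top))
    rw [← hm, Nat.cast_le] at hk
    have hdeg : E4O.fdeg f z ≤ D := by
      exact_mod_cast (E4O.fdeg_le_fibreDimAt hza hfz).trans ha
    refine hnot (Set.mem_biUnion (x := E4O.fdeg f z + k) (Finset.mem_range.2 (by omega))
      ⟨z, ⟨fun hz => hcm ((isCMAt_iff f z).1 hz), ?_⟩, hza, hfz, by omega⟩)
    show ¬ ((E4O.fdeg f z + k : ℕ) : ℕ∞) ≤ fdepth f z + (E4O.fdeg f z : ℕ∞)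
    rw [← hm, ← Nat.cast_add, Nat.cast_le]
    omega
  · rintro hmem
    obtain ⟨d, -, z, ⟨hcm, hd⟩, hzx, hfz, hdk⟩ := Set.mem_iUnion₂.1 hmem
    have h := ((hasSk_fibre_iff f k x).1 hx) z hzx hfz
    rw [min_le_iff, ← WithBot.coe_natCast, WithBot.coe_le_coe] at h
    rcases h with h | h
    · refine hd (le_trans ?_ (add_le_add_left h _))
      rw [← Nat.cast_add, Nat.cast_le]
      omega
    · exact hcm ((isCMAt_iff f z).2 h)

/-- `(S_k)` at a point of a fibre. -/
theorem hasSk_fiber_iff (f : X ⟶ Y) [LocallyOfFiniteType f] (k : ℕ) (y : Y) (w : ↥(f.fiber y)) :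
    LocCoh.HasSk k ((f.fiber y).presheaf.stalk w) ((f.fiber y).presheaf.stalk w) ↔
      LocCoh.HasSk k ((f.fiber (f (f.fiberι y w))).presheaf.stalk (f.asFiber (f.fiberι y w)))
        ((f.fiber (f (f.fiberι y w))).presheaf.stalk (f.asFiber (f.fiberι y w))) := by
  have key : ∀ (y : Y) (x : X) (hy : f x = y) (w : ↥(f.fiber y)) (hw : f.fiberι y w = x),
      LocCoh.HasSk k ((f.fiber y).presheaf.stalk w) ((f.fiber y).presheaf.stalk w) ↔
      LocCoh.HasSk k ((f.fiber (f x)).presheaf.stalk (f.asFiber x))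
        ((f.fiber (f x)).presheaf.stalk (f.asFiber x)) := by
    intro y x hy w hw
    subst hy
    have : w = f.asFiber x :=
      (E4O.isEmbedding_fiberι f (f x)).injective (hw.trans (f.fiberι_asFiber x).symm)
    rw [this]
  exact key y _ (E4O.apply_fiberι f y w) w rfl

/-- `(S_k)` of the fibre is local on the source. -/
theorem hasSk_openImmersion_comp_iff {U : Scheme.{u}} (j : U ⟶ X) [IsOpenImmersion j] (f : X ⟶ Y)
    [LocallyOfFiniteType f] (k : ℕ) (x : U) :
    LocCoh.HasSk k (((j ≫ f).fiber ((j ≫ f) x)).presheaf.stalk ((j ≫ f).asFiber x))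
        (((j ≫ f).fiber ((j ≫ f) x)).presheaf.stalk ((j ≫ f).asFiber x)) ↔
      LocCoh.HasSk k ((f.fiber (f (j x))).presheaf.stalk (f.asFiber (j x)))
        ((f.fiber (f (j x))).presheaf.stalk (f.asFiber (j x))) := by
  have hbij : Function.Bijective (j.stalkMap x).hom :=
    (ConcreteCategory.isIso_iff_bijective (j.stalkMap x)).1 inferInstance
  let e : X.presheaf.stalk (j x) ≃+* U.presheaf.stalk x := RingEquiv.ofBijective _ hbij
  have hmap : ((IsLocalRing.maximalIdeal (Y.presheaf.stalk (f (j x)))).map (f.stalkMap (j x)).hom).map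
      e.toRingHom =
      (IsLocalRing.maximalIdeal (Y.presheaf.stalk ((j ≫ f) x))).map ((j ≫ f).stalkMap x).hom := by
    rw [Scheme.Hom.stalkMap_comp]
    exact Ideal.map_map _ _
  let E₀ : CM62.FibQuot f (j x) ≃+* CM62.FibQuot (j ≫ f) x := Ideal.quotientEquiv _ _ e hmap.symm
  let E := (FlatMor68.FibreStalk.fibreStalkEquivAt f (j x)).symm.trans
    (E₀.trans (FlatMor68.FibreStalk.fibreStalkEquivAt (j ≫ f) x))
  have := isLocalRing_noetherian_fibre f (j x)
  have := isLocalRing_noetherian_fibre (j ≫ f) x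
  exact ⟨EGA4H10.hasSk_self_ringEquiv E.symm k, EGA4H10.hasSk_self_ringEquiv E k⟩

end Groth.Agent.Sk62
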