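import Groth.Agent.Sk62.GeomRedFibre
import Groth.Agent.Sk62.RedPoint
import Groth.Agent.Sk62.Open
import Groth.Agent.S0386

/-! Open loci: reduced stalks, flat with geometrically reduced fibre. -/

set_option autoImplicit false

universe u

open CategoryTheory CategoryTheory.Limits AlgebraicGeometry Topology

namespace Groth.Agent.Sk62

variable {X Y : Scheme.{u}}

/-- On a locally Noetherian scheme the points with reduced local ring form an open set. -/
theorem isOpen_setOf_isReduced_stalk (X : Scheme.{u}) [IsLocallyNoetherian X] :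
    IsOpen {x : X | _root_.IsReduced (X.presheaf.stalk x)} := by
  rw [isOpen_iff_forall_mem_open]
  intro x hx
  obtain ⟨U, hU, hxU, -⟩ := exists_isAffineOpen_mem_and_subset (X := X) (x := x) (U := ⊤) trivial
  have : IsNoetherianRing Γ(X, U) := IsLocallyNoetherian.component_noetherian ⟨U, hU⟩
  obtain ⟨s, hs⟩ := (IsNoetherian.noetherian (nilradical Γ(X, U)) : (nilradical Γ(X, U)).FG)
  let P := hU.primeIdealOf ⟨x, hxU⟩
  let := TopCat.Presheaf.algebra_section_stalk X.presheaf ⟨x, hxU⟩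
  have := hU.isLocalization_stalk ⟨x, hxU⟩
  have key : ∀ n ∈ s, ∃ c : Γ(X, U), c ∉ P.asIdeal ∧ c * n = 0 := fun n hn => by
    have h : algebraMap Γ(X, U) (X.presheaf.stalk x) n = 0 := by
      have hn' : n ∈ nilradical Γ(X, U) := hs ▸ Submodule.subset_span hn
      have hnil : IsNilpotent n := mem_nilradical.1 hn'
      have : _root_.IsReduced (X.presheaf.stalk x) := hx
      exact (hnil.map (algebraMap Γ(X, U) (X.presheaf.stalk x))).eq_zero
    obtain ⟨c, hc⟩ := (IsLocalization.map_eq_zero_iff P.asIdeal.primeCompl _ n).1 h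
    exact ⟨c, c.2, hc⟩
  choose c hc hcn using key
  let t : Γ(X, U) := ∏ n ∈ s.attach, c n.1 n.2
  refine ⟨X.basicOpen t, fun y hy => ?_, (X.basicOpen t).isOpen, ?_⟩
  · have hyU : y ∈ U := X.basicOpen_le t hy
    let := TopCat.Presheaf.algebra_section_stalk X.presheaf ⟨y, hyU⟩
    have := hU.isLocalization_stalk ⟨y, hyU⟩
    have hty : t ∉ (hU.primeIdealOf ⟨y, hyU⟩).asIdeal := fun h => by
      have := (X.mem_basicOpen t y hyU).1 hy
      exact (IsLocalization.AtPrime.isUnit_to_map_iff (X.presheaf.stalk y) _ t).1 this h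
    refine ⟨fun a ha => ?_⟩
    obtain ⟨b, ⟨m, hm⟩, rfl⟩ := IsLocalization.exists_mk'_eq (hU.primeIdealOf ⟨y, hyU⟩).asIdeal.primeCompl a
    obtain ⟨k, hk⟩ := ha
    rw [← IsLocalization.mk'_pow, IsLocalization.mk'_eq_zero_iff] at hk
    obtain ⟨⟨d, hd⟩, hd'⟩ := hk
    have hnil : d * b ∈ Ideal.span (s : Set Γ(X, U)) := by
      rw [Ideal.span, hs, mem_nilradical]
      refine ⟨k + 1, ?_⟩
      rw [mul_pow, pow_succ d, pow_succ b, show d ^ k * d * (b ^ k * b) = (d * b ^ k) * (d ^ k * b) by ring,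
        show d * b ^ k = 0 from hd', zero_mul]
    have htdb : t * (d * b) = 0 := by
      generalize d * b = v at hnil ⊢
      induction hnil using Submodule.span_induction with
      | mem n hn =>
        classical
        show t * n = 0
        rw [show t = c n hn * ∏ k ∈ s.attach.erase ⟨n, hn⟩, c k.1 k.2 from
          (Finset.mul_prod_erase s.attach (fun k => c k.1 k.2) (Finset.mem_attach s ⟨n, hn⟩)).symm,
          mul_right_comm, hcn, zero_mul]
      | zero => exact mul_zero t
      | add p q _ _ hp hq => rw [mul_add, hp, hq, add_zero]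
      | smul r p _ hp => rw [smul_eq_mul, mul_left_comm, hp, mul_zero]
    rw [IsLocalization.mk'_eq_zero_iff]
    exact ⟨⟨t * d, Submonoid.mul_mem _ hty hd⟩, by rw [← htdb]; ring⟩
  · refine (X.mem_basicOpen t x hxU).2 ((IsLocalization.AtPrime.isUnit_to_map_iff (X.presheaf.stalk x) P.asIdeal t).2 ?_)
    exact (Submonoid.prod_mem P.asIdeal.primeCompl fun n _ => hc n.1 n.2)

theorem fibre_stalk_equiv_openImmersion {U : Scheme.{u}} (j : U ⟶ X) [IsOpenImmersion j] (f : X ⟶ Y) (x : U) :
    Nonempty ((f.fiber (f (j x))).presheaf.stalk (f.asFiber (j x)) ≃+*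
      ((j ≫ f).fiber ((j ≫ f) x)).presheaf.stalk ((j ≫ f).asFiber x)) := by
  have hbij : Function.Bijective (j.stalkMap x).hom :=
    (ConcreteCategory.isIso_iff_bijective (j.stalkMap x)).1 inferInstance
  let e : X.presheaf.stalk (j x) ≃+* U.presheaf.stalk x := RingEquiv.ofBijective _ hbij
  have hmap : ((IsLocalRing.maximalIdeal (Y.presheaf.stalk (f (j x)))).map (f.stalkMap (j x)).hom).map
      e.toRingHom =
      (IsLocalRing.maximalIdeal (Y.presheaf.stalk ((j ≫ f) x))).map ((j ≫ f).stalkMap x).hom := by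
    rw [Scheme.Hom.stalkMap_comp]
    exact Ideal.map_map _ _
  let E₀ : CM62.FibQuot f (j x) ≃+* CM62.FibQuot (j ≫ f) x := Ideal.quotientEquiv _ _ e hmap.symm
  exact ⟨(FlatMor68.FibreStalk.fibreStalkEquivAt f (j x)).symm.trans
    (E₀.trans (FlatMor68.FibreStalk.fibreStalkEquivAt (j ≫ f) x))⟩

theorem fdim_openImmersion {U : Scheme.{u}} (j : U ⟶ X) [IsOpenImmersion j] (f : X ⟶ Y) (x : U) :
    fdim (j ≫ f) x = fdim f (j x) := by
  obtain ⟨e⟩ := fibre_stalk_equiv_openImmersion j f x
  exact (ringKrullDim_eq_of_ringEquiv e).symm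

theorem isGeomReducedAt_fibre_openImmersion {U : Scheme.{u}} (j : U ⟶ X) [IsOpenImmersion j] (f : X ⟶ Y)
    [LocallyOfFinitePresentation f] (x : U) :
    FBase.IsGeomReducedAt ((j ≫ f).fiberToSpecResidueField ((j ≫ f) x)) ((j ≫ f).asFiber x) ↔
      FBase.IsGeomReducedAt (f.fiberToSpecResidueField (f (j x))) (f.asFiber (j x)) := by
  rw [isGeomReducedAt_fibre_iff, isGeomReducedAt_fibre_iff, hasSk_openImmersion_comp_iff]
  refine and_congr_right fun _ => ⟨fun h z hz hfz hd => ?_, fun h z hz hfz hd => ?_⟩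
  · obtain ⟨a, rfl⟩ : z ∈ Set.range j := hz.mem_open j.isOpenEmbedding.isOpen_range ⟨x, rfl⟩
    have := h a (j.isOpenEmbedding.toIsInducing.specializes_iff.1 hz) hfz ((fdim_openImmersion j f a).trans hd)
    rwa [Open62.fibreSmooth_openImmersion_comp] at this
  · rw [Open62.fibreSmooth_openImmersion_comp]
    exact h (j z) (hz.map j.continuous) hfz ((fdim_openImmersion j f z).symm.trans hd)

/-- Flat with geometrically reduced fibre is an open condition. -/
theorem isOpen_flat_geomReduced (f : X ⟶ Y) [LocallyOfFinitePresentation f] :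
    IsOpen {x : X | (f.stalkMap x).hom.Flat ∧
      FBase.IsGeomReducedAt (f.fiberToSpecResidueField (f x)) (f.asFiber x)} := by
  let U : X.Opens := ⟨{x : X | (f.stalkMap x).hom.Flat}, S0386.result f⟩
  have : Flat (U.ι ≫ f) := Flat.of_stalkMap _ fun x => by
    rw [Scheme.Hom.stalkMap_comp]
    exact (RingHom.Flat.respectsIso.cancel_right_isIso _ _).2 x.2
  convert U.isOpen.isOpenMap_subtype_val _ (isOpen_isGeomReducedAt_fibre (U.ι ≫ f)) using 1
  ext x
  constructor
  · rintro ⟨hfl, hgr⟩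
    exact ⟨⟨x, hfl⟩, (isGeomReducedAt_fibre_openImmersion U.ι f ⟨x, hfl⟩).2 hgr, rfl⟩
  · rintro ⟨a, ha, rfl⟩
    exact ⟨a.2, (isGeomReducedAt_fibre_openImmersion U.ι f a).1 ha⟩

end Groth.Agent.Sk62
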