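import Groth.Agent.Sk62.RedPoint
import Groth.Agent.FlatCrit65.Assassin.FlatAssoc
import Groth.Agent.SchBasics.OpenSmoothGeom
import Groth.Agent.Cohen12.GeomRegular
import Groth.Agent.Cohen12.CohenFS
import Groth.Agent.Unr55.StalkCrit
import Groth.Agent.FlatMor68.FibreStalk

/-! Flatness from universal openness and geometrically reduced fibres over a reduced base. -/

set_option autoImplicit false
set_option backward.isDefEq.respectTransparency.types false
set_option maxHeartbeats 1000000

universe u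

open CategoryTheory CategoryTheory.Limits AlgebraicGeometry IsLocalRing TensorProduct

namespace Groth.Agent.Sk62

variable {X Y : Scheme.{u}}

/-- The local ring of a smooth point of a fibre is formally smooth over the residue field. -/
theorem formallySmooth_quotientMap_of_fibre (f : X ⟶ Y) [LocallyOfFinitePresentation f] (y : Y)
    [LocallyOfFinitePresentation (f.fiberToSpecResidueField y)] (w : ↥(f.fiber y))
    (hw : w ∈ (f.fiberToSpecResidueField y).smoothLocus) :
    (Ideal.quotientMap ((maximalIdeal (Y.presheaf.stalk (f (f.fiberι y w)))).map (f.stalkMap (f.fiberι y w)).hom)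
      (f.stalkMap (f.fiberι y w)).hom Ideal.le_comap_map).FormallySmooth := by
  set φ := (f.stalkMap (f.fiberι y w)).hom with hφ
  let ψ := ((f.fiberι y).stalkMap w).hom
  let I := (maximalIdeal (Y.presheaf.stalk (f (f.fiberι y w)))).map φ
  let g := f.fiberToSpecResidueField y
  have hs : Function.Surjective ψ := FlatMor68.FibreStalk.fiberι_stalkMap_surjective f y w
  have hk : RingHom.ker ψ = I := FlatMor68.FibreStalk.ker_fiberι_stalkMap f y w
  have e := Scheme.Hom.stalkMap_congr_hom _ _ (f.fiber_fac y) w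
  rw [Scheme.Hom.stalkMap_comp, Scheme.Hom.stalkMap_comp] at e
  -- the composite as a formally smooth map after a surjection
  obtain ⟨b, hbs, hb⟩ : ∃ b : Y.presheaf.stalk (f (f.fiberι y w)) →+* (Spec (Y.residueField y)).presheaf.stalk (g w),
      Function.Surjective b ∧ (g.stalkMap w).hom.comp b = RingHom.comp ψ φ := by
    refine ⟨((Y.presheaf.stalkCongr (.of_eq (congrArg (fun φ => φ.base w) (f.fiber_fac y)))).hom ≫
        (Y.fromSpecResidueField y).stalkMap (g w)).hom,
      fun t => ?_, ?_⟩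
    · obtain ⟨a, rfl⟩ := (Y.fromSpecResidueField y).stalkMap_surjective (g w) t
      obtain ⟨r, rfl⟩ := (ConcreteCategory.bijective_of_isIso
        ((Y.presheaf.stalkCongr (.of_eq (congrArg (fun φ => φ.base w) (f.fiber_fac y)))).hom)).surjective a
      exact ⟨r, rfl⟩
    exact RingHom.ext fun r => (congrArg (fun k => k.hom r) e).symm
  let ψ' : _ ⧸ I ≃+* (f.fiber y).presheaf.stalk w :=
    (Ideal.quotEquivOfEq hk.symm).trans (RingHom.quotientKerEquivOfSurjective hs)
  let m := maximalIdeal (Y.presheaf.stalk (f (f.fiberι y w)))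
  have hbm : ∀ r ∈ m, b r = 0 := fun r hr => by
    have h := FlatMor68.FibreStalk.spec_field_stalk_maximalIdeal (Y.residueField y) (g w)
    by_contra hne
    have hu : IsUnit (b r) := by
      by_contra hu
      exact hne (Ideal.mem_bot.1 (h.le ((mem_maximalIdeal _).2 hu)))
    have h2 : IsUnit (ψ (φ r)) := by
      rw [← RingHom.comp_apply, ← hb]
      exact hu.map (g.stalkMap w).hom
    have h3 : ψ (φ r) = 0 := RingHom.mem_ker.1 (hk.ge (Ideal.mem_map_of_mem φ hr))
    exact not_isUnit_zero (h3 ▸ h2)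
  let b' := Ideal.Quotient.lift m b hbm
  have hb' : Function.Bijective b' := by
    let _ := Ideal.Quotient.field m
    exact ⟨b'.injective, Ideal.Quotient.lift_surjective_of_surjective m hbm hbs⟩
  have heq : Ideal.quotientMap I φ Ideal.le_comap_map =
      ψ'.symm.toRingHom.comp ((g.stalkMap w).hom.comp b') := by
    refine Ideal.Quotient.ringHom_ext (RingHom.ext fun r => ?_)
    apply ψ'.injective
    show ψ' (Ideal.Quotient.mk I (φ r)) = ψ' (ψ'.symm ((g.stalkMap w).hom (b r)))
    rw [RingEquiv.apply_symm_apply]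
    exact (RingHom.congr_fun hb r).symm
  rw [heq]
  exact RingHom.FormallySmooth.comp (RingHom.FormallySmooth.comp (.of_bijective hb') (Scheme.Hom.mem_smoothLocus.1 hw))
    (.of_bijective ψ'.symm.bijective)

theorem flat_of_smooth_restrict (f : X ⟶ Y) (U : X.Opens) [Smooth (U.ι ≫ f)] {x : X} (hx : x ∈ U) :
    (f.stalkMap x).hom.Flat := by
  let u : ↥(U : Scheme.{u}) := ⟨x, hx⟩
  have h : ((U.ι ≫ f).stalkMap u).hom.Flat := Flat.stalkMap _ _
  rw [Scheme.Hom.stalkMap_comp] at h
  exact (RingHom.Flat.respectsIso.cancel_right_isIso (f.stalkMap (U.ι u)) (U.ι.stalkMap u)).1 h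

/-- Universally open at a maximal point of a fibre with a separable residue extension: flat. -/
theorem flat_stalkMap_of_fibreMax [IsLocallyNoetherian Y] (f : X ⟶ Y) [LocallyOfFiniteType f]
    [LocallyOfFinitePresentation f] [∀ y : Y, LocallyOfFinitePresentation (f.fiberToSpecResidueField y)]
    (z : X) (hmax : ∀ z', z' ⤳ z → f z' = f z → z' = z)
    (hopen : EGA43.IsUnivOpenAt f z) (hy : _root_.IsReduced (Y.presheaf.stalk (f z)))
    (hz : z ∈ Open62.fibreSmooth f) : (f.stalkMap z).hom.Flat := by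
  have hsm := (Open62.mem_fibreSmooth_iff f z).1 hz
  obtain ⟨y, w, hw, rfl⟩ : ∃ (y : Y) (w : ↥(f.fiber y)), w ∈ (f.fiberToSpecResidueField y).smoothLocus ∧
      f.fiberι y w = z := ⟨f z, f.asFiber z, hsm, f.fiberι_asFiber z⟩
  let φ := (f.stalkMap (f.fiberι y w)).hom
  let m := maximalIdeal (Y.presheaf.stalk (f (f.fiberι y w)))
  obtain ⟨U, hzU, hU⟩ := SchBasics.OpenSmooth.smooth_nhd_of_univOpen f (f.fiberι y w) hy
    (fun x' h1 h2 _ => hmax x' h1 h2 ▸ hopen) (by
      let _ : Algebra (ResidueField (Y.presheaf.stalk (f (f.fiberι y w))))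
          (X.presheaf.stalk (f.fiberι y w) ⧸ m.map φ) :=
        (Ideal.quotientMap (m.map φ) φ Ideal.le_comap_map).toAlgebra
      have : Algebra.FormallySmooth (ResidueField (Y.presheaf.stalk (f (f.fiberι y w))))
          (X.presheaf.stalk (f.fiberι y w) ⧸ m.map φ) :=
        formallySmooth_quotientMap_of_fibre f y w hw
      have hle : m.map φ ≤ maximalIdeal _ :=
        ((local_hom_TFAE φ).out 0 2 rfl rfl).mp (f.toLRSHom.prop _)
      have : Nontrivial (X.presheaf.stalk (f.fiberι y w) ⧸ m.map φ) :=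
        Ideal.Quotient.nontrivial_iff.2 (ne_top_of_le_ne_top (maximalIdeal.isMaximal _).ne_top hle)
      have : IsLocalRing (X.presheaf.stalk (f.fiberι y w) ⧸ m.map φ) :=
        IsLocalRing.of_surjective' _ Ideal.Quotient.mk_surjective
      have : IsLocallyNoetherian X := LocallyOfFiniteType.isLocallyNoetherian f
      exact Cohen12.isGeometricallyRegular_of_formallySmooth
        (Cohen12.isAdicFormallySmooth_of_formallySmooth _))
  exact flat_of_smooth_restrict f U hzU

section Ring

variable {A B : Type u} [CommRing A] [CommRing B] [Algebra A B]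

theorem fiber_prime_le (p : Ideal A) [p.IsPrime] (Q Q' : Ideal (p.Fiber B)) [Q.IsPrime] [Q'.IsPrime]
    (h : Q.comap Algebra.TensorProduct.includeRight ≤ Q'.comap Algebra.TensorProduct.includeRight) :
    Q ≤ Q' :=
  ((PrimeSpectrum.preimageOrderIsoFiber A B ⟨p, inferInstance⟩).symm.le_iff_le
    (x := ⟨Q, inferInstance⟩) (y := ⟨Q', inferInstance⟩)).1 h

/-- In a fibre which is reduced at a point, associated primes below it are minimal. -/
theorem assoc_minimal {F : Type u} [CommRing F] (Q Q' P : Ideal F) [Q.IsPrime] [hP : P.IsPrime]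
    [_root_.IsReduced (Localization.AtPrime Q)] (hQ' : Q' ≤ Q) (hass : Q' ∈ associatedPrimes F F)
    (hPQ : P ≤ Q') : P = Q' := by
  obtain ⟨hprime, a, ha⟩ := hass
  have hmem : ∀ r : F, r ∈ Q' ↔ ∃ n : ℕ, r ^ n * a = 0 := fun r => by
    rw [ha]
    simp [Ideal.mem_radical_iff, Submodule.mem_colon_singleton]
  have ha0 : algebraMap F (Localization.AtPrime Q) a ≠ 0 := fun h => by
    obtain ⟨c, hc⟩ := (IsLocalization.map_eq_zero_iff Q.primeCompl _ a).1 h
    exact c.2 (hQ' ((hmem c).2 ⟨1, by rw [pow_one, hc]⟩))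
  have haQ : a ∉ Q' := fun h => by
    obtain ⟨n, hn⟩ := (hmem a).1 h
    refine ha0 (IsNilpotent.eq_zero ⟨n + 1, ?_⟩)
    rw [← map_pow, pow_succ, hn, map_zero]
  refine le_antisymm hPQ fun s hs => ?_
  obtain ⟨n, hn⟩ := (hmem s).1 hs
  rcases hP.mem_or_mem (hn ▸ P.zero_mem : s ^ n * a ∈ P) with h | h
  · exact hP.mem_of_pow_mem n h
  · exact absurd (hPQ h) haQ

end Ring

attribute [local instance] Algebra.TensorProduct.rightAlgebra in
theorem flat_stalkMap_of_isUnivOpenAt [IsLocallyNoetherian Y] (f : X ⟶ Y) [LocallyOfFiniteType f] (x : X)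
    (hopen : ∀ z : ↥(f.fiber (f x)), f.asFiber x ∈ closure {z} →
      (∀ z' : ↥(f.fiber (f x)), z ∈ closure {z'} → z' = z) → EGA43.IsUnivOpenAt f (f.fiberι (f x) z))
    (hred : FBase.IsGeomReducedAt (f.fiberToSpecResidueField (f x)) (f.asFiber x))
    (hy : _root_.IsReduced (Y.presheaf.stalk (f x))) : (f.stalkMap x).hom.Flat := by
  have hlfp : LocallyOfFinitePresentation f := E4O.locallyOfFinitePresentation_of_isLocallyNoetherian f
  have : ∀ y : Y, LocallyOfFinitePresentation (f.fiberToSpecResidueField y) := fun y =>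
    inferInstanceAs (LocallyOfFinitePresentation (pullback.snd f (Y.fromSpecResidueField y)))
  obtain ⟨V, hV, hyV, -⟩ := exists_isAffineOpen_mem_and_subset (X := Y) (x := f x) (U := ⊤) trivial
  obtain ⟨W, hW, hxW, hWV⟩ := exists_isAffineOpen_mem_and_subset (X := X) (x := x) (U := f ⁻¹ᵁ V) hyV
  have hle : W ≤ f ⁻¹ᵁ V := fun a ha => hWV ha
  algebraize [(f.appLE V W hle).hom]
  have : Algebra.FinitePresentation Γ(Y, V) Γ(X, W) :=
    LocallyOfFinitePresentation.finitePresentation_appLE f hV hW hle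
  have := hW.isOpenImmersion_fromSpec
  have := hV.isOpenImmersion_fromSpec
  have comm : Spec.map (f.appLE V W hle) ≫ hV.fromSpec = hW.fromSpec ≫ f :=
    IsAffineOpen.SpecMap_appLE_fromSpec f hV hW hle
  obtain ⟨q, rfl⟩ := hW.range_fromSpec.ge hxW
  let q' : PrimeSpectrum Γ(X, W) := q
  let p := q'.asIdeal.under Γ(Y, V)
  rw [Unr55.flat_stalkMap_iff_chart f hV hW hle q']
  refine FlatCrit65.flat_localized_of_assoc (N := Γ(X, W)) p q'.asIdeal rfl fun q₁ hq₁ hle₁ hover hass => ?_
  let z₁ : PrimeSpectrum Γ(X, W) := ⟨q₁, hq₁⟩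
  have hp₁ : p = q₁.under Γ(Y, V) := hover.over
  have hfc : ∀ b : Spec Γ(X, W), f (hW.fromSpec b) = hV.fromSpec (Spec.map (f.appLE V W hle) b) := fun b =>
    (congrArg (fun g : Spec Γ(X, W) ⟶ Y => g b) comm).symm
  have hfz : f (hW.fromSpec z₁) = f (hW.fromSpec q) := by
    refine (hfc z₁).trans (Eq.trans ?_ (hfc q).symm)
    exact congrArg hV.fromSpec (PrimeSpectrum.ext hp₁.symm)
  -- the fibre is reduced at the point
  obtain ⟨Q, _, hQ⟩ := exists_fiber_prime q' p rfl
  have hQred : _root_.IsReduced (Localization.AtPrime Q) := by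
    obtain ⟨e⟩ := exists_fibreRing_fiber p Q q' hQ
    obtain ⟨-, -, ⟨E⟩⟩ := fibreRing_data f hW.fromSpec hV.fromSpec comm q'
    have := isReduced_stalk_of_isGeomReducedAt _ _ hred
    exact isReduced_of_injective (e.trans E) (e.trans E).injective
  obtain ⟨Q₁, _, hQ₁⟩ := exists_fiber_prime z₁ p hp₁
  have hfi : FlatCA.fiberIdeal p q₁ = Q₁ := by
    have hass' := FlatCrit65.fiberIdeal_mem_ass hass
    have hpr : (FlatCA.fiberIdeal p q₁).IsPrime := IsAssociatedPrime.isPrime hass'
    refine le_antisymm (Ideal.map_le_iff_le_comap.2 hQ₁.ge) (fiber_prime_le p _ _ ?_)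
    rw [hQ₁]
    exact Ideal.le_comap_map
  have hassF : Q₁ ∈ associatedPrimes (p.Fiber Γ(X, W)) (p.Fiber Γ(X, W)) := by
    have h := FlatCrit65.fiberIdeal_mem_ass hass
    rw [hfi] at h
    exact (LinearEquiv.AssociatedPrimes.eq (TensorProduct.AlgebraTensorModule.rid Γ(X, W)
      (p.Fiber Γ(X, W)) (p.Fiber Γ(X, W)))).le h
  have hmax : ∀ z', z' ⤳ hW.fromSpec z₁ → f z' = f (hW.fromSpec z₁) → z' = hW.fromSpec z₁ := by
    intro z' hz' hfz'
    obtain ⟨b, rfl⟩ := hz'.mem_open hW.fromSpec.isOpenEmbedding.isOpen_range ⟨z₁, rfl⟩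
    have hb : (show PrimeSpectrum Γ(X, W) from b).asIdeal ≤ q₁ := (PrimeSpectrum.le_iff_specializes b z₁).2
      (hW.fromSpec.isOpenEmbedding.isInducing.specializes_iff.1 hz')
    have hbp : p = (show PrimeSpectrum Γ(X, W) from b).asIdeal.under Γ(Y, V) := by
      exact (congrArg PrimeSpectrum.asIdeal (hV.fromSpec.isOpenEmbedding.injective
        (((hfc b).symm.trans (hfz'.trans hfz)).trans (hfc q)))).symm
    obtain ⟨P, _, hPb⟩ := exists_fiber_prime (show PrimeSpectrum Γ(X, W) from b) p hbp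
    have h1 := assoc_minimal Q Q₁ P (fiber_prime_le p _ _ (by rw [hQ₁, hQ]; exact hle₁)) hassF
      (fiber_prime_le p _ _ (by rw [hPb, hQ₁]; exact hb))
    exact congrArg hW.fromSpec (PrimeSpectrum.ext (by rw [← hPb, h1, hQ₁]))
  have hspec : hW.fromSpec z₁ ⤳ hW.fromSpec q :=
    ((PrimeSpectrum.le_iff_specializes z₁ q').1 hle₁).map hW.fromSpec.continuous
  -- it is a smooth point of the fibre, at which `f` is universally open
  obtain ⟨w, hw⟩ := E4O.exists_fiberι_eq f hfz
  have hwx : w ⤳ f.asFiber (hW.fromSpec q) := by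
    refine (E4O.specializes_fiberι_iff f _ _ _).1 ?_
    rw [hw, f.fiberι_asFiber]
    exact hspec
  have hwmax := (E4O.isFibreMax_fiberι_iff f _ w).1 (hw.symm ▸ hmax)
  have ho : EGA43.IsUnivOpenAt f (hW.fromSpec z₁) := hw ▸ hopen w (specializes_iff_mem_closure.1 hwx)
    fun z' hz' => hwmax z' (specializes_iff_mem_closure.2 hz')
  have hdim : fdim f (hW.fromSpec z₁) = 0 := by
    obtain ⟨k, m, hk, -, hkd⟩ := exists_invariants f (hW.fromSpec z₁)
    rw [E4O.fibreDimAt_eq_fdeg hmax] at hkd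
    have : k + E4O.fdeg f (hW.fromSpec z₁) = E4O.fdeg f (hW.fromSpec z₁) := by exact_mod_cast hkd.symm
    rw [hk, show k = 0 by omega]
    rfl
  have hflat := flat_stalkMap_of_fibreMax f (hW.fromSpec z₁) hmax ho (by rw [hfz]; exact hy)
    (((isGeomReducedAt_fibre_iff f _).1 hred).2 _ hspec hfz hdim)
  exact (Unr55.flat_stalkMap_iff_chart f hV hW hle z₁).1 hflat

end Groth.Agent.Sk62
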