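import Groth.Agent.Dim62.Stalk
import Groth.Agent.CAlg1.SkFlat
import Groth.Agent.CAlg1.SerreNormal
import Groth.Agent.E4O.FibreComp
import Groth.Prelude.Def_CAlg

/-! Serre's condition of a local ring of a scheme, read off on the generizations. -/

universe u

open CategoryTheory AlgebraicGeometry Topology

namespace Groth.Agent.Sk62

variable {X Y : Scheme.{u}}

/-- The localisations of a stalk are the stalks at the generizations. -/
theorem exists_ringEquiv_localization_stalk (x : X) (Q : PrimeSpectrum (X.presheaf.stalk x)) :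
    Nonempty (Localization.AtPrime Q.asIdeal ≃+* X.presheaf.stalk (X.fromSpecStalk x Q)) := by
  obtain ⟨R, e, he, P, rfl⟩ : ∃ (R : CommRingCat.{u}) (e : Spec R ⟶ X) (_ : IsOpenImmersion e)
      (P : PrimeSpectrum R), e P = x := by
    obtain ⟨V, hV, hxV, -⟩ := exists_isAffineOpen_mem_and_subset (x := x) (U := (⊤ : X.Opens)) trivial
    obtain ⟨P, hP⟩ := hV.range_fromSpec.ge hxV
    exact ⟨_, hV.fromSpec, hV.isOpenImmersion_fromSpec, P, hP⟩
  obtain ⟨a, ha, hpt⟩ := Dim62.exists_stalk_algebra (R := R) e P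
  let q : PrimeSpectrum R := PrimeSpectrum.comap (algebraMap R _) Q
  obtain ⟨b, hb, -⟩ := Dim62.exists_stalk_algebra (R := R) e q
  have : IsLocalization.AtPrime (Localization.AtPrime Q.asIdeal) q.asIdeal :=
    IsLocalization.isLocalization_isLocalization_atPrime_isLocalization P.asIdeal.primeCompl
      (Localization.AtPrime Q.asIdeal) Q.asIdeal
  have e₁ : Localization.AtPrime Q.asIdeal ≃+* X.presheaf.stalk (e q) :=
    (IsLocalization.algEquiv q.asIdeal.primeCompl (Localization.AtPrime Q.asIdeal)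
      (X.presheaf.stalk (e q))).toRingEquiv
  have h : e q = X.fromSpecStalk (e P) Q := (hpt Q).symm
  exact ⟨e₁.trans (X.presheaf.stalkCongr (.of_eq h)).commRingCatIsoToRingEquiv⟩

theorem hasSk_stalk_iff [IsLocallyNoetherian X] (k : ℕ) (x : X) :
    LocCoh.HasSk k (X.presheaf.stalk x) (X.presheaf.stalk x) ↔ ∀ z : X, z ⤳ x →
      min (k : WithBot ℕ∞) (ringKrullDim (X.presheaf.stalk z)) ≤
        ((LocCoh.depth (X.presheaf.stalk z) (X.presheaf.stalk z) : ℕ∞) : WithBot ℕ∞) := by
  have key : ∀ Q : PrimeSpectrum (X.presheaf.stalk x),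
      ((Q.asIdeal.height : ℕ∞) : WithBot ℕ∞) = ringKrullDim (X.presheaf.stalk (X.fromSpecStalk x Q)) ∧
        LocCoh.depth (Localization.AtPrime Q.asIdeal) (Localization.AtPrime Q.asIdeal) =
          LocCoh.depth (X.presheaf.stalk (X.fromSpecStalk x Q)) (X.presheaf.stalk (X.fromSpecStalk x Q)) := by
    intro Q
    obtain ⟨e⟩ := exists_ringEquiv_localization_stalk x Q
    have : IsNoetherianRing (Localization.AtPrime Q.asIdeal) :=
      IsLocalization.isNoetherianRing Q.asIdeal.primeCompl _ inferInstance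
    exact ⟨(IsLocalization.AtPrime.ringKrullDim_eq_height Q.asIdeal (Localization.AtPrime Q.asIdeal)).symm.trans
      (ringKrullDim_eq_of_ringEquiv e), CAlg1.depth_eq_of_ringEquiv e⟩
  rw [CAlg1.hasSk_self_iff]
  constructor
  · intro h z hz
    obtain ⟨Q, rfl⟩ : z ∈ Set.range (X.fromSpecStalk x) := by
      rw [Scheme.range_fromSpecStalk]; exact hz
    let Q' : PrimeSpectrum (X.presheaf.stalk x) := Q
    obtain ⟨h1, h2⟩ := key Q'
    rw [← h1, ← h2, ← WithBot.coe_natCast, ← WithBot.coe_min, WithBot.coe_le_coe]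
    exact h Q'.asIdeal
  · intro h p _
    obtain ⟨h1, h2⟩ := key ⟨p, inferInstance⟩
    have h3 := h _ ((Scheme.range_fromSpecStalk (X := X) (x := x)).le ⟨(⟨p, inferInstance⟩ : PrimeSpectrum _), rfl⟩)
    rw [← h1, ← h2, ← WithBot.coe_natCast, ← WithBot.coe_min, WithBot.coe_le_coe] at h3
    exact h3

/-- The depth of the local ring of the fibre. -/
noncomputable def fdepth (f : X ⟶ Y) (z : X) : ℕ∞ :=
  LocCoh.depth ((f.fiber (f z)).presheaf.stalk (f.asFiber z))
    ((f.fiber (f z)).presheaf.stalk (f.asFiber z))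

/-- The dimension of the local ring of the fibre. -/
noncomputable def fdim (f : X ⟶ Y) (z : X) : WithBot ℕ∞ :=
  ringKrullDim ((f.fiber (f z)).presheaf.stalk (f.asFiber z))

theorem fibre_invariants (f : X ⟶ Y) (y : Y) (w : ↥(f.fiber y)) :
    ringKrullDim ((f.fiber y).presheaf.stalk w) = fdim f (f.fiberι y w) ∧
      LocCoh.depth ((f.fiber y).presheaf.stalk w) ((f.fiber y).presheaf.stalk w) =
        fdepth f (f.fiberι y w) := by
  have key : ∀ (y : Y) (x : X) (hy : f x = y) (w : ↥(f.fiber y)) (hw : f.fiberι y w = x),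
      ringKrullDim ((f.fiber y).presheaf.stalk w) = fdim f x ∧
        LocCoh.depth ((f.fiber y).presheaf.stalk w) ((f.fiber y).presheaf.stalk w) = fdepth f x := by
    intro y x hy w hw
    subst hy
    have : w = f.asFiber x :=
      (E4O.isEmbedding_fiberι f (f x)).injective (hw.trans (f.fiberι_asFiber x).symm)
    rw [this]
    exact ⟨rfl, rfl⟩
  exact key y _ (E4O.apply_fiberι f y w) w rfl

/-- `(S_k)` of the fibre at a point, on the generizations in the fibre. -/
theorem hasSk_fibre_iff (f : X ⟶ Y) [LocallyOfFiniteType f] (k : ℕ) (x : X) :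
    LocCoh.HasSk k ((f.fiber (f x)).presheaf.stalk (f.asFiber x))
        ((f.fiber (f x)).presheaf.stalk (f.asFiber x)) ↔
      ∀ z : X, z ⤳ x → f z = f x →
        min (k : WithBot ℕ∞) (fdim f z) ≤ ((fdepth f z : ℕ∞) : WithBot ℕ∞) := by
  have : LocallyOfFiniteType (f.fiberToSpecResidueField (f x)) :=
    MorphismProperty.of_isPullback (P := @LocallyOfFiniteType)
      (IsPullback.of_hasPullback f (Y.fromSpecResidueField (f x))) inferInstance
  have : IsLocallyNoetherian (f.fiber (f x)) :=
    LocallyOfFiniteType.isLocallyNoetherian (f.fiberToSpecResidueField (f x))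
  rw [hasSk_stalk_iff]
  constructor
  · intro h z hz hfz
    obtain ⟨w, rfl⟩ := E4O.exists_fiberι_eq f hfz
    have := h w ((E4O.specializes_fiberι_iff f _ _ _).1 (by rwa [f.fiberι_asFiber]))
    rwa [(fibre_invariants f (f x) w).1, (fibre_invariants f (f x) w).2] at this
  · intro h w hw
    have hz := hw.map (f.fiberι (f x)).continuous
    rw [f.fiberι_asFiber] at hz
    have := h _ hz (E4O.apply_fiberι f _ w)
    rwa [(fibre_invariants f (f x) w).1, (fibre_invariants f (f x) w).2]

end Groth.Agent.Sk62
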