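import Groth.Agent.RelPd52.Basic
import Groth.Agent.CM62.Basic
import Groth.Agent.E4O.StalkChart
import Groth.Agent.CAlg1.SerreNormal
import Groth.Agent.E4O.RectDepth
import Mathlib.RingTheory.Localization.BaseChange
import Mathlib.Algebra.Module.LocalizedModule.IsLocalization

/-! The local ring of a fibre as a module over the local ring of the fibre of an ambient algebra. -/

set_option autoImplicit false

universe u

open CategoryTheory AlgebraicGeometry IsLocalRing TensorProduct

namespace Groth.Agent.Sk62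

variable {X Y : Scheme.{u}}

/-- The local ring of the fibre, computed in an affine chart. -/
theorem exists_fibreRing_equiv (f : X ⟶ Y) {A B : Type u} [CommRing A] [CommRing B] [Algebra A B]
    (e : Spec (CommRingCat.of B) ⟶ X) [IsOpenImmersion e]
    (j : Spec (CommRingCat.of A) ⟶ Y) [IsOpenImmersion j]
    (comm : Spec.map (CommRingCat.ofHom (algebraMap A B)) ≫ j = e ≫ f) (q : PrimeSpectrum B) :
    Nonempty (RelPd52.fibreRing A q ≃+* CM62.FibQuot f (e q)) := by
  let φ : CommRingCat.of A ⟶ CommRingCat.of B := CommRingCat.ofHom (algebraMap A B)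
  let h := Spec.map φ
  let p : PrimeSpectrum A := PrimeSpectrum.comap (algebraMap A B) q
  let q' : ↥(Spec (CommRingCat.of B)) := q
  let L := Localization.AtPrime q.asIdeal
  let _ : Algebra B ((Spec (CommRingCat.of B)).presheaf.stalk q') := StructureSheaf.stalkAlgebra B q
  have : IsLocalization.AtPrime ((Spec (CommRingCat.of B)).presheaf.stalk q') q.asIdeal :=
    StructureSheaf.IsLocalization.to_stalk B q
  let _ : Algebra A ((Spec (CommRingCat.of A)).presheaf.stalk (h q')) := StructureSheaf.stalkAlgebra A p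
  have : IsLocalization.AtPrime ((Spec (CommRingCat.of A)).presheaf.stalk (h q')) p.asIdeal :=
    StructureSheaf.IsLocalization.to_stalk A p
  let e₁ : L ≃ₐ[B] (Spec (CommRingCat.of B)).presheaf.stalk q' :=
    IsLocalization.algEquiv q.asIdeal.primeCompl L _
  have hmax : maximalIdeal ((Spec (CommRingCat.of A)).presheaf.stalk (h q')) =
      p.asIdeal.map (algebraMap A ((Spec (CommRingCat.of A)).presheaf.stalk (h q'))) :=
    (IsLocalization.AtPrime.map_eq_maximalIdeal p.asIdeal _).symm
  have hcomp : ∀ a : A, (h.stalkMap q').hom (algebraMap A _ a) =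
      algebraMap B ((Spec (CommRingCat.of B)).presheaf.stalk q') (algebraMap A B a) := fun a =>
    stalkMap_toStalk_apply φ q a
  have E₁ : RelPd52.fibreRing A q ≃+* CM62.FibQuot h q' := Ideal.quotientEquiv _ _ e₁.toRingEquiv (by
    rw [hmax, Ideal.map_map, Ideal.map_map]
    congr 1
    refine RingHom.ext fun a => ?_
    show _ = e₁ (algebraMap A L a)
    rw [IsScalarTower.algebraMap_apply A B L, e₁.commutes]
    exact hcomp a)
  -- invariance under the open immersions
  have hbe : Function.Bijective (e.stalkMap q').hom :=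
    (ConcreteCategory.isIso_iff_bijective (e.stalkMap q')).1 inferInstance
  let ee : X.presheaf.stalk (e q') ≃+* (Spec (CommRingCat.of B)).presheaf.stalk q' :=
    RingEquiv.ofBijective _ hbe
  have hmap : ((maximalIdeal (Y.presheaf.stalk (f (e q')))).map (f.stalkMap (e q')).hom).map ee.toRingHom =
      (maximalIdeal (Y.presheaf.stalk ((e ≫ f) q'))).map ((e ≫ f).stalkMap q').hom := by
    rw [Scheme.Hom.stalkMap_comp]
    exact Ideal.map_map _ _
  have E₂ : CM62.FibQuot f (e q') ≃+* CM62.FibQuot (e ≫ f) q' := Ideal.quotientEquiv _ _ ee hmap.symm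
  have hj : (maximalIdeal ((Spec (CommRingCat.of A)).presheaf.stalk (h q'))).map (h.stalkMap q').hom =
      (maximalIdeal (Y.presheaf.stalk ((h ≫ j) q'))).map ((h ≫ j).stalkMap q').hom := by
    rw [Scheme.Hom.stalkMap_comp]
    have hbj : Function.Bijective (j.stalkMap (h q')).hom :=
      (ConcreteCategory.isIso_iff_bijective (j.stalkMap (h q'))).1 inferInstance
    let ej : Y.presheaf.stalk (j (h q')) ≃+* (Spec (CommRingCat.of A)).presheaf.stalk (h q') :=
      RingEquiv.ofBijective _ hbj
    exact ((congrArg (Ideal.map (h.stalkMap q').hom)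
      (IsLocalRing.map_maximalIdeal_of_surjective (j.stalkMap (h q')).hom hbj.2)).symm).trans
      (Ideal.map_map _ _)
  have E₃ : ∀ k : Spec (CommRingCat.of B) ⟶ Y, h ≫ j = k →
      Nonempty (CM62.FibQuot h q' ≃+* CM62.FibQuot k q') := by
    rintro _ rfl
    exact ⟨Ideal.quotEquivOfEq hj⟩
  obtain ⟨E₃'⟩ := E₃ (e ≫ f) comm
  exact ⟨(E₁.trans E₃').trans E₂.symm⟩

variable {A P B : Type u} [CommRing A] [CommRing P] [CommRing B] [Algebra A P] [Algebra A B]
  [Algebra P B] [IsScalarTower A P B]

/-- For a surjection `P → B` of `A`-algebras, the fibre ring of `B` at a point is the fibre module. -/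
theorem exists_fibreModule_equiv (hs : Function.Surjective (algebraMap P B)) (q : PrimeSpectrum B) :
    ∃ φ : RelPd52.fibreRing A (PrimeSpectrum.comap (algebraMap P B) q) →+* RelPd52.fibreRing A q,
      Function.Surjective φ ∧
      (letI := φ.toAlgebra
       Nonempty (RelPd52.fibreRing A (PrimeSpectrum.comap (algebraMap P B) q) ⊗[P] B ≃ₗ[RelPd52.fibreRing A (PrimeSpectrum.comap (algebraMap P B) q)]
        RelPd52.fibreRing A q)) := by
  let Q := PrimeSpectrum.comap (algebraMap P B) q
  let S := Localization.AtPrime Q.asIdeal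
  let T := Localization.AtPrime q.asIdeal
  have : q.asIdeal.LiesOver Q.asIdeal := ⟨rfl⟩
  let _ : Algebra S T := Localization.AtPrime.algebraOfLiesOver Q.asIdeal q.asIdeal
  have : IsScalarTower A S T := IsScalarTower.of_algebraMap_eq fun a => by
    rw [IsScalarTower.algebraMap_apply A P S, ← IsScalarTower.algebraMap_apply P S T,
      IsScalarTower.algebraMap_apply A B T, IsScalarTower.algebraMap_apply A P B,
      ← IsScalarTower.algebraMap_apply P B T]
  let J : Ideal S := (Q.asIdeal.under A).map (algebraMap A S)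
  let I : Ideal T := (q.asIdeal.under A).map (algebraMap A T)
  have hQA : Q.asIdeal.under A = q.asIdeal.under A := by
    show Ideal.comap (algebraMap A P) (Ideal.comap (algebraMap P B) q.asIdeal) = _
    rw [Ideal.comap_comap, ← IsScalarTower.algebraMap_eq]
  have hJI : J.map (algebraMap S T) = I := by
    rw [Ideal.map_map, ← IsScalarTower.algebraMap_eq]
    exact congrArg _ hQA
  let φ : S ⧸ J →+* T ⧸ I := Ideal.quotientMap I (algebraMap S T) (Ideal.map_le_iff_le_comap.1 hJI.le)
  have hloc : IsLocalization (Algebra.algebraMapSubmonoid B Q.asIdeal.primeCompl) T := by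
    have heq : Algebra.algebraMapSubmonoid B Q.asIdeal.primeCompl = q.asIdeal.primeCompl := by
      ext b
      constructor
      · rintro ⟨a, ha, rfl⟩; exact ha
      · intro hb
        obtain ⟨a, rfl⟩ := hs b
        exact ⟨a, hb, rfl⟩
    rw [heq]
    infer_instance
  have hlm : IsLocalizedModule Q.asIdeal.primeCompl (IsScalarTower.toAlgHom P B T).toLinearMap :=
    isLocalizedModule_iff_isLocalization.2 hloc
  have hsT : Function.Surjective (algebraMap S T) := by
    intro t
    obtain ⟨⟨b, s⟩, rfl⟩ := IsLocalizedModule.mk'_surjective Q.asIdeal.primeCompl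
      (IsScalarTower.toAlgHom P B T).toLinearMap t
    obtain ⟨a, rfl⟩ := hs b
    refine ⟨IsLocalization.mk' S a s, ((IsLocalizedModule.mk'_eq_iff (S := Q.asIdeal.primeCompl)).2 ?_).symm⟩
    show algebraMap B T (algebraMap P B a) = (s : P) • algebraMap S T (IsLocalization.mk' S a s)
    rw [Algebra.smul_def, IsScalarTower.algebraMap_apply P S T, ← map_mul,
      IsLocalization.mk'_spec', ← IsScalarTower.algebraMap_apply P S T, IsScalarTower.algebraMap_apply P B T]
  have hφ : Function.Surjective φ := Ideal.quotientMap_surjective hsT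
  refine ⟨φ, hφ, ?_⟩
  let _ : Algebra (S ⧸ J) (T ⧸ I) := φ.toAlgebra
  have : IsScalarTower S (S ⧸ J) (T ⧸ I) := by
    refine ⟨fun a b c => ?_⟩
    obtain ⟨s, rfl⟩ := Ideal.Quotient.mk_surjective (I := J) b
    obtain ⟨t, rfl⟩ := Ideal.Quotient.mk_surjective (I := I) c
    show φ (Ideal.Quotient.mk J (a * s)) * Ideal.Quotient.mk I t =
      a • (φ (Ideal.Quotient.mk J s) * Ideal.Quotient.mk I t)
    show Ideal.Quotient.mk I (algebraMap S T (a * s)) * Ideal.Quotient.mk I t =
      Ideal.Quotient.mk I (a • (algebraMap S T s * t))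
    rw [← map_mul, Algebra.smul_def, map_mul (algebraMap S T), mul_assoc]
  let eT : S ⊗[P] B ≃ₗ[S] T := (IsLocalizedModule.isBaseChange Q.asIdeal.primeCompl S
    (IsScalarTower.toAlgHom P B T).toLinearMap).equiv
  let e₁ : (S ⧸ J) ⊗[P] B ≃ₗ[S ⧸ J] (S ⧸ J) ⊗[S] (S ⊗[P] B) :=
    (TensorProduct.AlgebraTensorModule.cancelBaseChange P S (S ⧸ J) (S ⧸ J) B).symm
  let e₂ : (S ⧸ J) ⊗[S] (S ⊗[P] B) ≃ₗ[S ⧸ J] (S ⧸ J) ⊗[S] T :=
    TensorProduct.AlgebraTensorModule.congr (LinearEquiv.refl _ _) eT
  let e₃ : (S ⧸ J) ⊗[S] T ≃ₗ[S] T ⧸ I :=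
    TensorProduct.quotTensorEquivQuotSMul T J ≪≫ₗ
      Submodule.quotEquivOfEq _ (I.restrictScalars S) (by rw [Ideal.smul_top_eq_map, hJI]) ≪≫ₗ
      Submodule.Quotient.restrictScalarsEquiv S I
  exact ⟨e₁ ≪≫ₗ e₂ ≪≫ₗ e₃.extendScalarsOfSurjective Ideal.Quotient.mk_surjective⟩

/-- Auslander–Buchsbaum for the fibre ring of `B` inside that of `P`. -/
theorem exists_depth_add_pd (hs : Function.Surjective (algebraMap P B)) (q : PrimeSpectrum B)
    [IsRegularLocalRing (RelPd52.fibreRing A (PrimeSpectrum.comap (algebraMap P B) q))]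
    [IsLocalRing (RelPd52.fibreRing A q)] :
    ∃ d e n : ℕ, ringKrullDim (RelPd52.fibreRing A (PrimeSpectrum.comap (algebraMap P B) q)) = d ∧
      LocCoh.depth (RelPd52.fibreRing A q) (RelPd52.fibreRing A q) = n ∧
      RelPd52.fibrePd A B (PrimeSpectrum.comap (algebraMap P B) q) = e ∧ n + e = d := by
  obtain ⟨φ, hφ, hE⟩ := exists_fibreModule_equiv (A := A) hs q
  let R := RelPd52.fibreRing A (PrimeSpectrum.comap (algebraMap P B) q)
  let M := RelPd52.fibreRing A q
  let _ : Algebra R M := φ.toAlgebra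
  obtain ⟨E⟩ := hE
  have : IsLocalHom (algebraMap R M) := IsLocalHom.of_surjective _ hφ
  have : Module.Finite R M := Module.Finite.of_surjective (Algebra.linearMap R M) hφ
  have : IsNoetherianRing M := isNoetherianRing_of_surjective R M φ hφ
  obtain ⟨d, e, n, hd, hn, he, hne⟩ := E4O.depth_add_pd_eq_dim R M
  refine ⟨d, e, n, hd, ?_, ?_, hne⟩
  · rw [← hn]
    exact (EGA4Alg4.depth_eq_of_finite (A := R) (B := M) M).symm
  · rw [← he]
    exact projectiveDimension_eq_of_iso E.toModuleIso

end Groth.Agent.Sk62
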