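import Groth.Agent.Sk62.PtIntegralField
import Groth.Agent.E4O.DvrCrit
import Groth.Agent.Ram24.Dominated
import Groth.Agent.FlatMor68.FibreGenericAlg
import Groth.Agent.Cons62.Model
import Mathlib.RingTheory.Valuation.LocalSubring

/-! For flat morphisms locally of finite presentation the points at which the fibre is geometrically
pointwise integral form an open set. -/

set_option autoImplicit false
set_option linter.style.haveILetI false

universe u

open CategoryTheory CategoryTheory.Limits AlgebraicGeometry TopologicalSpace Topology TensorProduct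

namespace Groth.Agent.Sk62

variable {X Y : Scheme.{u}}

theorem isGeomReducedAt_of_mem_giLocus (f : X ⟶ Y) {x : X} (h : x ∈ giLocus f) :
    FBase.IsGeomReducedAt (f.fiberToSpecResidueField (f x)) (f.asFiber x) := fun K _ _ x' hx' => by
  have := h K x' hx'
  infer_instance

/-- The stalks of a flat preimmersion are those of the target. -/
theorem isDomain_stalk_of_flat_preimmersion {A B : Scheme.{u}} (e : A ⟶ B) [Flat e] [IsPreimmersion e]
    (a : A) [IsDomain (B.presheaf.stalk (e a))] : IsDomain (A.presheaf.stalk a) := by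
  let i := RingEquiv.ofBijective (e.stalkMap a).hom
    ⟨FBase64.stalkMap_injective_of_flat e a, e.stalkMap_surjective a⟩
  exact i.symm.toMulEquiv.isDomain

theorem mem_giLocus_of_specializes (f : X ⟶ Y) [IsLocallyNoetherian Y] [Flat f]
    [LocallyOfFinitePresentation f] {x' x : X} (h : x' ⤳ x) (hx : x ∈ giLocus f) : x' ∈ giLocus f := by
  by_cases hy : f x' = f x
  · let t : f.fiber (f x) ⟶ Spec (CommRingCat.of (IsLocalRing.ResidueField (Y.presheaf.stalk (f x)))) :=
      f.fiberToSpecResidueField (f x)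
    have : LocallyOfFiniteType t :=
      MorphismProperty.of_isPullback (IsPullback.of_hasPullback f _) (inferInstance : LocallyOfFiniteType f)
    obtain ⟨w, rfl⟩ := E4O.exists_fiberι_eq f hy
    have hs : w ⤳ f.asFiber x := (E4O.specializes_fiberι_iff f _ _ _).1 (by rwa [f.fiberι_asFiber])
    exact (giLocus_fibre_point f w rfl).1
      (hs.mem_open (FBase64.isOpen_setOf_isGeomPtIntegralAt t) hx)
  have hne : x' ≠ x := fun e => hy (congrArg f e)
  have : IsLocallyNoetherian X := LocallyOfFiniteType.isLocallyNoetherian f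
  obtain ⟨V, hV, s, hs0, -, hs⟩ := E4O.exists_dvr_hom h hne (X.residueField x')
    (IntermediateField.fg_top _ _)
  let k' := IsLocalRing.ResidueField (Y.presheaf.stalk (f x'))
  let K : Type u := X.residueField x'
  letI : Algebra k' K := (f.residueFieldMap x').hom.toAlgebra
  let t : f.fiber (f x') ⟶ Spec (CommRingCat.of k') := f.fiberToSpecResidueField (f x')
  have : LocallyOfFiniteType t :=
    MorphismProperty.of_isPullback (IsPullback.of_hasPullback f _) (inferInstance : LocallyOfFiniteType f)
  let iV : Spec (CommRingCat.of K) ⟶ Spec (CommRingCat.of V) := Spec.map (CommRingCat.ofHom (algebraMap V K))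
  have hs' : iV ≫ s = X.fromSpecResidueField x' := by
    refine hs.trans ?_
    rw [show algebraMap (X.residueField x') (X.residueField x') = RingHom.id _ from rfl,
      CommRingCat.ofHom_id, Spec.map_id, Category.id_comp]
  let tK : Spec (CommRingCat.of K) ⟶ Spec (CommRingCat.of k') :=
    Spec.map (CommRingCat.ofHom (algebraMap k' K))
  have hbase : tK ≫ Y.fromSpecResidueField (f x') = X.fromSpecResidueField x' ≫ f :=
    Scheme.Hom.SpecMap_residueFieldMap_fromSpecResidueField f x'
  let σ₀ : Spec (CommRingCat.of K) ⟶ f.fiber (f x') :=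
    pullback.lift (X.fromSpecResidueField x') tK hbase.symm
  let σK : Spec (CommRingCat.of K) ⟶ FBase.bc t K :=
    pullback.lift σ₀ (𝟙 _) ((pullback.lift_snd _ _ _).trans (Category.id_comp _).symm)
  have hσK1 : σK ≫ FBase.bcπ t K = σ₀ := pullback.lift_fst _ _ _
  have hσK2 : σK ≫ FBase.bcStr t K = 𝟙 _ := pullback.lift_snd _ _ _
  let pt : ↥(Spec (CommRingCat.of K)) := IsLocalRing.closedPoint K
  have hπτ : FBase.bcπ t K (σK pt) = f.asFiber x' := by
    refine (f.fiberι _).isEmbedding.injective ?_
    rw [show FBase.bcπ t K (σK pt) = σ₀ pt from (Scheme.Hom.comp_apply σK _ pt).symm.trans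
      (congrArg (fun m : Spec (CommRingCat.of K) ⟶ f.fiber (f x') => m pt) hσK1),
      ← Scheme.Hom.comp_apply, f.fiberι_asFiber]
    exact (congrArg (fun m : Spec (CommRingCat.of K) ⟶ X => m pt) (pullback.lift_fst _ _ _)).trans
      (Scheme.fromSpecResidueField_apply x' pt)
  show FBase.IsGeomPtIntegralAt t (f.asFiber x')
  rw [← hπτ]
  refine (FBase64.isGeomPtIntegralAt_iff_bcStr t (σK pt)).2 ?_
  have : LocallyOfFiniteType (FBase.bcStr t K) :=
    MorphismProperty.of_isPullback (IsPullback.of_hasPullback t tK) ‹LocallyOfFiniteType t›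
  have hr : FBase.IsGeomReducedAt (FBase.bcStr t K) (σK pt) := by
    refine (VarGal.isGeomReducedAt_iff_bcStr t (σK pt)).1 ?_
    rw [hπτ]
    exact h.mem_open (isOpen_isGeomReducedAt_fibre f) (isGeomReducedAt_of_mem_giLocus f hx)
  refine isGeomPtIntegralAt_of_finite (FBase.bcStr t K) (σK pt) hr fun L _ _ hfd τ' hτ' => ?_
  let πL := FBase.bcπ (FBase.bcStr t K) L
  let gL := FBase.bcStr (FBase.bcStr t K) L
  let tL : Spec (CommRingCat.of L) ⟶ Spec (CommRingCat.of K) :=
    Spec.map (CommRingCat.ofHom (algebraMap K L))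
  let σL : Spec (CommRingCat.of L) ⟶ FBase.bc (FBase.bcStr t K) L :=
    pullback.lift (tL ≫ σK) (𝟙 _) (by rw [Category.assoc, hσK2, Category.comp_id, Category.id_comp])
  have hσL1 : σL ≫ πL = tL ≫ σK := pullback.lift_fst _ _ _
  have hσL2 : σL ≫ gL = 𝟙 _ := pullback.lift_snd _ _ _
  have sqσ : IsPullback σL tL πL σK := by
    refine IsPullback.of_right ?_ hσL1 (IsPullback.of_hasPullback (FBase.bcStr t K) tL).flip
    show IsPullback (σL ≫ gL) tL tL (σK ≫ FBase.bcStr t K)
    rw [hσL2, hσK2]
    exact IsPullback.of_horiz_isIso ⟨by simp⟩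
  let ptL : ↥(Spec (CommRingCat.of L)) := IsLocalRing.closedPoint L
  obtain ⟨w, hw, -⟩ := Scheme.exists_preimage_of_isPullback sqσ τ' pt hτ'
  obtain rfl : w = ptL := Subsingleton.elim (α := PrimeSpectrum L) _ _
  subst hw
  -- a discrete valuation ring of `L` dominating `V`
  let gV : V →+* L := (algebraMap K L).comp (algebraMap V K)
  obtain ⟨W, hWmem, hWloc⟩ := IsLocalRing.exists_factor_valuationRing gV
  let ψ : V →+* W := gV.codRestrict W.toSubring hWmem
  have : IsLocalHom ψ := hWloc
  have hW : IsDiscreteValuationRing W := Ram24.dvr_of_dominates (B := V) (L := K) W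
    ⟨hWmem, fun a ha => (W.valuation_lt_one_iff (ψ a)).1 (map_nonunit ψ a ha)⟩
  let ρ : Spec (CommRingCat.of W) ⟶ Spec (CommRingCat.of V) := Spec.map (CommRingCat.ofHom ψ)
  let iW : Spec (CommRingCat.of L) ⟶ Spec (CommRingCat.of W) :=
    Spec.map (CommRingCat.ofHom (algebraMap W L))
  have hiρ : iW ≫ ρ = tL ≫ iV := by
    rw [← Spec.map_comp, ← Spec.map_comp, ← CommRingCat.ofHom_comp, ← CommRingCat.ofHom_comp]
    rfl
  have : IsPreimmersion iW := IsPreimmersion.of_isLocalization (nonZeroDivisors W)
  have : Flat iW := (HasRingHomProperty.Spec_iff (P := @Flat)).2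
    (RingHom.flat_algebraMap_iff.2 (IsLocalization.flat L (nonZeroDivisors W)))
  let b : Spec (CommRingCat.of W) ⟶ Y := ρ ≫ s ≫ f
  let g' := pullback.snd f b
  let σW : Spec (CommRingCat.of W) ⟶ pullback f b :=
    pullback.lift (ρ ≫ s) (𝟙 _) (by rw [Category.assoc, Category.id_comp])
  have hiW : iW ≫ b = tL ≫ tK ≫ Y.fromSpecResidueField (f x') := by
    rw [hbase, ← hs', Category.assoc, ← reassoc_of% hiρ]
  have hout : IsPullback (πL ≫ FBase.bcπ t K ≫ f.fiberι (f x')) gL f
      (tL ≫ tK ≫ Y.fromSpecResidueField (f x')) :=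
    (IsPullback.of_hasPullback (FBase.bcStr t K) tL).paste_horiz
      ((IsPullback.of_hasPullback t tK).paste_horiz
        (IsPullback.of_hasPullback f (Y.fromSpecResidueField (f x'))))
  let j : FBase.bc (FBase.bcStr t K) L ⟶ pullback f b :=
    pullback.lift (πL ≫ FBase.bcπ t K ≫ f.fiberι (f x')) (gL ≫ iW) (by rw [hout.w, Category.assoc, hiW])
  have sqj : IsPullback j gL g' iW := by
    refine IsPullback.of_right ?_ (pullback.lift_snd _ _ _) (IsPullback.of_hasPullback f b)
    rw [pullback.lift_fst, hiW]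
    exact hout
  have : IsPreimmersion j := MorphismProperty.of_isPullback sqj.flip ‹IsPreimmersion iW›
  have : Flat j := MorphismProperty.of_isPullback sqj.flip ‹Flat iW›
  have hjσ : σL ≫ j = iW ≫ σW := by
    apply pullback.hom_ext
    · simp only [j, σW, Category.assoc, pullback.lift_fst]
      rw [reassoc_of% hiρ, hs', reassoc_of% hσL1, reassoc_of% hσK1]
      exact congrArg _ (pullback.lift_fst _ _ _)
    · simp only [j, σW, Category.assoc, pullback.lift_snd, Category.comp_id]
      rw [reassoc_of% hσL2]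
  let c : ↥(Spec (CommRingCat.of W)) := IsLocalRing.closedPoint W
  have hρc : ρ c = IsLocalRing.closedPoint V := IsLocalRing.comap_closedPoint ψ
  have hgc : g' (σW c) = IsLocalRing.closedPoint W :=
    (Scheme.Hom.comp_apply σW g' c).symm.trans
      (congrArg (fun m : Spec (CommRingCat.of W) ⟶ Spec (CommRingCat.of W) => m c) (pullback.lift_snd _ _ _))
  have hfc : pullback.fst f b (σW c) = x := by
    rw [← Scheme.Hom.comp_apply, pullback.lift_fst, Scheme.Hom.comp_apply, hρc, hs0]
  have : Flat g' := MorphismProperty.pullback_snd _ _ ‹Flat f›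
  have : LocallyOfFiniteType g' := MorphismProperty.pullback_snd _ _ (inferInstance : LocallyOfFiniteType f)
  have : IsLocallyNoetherian (pullback f b) := LocallyOfFiniteType.isLocallyNoetherian g'
  have hdom : IsDomain ((pullback f b).presheaf.stalk (σW c)) := by
    refine isDomain_stalk_of_dvr g' (σW c) hgc ?_
    rw [mem_giLocus_of_isPullback (IsPullback.of_hasPullback f b), hfc]
    exact hx
  have hsp : j (σL ptL) ⤳ σW c := by
    rw [← Scheme.Hom.comp_apply, hjσ, Scheme.Hom.comp_apply]
    exact (((PrimeSpectrum.le_iff_specializes _ (IsLocalRing.closedPoint W)).1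
      (IsLocalRing.le_maximalIdeal (iW ptL).isPrime.ne_top))).map σW.continuous
  have : IsDomain ((pullback f b).presheaf.stalk (j (σL ptL))) :=
    hsp.mem_open FBase64.isOpen_setOf_isDomain_stalk hdom
  exact isDomain_stalk_of_flat_preimmersion j (σL ptL)

theorem isOpen_giLocus_noetherian (f : X ⟶ Y) [IsLocallyNoetherian Y] [Flat f]
    [LocallyOfFinitePresentation f] : IsOpen (giLocus f) := by
  rw [← subset_interior_iff_isOpen]
  intro x hx
  exact (ConsPts12.mem_interior_iff
    (ConsPts12.isLocallyConstructible_iff.mp (isLocallyConstructible_giLocus f)).1 x).2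
    fun x' hx' => mem_giLocus_of_specializes f hx' hx

theorem isOpen_giLocus_spec {A B : Type u} [CommRing A] [CommRing B] (φ : A →+* B)
    (hφ : φ.FinitePresentation) (hfl : φ.Flat) : IsOpen (giLocus (Spec.map (CommRingCat.ofHom φ))) := by
  algebraize [φ]
  obtain ⟨A₁, B₁, _, _, _, _, e, hN, hft, hflat, -⟩ :=
    FlatMor68.FibreGenericAlg.exists_flat_model (A := A) (B := B) Set.finite_empty
  let β : B₁ →+* B := e.toRingHom.comp Algebra.TensorProduct.includeRight.toRingHom
  let f₀ := Spec.map (CommRingCat.ofHom (algebraMap A₁ B₁))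
  let g₀ := Spec.map (CommRingCat.ofHom (algebraMap A₁ A))
  have hsq : IsPullback (Spec.map (CommRingCat.ofHom β)) (Spec.map (CommRingCat.ofHom φ)) f₀ g₀ := by
    have hpo := CommRingCat.isPushout_tensorProduct A₁ A B₁
    have h := isPullback_SpecMap_of_isPushout _ _ _ _ hpo
    refine (h.flip.of_iso (Scheme.Spec.mapIso (e.toRingEquiv.toCommRingCatIso).op).symm (Iso.refl _)
      (Iso.refl _) (Iso.refl _) ?_ ?_ (by simp [f₀]) (by simp [g₀]))
    · simp only [Iso.refl_hom, Category.comp_id, Iso.symm_hom]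
      rw [Iso.eq_inv_comp, Functor.mapIso_hom, Iso.op_hom]
      show Spec.map _ ≫ Spec.map _ = _
      rw [← Spec.map_comp]
      rfl
    · simp only [Iso.refl_hom, Category.comp_id, Iso.symm_hom]
      rw [Iso.eq_inv_comp, Functor.mapIso_hom, Iso.op_hom]
      show Spec.map _ ≫ Spec.map _ = _
      rw [← Spec.map_comp]
      congr 1
      ext a
      exact (e.commutes a)
  have : Flat f₀ := (HasRingHomProperty.Spec_iff (P := @Flat)).2 (RingHom.flat_algebraMap_iff.2 hflat)
  have : LocallyOfFinitePresentation f₀ :=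
    (HasRingHomProperty.Spec_iff (P := @LocallyOfFinitePresentation)).2
      (RingHom.FinitePresentation.of_finiteType.mp (RingHom.finiteType_algebraMap.mpr hft))
  have : IsNoetherianRing (CommRingCat.of A₁) := hN
  have hpre : giLocus (Spec.map (CommRingCat.ofHom φ)) = Spec.map (CommRingCat.ofHom β) ⁻¹' giLocus f₀ :=
    Set.ext fun w => mem_giLocus_of_isPullback hsq w
  rw [hpre]
  exact (isOpen_giLocus_noetherian f₀).preimage (Spec.map (CommRingCat.ofHom β)).continuous

theorem isOpen_giLocus (f : X ⟶ Y) [Flat f] [LocallyOfFinitePresentation f] : IsOpen (giLocus f) := by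
  rw [isOpen_iff_forall_mem_open]
  intro x hx
  obtain ⟨V, hV, hyV, -⟩ := exists_isAffineOpen_mem_and_subset (X := Y) (x := f x) (U := ⊤) trivial
  obtain ⟨W, hW, hxW, hWV⟩ := exists_isAffineOpen_mem_and_subset (X := X) (x := x) (U := f ⁻¹ᵁ V) hyV
  have hle : W ≤ f ⁻¹ᵁ V := fun a ha => hWV ha
  have := hW.isOpenImmersion_fromSpec
  have := hV.isOpenImmersion_fromSpec
  have hfp : (f.appLE V W hle).hom.FinitePresentation :=
    LocallyOfFinitePresentation.finitePresentation_appLE f hV hW hle
  have h1 : IsOpen (hW.fromSpec ⁻¹' giLocus f) := by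
    rw [← giLocus_openImmersion_comp, ← IsAffineOpen.SpecMap_appLE_fromSpec f hV hW hle,
      giLocus_comp_openImmersion]
    exact isOpen_giLocus_spec _ hfp (f.flat_appLE hV hW hle)
  refine ⟨hW.fromSpec '' (hW.fromSpec ⁻¹' giLocus f), Set.image_preimage_subset _ _,
    hW.fromSpec.isOpenEmbedding.isOpenMap _ h1, ?_⟩
  rw [Set.image_preimage_eq_inter_range, hW.range_fromSpec]
  exact ⟨hx, hxW⟩

end Groth.Agent.Sk62
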