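import Groth.Agent.Sk62.RedOpen
import Groth.Agent.Sk62.FlatGeomRed
import Groth.Agent.E4O.InfNbhd

/-! Fibres along a base change by a preimmersion, and universally open maximal points. -/

set_option autoImplicit false

universe u

open CategoryTheory CategoryTheory.Limits AlgebraicGeometry Topology

namespace Groth.Agent.Sk62

variable {X Y P Y' : Scheme.{u}} {p : P ⟶ X} {q : P ⟶ Y'} {f : X ⟶ Y} {g : Y' ⟶ Y}

/-- A base change by a preimmersion does not change the fibre stalks. -/
theorem fibre_stalk_equiv_preimmersion (hsq : IsPullback p q f g) [IsPreimmersion g] (w : P) :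
    Nonempty ((q.fiber (q w)).presheaf.stalk (q.asFiber w) ≃+*
      (f.fiber (f (p w))).presheaf.stalk (f.asFiber (p w))) := by
  have key : ∀ (y : Y) (x : X) (hy : f x = y) (v : ↥(f.fiber y)), f.fiberι y v = x →
      Nonempty ((f.fiber y).presheaf.stalk v ≃+* (f.fiber (f x)).presheaf.stalk (f.asFiber x)) := by
    intro y x hy v hv
    subst hy
    have : v = f.asFiber x :=
      (E4O.isEmbedding_fiberι f (f x)).injective (hv.trans (f.fiberι_asFiber x).symm)
    rw [this]
    exact ⟨RingEquiv.refl _⟩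
  let t := Y'.fromSpecResidueField (q w)
  let s := Spec.map (g.residueFieldMap (q w))
  have : IsIso (g.residueFieldMap (q w)) :=
    (ConcreteCategory.isIso_iff_bijective _).2 (E4O.residueFieldMap_bijective_of_preimmersion g _)
  have hA : IsPullback (pullback.fst q t ≫ p) (pullback.snd q t) f (t ≫ g) :=
    (IsPullback.of_hasPullback q t).paste_horiz hsq
  have hB : IsPullback (pullback.fst q t ≫ p) (pullback.snd q t ≫ s) f (Y.fromSpecResidueField (g (q w))) :=
    hA.of_iso (Iso.refl _) (Iso.refl _) (asIso s) (Iso.refl _) (by simp) (by simp) (by simp)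
      (by simp [s, t])
  let φ := hB.isoPullback
  have hφ : f.fiberι (g (q w)) (φ.hom (q.asFiber w)) = p w := by
    have h1 : ∀ v : ↥(pullback q t), pullback.fst f (Y.fromSpecResidueField (g (q w))) (φ.hom v) =
        p (pullback.fst q t v) := fun v => by
      rw [← Scheme.Hom.comp_apply, hB.isoPullback_hom_fst, Scheme.Hom.comp_apply]
    exact (h1 (q.asFiber w)).trans (congrArg p (q.fiberι_asFiber w))
  have hy : f (p w) = g (q w) := by rw [← Scheme.Hom.comp_apply, hsq.w, Scheme.Hom.comp_apply]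
  obtain ⟨e⟩ := key _ _ hy _ hφ
  let e' : ∀ v : ↥(pullback q t), (pullback q t).presheaf.stalk v ≃+*
      (pullback f (Y.fromSpecResidueField (g (q w)))).presheaf.stalk (φ.hom v) := fun v =>
    (asIso (φ.hom.stalkMap v)).symm.commRingCatIsoToRingEquiv
  exact ⟨(e' (q.asFiber w)).trans e⟩

theorem fdim_preimmersion (hsq : IsPullback p q f g) [IsPreimmersion g] (w : P) :
    fdim q w = fdim f (p w) := by
  obtain ⟨e⟩ := fibre_stalk_equiv_preimmersion hsq w
  exact ringKrullDim_eq_of_ringEquiv e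

theorem exists_of_specializes (hsq : IsPullback p q f g) [IsPreimmersion g] {w : P} {z : X}
    (hz : z ⤳ p w) (hf : f z = f (p w)) : ∃ a : P, p a = z ∧ q a = q w ∧ a ⤳ w := by
  have hfw : f (p w) = g (q w) := by rw [← Scheme.Hom.comp_apply, hsq.w, Scheme.Hom.comp_apply]
  obtain ⟨a, ha1, ha2⟩ := E4O.exists_of_isPullback hsq z (q w) (hf.trans hfw)
  have : IsPreimmersion p := MorphismProperty.of_isPullback (P := @IsPreimmersion) hsq.flip ‹_›
  exact ⟨a, ha1, ha2, p.isEmbedding.isInducing.specializes_iff.1 (ha1.symm ▸ hz)⟩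

theorem isGeomReducedAt_fibre_preimmersion (hsq : IsPullback p q f g) [IsPreimmersion g]
    [LocallyOfFinitePresentation f] (w : P) :
    FBase.IsGeomReducedAt (q.fiberToSpecResidueField (q w)) (q.asFiber w) ↔
      FBase.IsGeomReducedAt (f.fiberToSpecResidueField (f (p w))) (f.asFiber (p w)) := by
  have : LocallyOfFinitePresentation q := MorphismProperty.of_isPullback hsq inferInstance
  rw [isGeomReducedAt_fibre_iff, isGeomReducedAt_fibre_iff]
  obtain ⟨e⟩ := fibre_stalk_equiv_preimmersion hsq w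
  have := isLocalRing_noetherian_fibre q w
  have := isLocalRing_noetherian_fibre f (p w)
  have hfib : Open62.fibreSmooth q = p ⁻¹' Open62.fibreSmooth f := Open62.fibreSmooth_of_isPullback hsq
  refine and_congr ⟨EGA4H10.hasSk_self_ringEquiv e 1, EGA4H10.hasSk_self_ringEquiv e.symm 1⟩
    ⟨fun h z hz hfz hd => ?_, fun h a ha hqa hd => ?_⟩
  · obtain ⟨a, rfl, hqa, ha⟩ := exists_of_specializes hsq hz hfz
    have := h a ha hqa ((fdim_preimmersion hsq a).trans hd)
    rwa [hfib] at this
  · rw [hfib]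
    refine h (p a) (ha.map p.continuous) ?_ ((fdim_preimmersion hsq a).symm.trans hd)
    simp only [← Scheme.Hom.comp_apply, hsq.w]
    simp only [Scheme.Hom.comp_apply, hqa]

/-- The hypothesis of 15.2: universally open at the maximal points of the fibre above `x`. -/
def MaxUnivOpenAt (f : X ⟶ Y) (x : X) : Prop :=
  ∀ z : X, z ⤳ x → f z = f x → (∀ z', z' ⤳ z → f z' = f z → z' = z) → EGA43.IsUnivOpenAt f z

theorem maxUnivOpenAt_of_fibre (f : X ⟶ Y) (x : X)
    (hopen : ∀ z : ↥(f.fiber (f x)), f.asFiber x ∈ closure {z} →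
      (∀ z' : ↥(f.fiber (f x)), z ∈ closure {z'} → z' = z) → EGA43.IsUnivOpenAt f (f.fiberι (f x) z)) :
    MaxUnivOpenAt f x := by
  intro z hz hfz hmax
  obtain ⟨w, rfl⟩ := E4O.exists_fiberι_eq f hfz
  refine hopen w (specializes_iff_mem_closure.1 ((E4O.specializes_fiberι_iff f _ _ _).1
    (by rwa [f.fiberι_asFiber]))) fun w' hw' => ?_
  refine (E4O.isEmbedding_fiberι f (f x)).injective (hmax _ ((E4O.specializes_fiberι_iff f _ _ _).2
    (specializes_iff_mem_closure.2 hw')) ?_)
  rw [E4O.apply_fiberι, E4O.apply_fiberι]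

theorem MaxUnivOpenAt.fibre {f : X ⟶ Y} {x : X} (h : MaxUnivOpenAt f x) :
    ∀ z : ↥(f.fiber (f x)), f.asFiber x ∈ closure {z} →
      (∀ z' : ↥(f.fiber (f x)), z ∈ closure {z'} → z' = z) → EGA43.IsUnivOpenAt f (f.fiberι (f x) z) := by
  intro w hw hmax
  have hsp := (E4O.specializes_fiberι_iff f _ _ _).2 (specializes_iff_mem_closure.2 hw)
  rw [f.fiberι_asFiber] at hsp
  refine h _ hsp (E4O.apply_fiberι f _ w) fun z' hz' hfz' => ?_
  obtain ⟨w', rfl⟩ := E4O.exists_fiberι_eq f (hfz'.trans (E4O.apply_fiberι f _ w))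
  rw [hmax w' (specializes_iff_mem_closure.1 ((E4O.specializes_fiberι_iff f _ _ _).1 hz'))]

theorem MaxUnivOpenAt.preimmersion (hsq : IsPullback p q f g) [IsPreimmersion g] {w : P}
    (h : MaxUnivOpenAt f (p w)) : MaxUnivOpenAt q w := by
  intro a ha hqa hmax
  have hfp : ∀ b, f (p b) = g (q b) := fun b => by rw [← Scheme.Hom.comp_apply, hsq.w, Scheme.Hom.comp_apply]
  refine E4O.isUnivOpenAt_of_isPullback (h (p a) (ha.map p.continuous) (by rw [hfp, hfp, hqa]) ?_) hsq a rfl
  intro z hz hfz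
  obtain ⟨b, rfl, hqb, hb⟩ := exists_of_specializes hsq hz hfz
  rw [hmax b hb hqb]

/-- EGA IV 15.2.2 in terms of points, with the open locus. -/
theorem exists_nhd_flat_geomReduced [IsLocallyNoetherian Y] (f : X ⟶ Y) [LocallyOfFiniteType f] (x : X)
    (hopen : MaxUnivOpenAt f x)
    (hred : FBase.IsGeomReducedAt (f.fiberToSpecResidueField (f x)) (f.asFiber x))
    (hy : _root_.IsReduced (Y.presheaf.stalk (f x))) :
    ∃ U : X.Opens, x ∈ U ∧ Flat (U.ι ≫ f) ∧ ∀ a ∈ U,
      FBase.IsGeomReducedAt (f.fiberToSpecResidueField (f a)) (f.asFiber a) := by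
  have : LocallyOfFinitePresentation f := E4O.locallyOfFinitePresentation_of_isLocallyNoetherian f
  refine ⟨⟨_, isOpen_flat_geomReduced f⟩, ⟨flat_stalkMap_of_isUnivOpenAt f x hopen.fibre hred hy, hred⟩,
    Flat.of_stalkMap _ fun a => ?_, fun a ha => ha.2⟩
  rw [Scheme.Hom.stalkMap_comp]
  exact (RingHom.Flat.respectsIso.cancel_right_isIso _ _).2 a.2.1

end Groth.Agent.Sk62
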