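import Groth.Agent.FBase64.Openness
import Mathlib.AlgebraicGeometry.Morphisms.Smooth
import Groth.Agent.Unr55.SmoothDesc
import Groth.Agent.Sep12.Basic
import Groth.Agent.CAlg1.Sk
import Groth.Agent.Sk62.StalkSk
import Groth.Agent.EGA4H10.TensorSk

/-! Geometric reducedness over a field: `(S_1)` and smoothness at the maximal points. -/

set_option autoImplicit false

universe u

open CategoryTheory CategoryTheory.Limits AlgebraicGeometry IsLocalRing TensorProduct

namespace Groth.Agent.Sk62

variable {k : Type u} [Field k] {A : Type u} [CommRing A] [Algebra k A] [Algebra.FiniteType k A]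

theorem isField_of_isReduced_of_dim_zero {R : Type u} [CommRing R] [IsLocalRing R] [IsReduced R]
    (h : ringKrullDim R = 0) : IsField R := by
  have : Ring.KrullDimLE 0 R := Ring.krullDimLE_iff.mpr (le_of_eq (by rw [h]; rfl))
  exact Ring.KrullDimLE.isField_of_isReduced

omit [Algebra.FiniteType k A] in
theorem isSmoothAt_of_geomReduced (p : Ideal A) [p.IsPrime] (h0 : ringKrullDim (Localization.AtPrime p) = 0)
    (h : Algebra.IsGeometricallyReduced k (Localization.AtPrime p)) : Algebra.IsSmoothAt k p := by
  have : IsReduced (Localization.AtPrime p) := Algebra.isReduced_of_isGeometricallyReduced (k := k)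
  let : Field (Localization.AtPrime p) := (isField_of_isReduced_of_dim_zero h0).toField
  exact Sep12.formallySmooth_iff_isGeometricallyReduced.2 h

theorem geomReduced_of_isSmoothAt (p : Ideal A) [p.IsPrime] (h0 : ringKrullDim (Localization.AtPrime p) = 0)
    (h : Algebra.IsSmoothAt k p) : Algebra.IsGeometricallyReduced k (Localization.AtPrime p) := by
  have := Unr55.isRegularLocalRing_of_isSmoothAt_field (k := k) p
  have := CAlg1.isDomain_regular (Localization.AtPrime p)
  let : Field (Localization.AtPrime p) := (isField_of_isReduced_of_dim_zero h0).toField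
  exact Sep12.formallySmooth_iff_isGeometricallyReduced.1 h

/-- Sufficiency: `(S_1)` and smooth maximal points. -/
theorem geomReduced_of_S1 (q : Ideal A) [q.IsPrime]
    (h1 : LocCoh.HasSk 1 (Localization.AtPrime q) (Localization.AtPrime q))
    (h2 : ∀ (p : Ideal A) [p.IsPrime], p ≤ q → ringKrullDim (Localization.AtPrime p) = 0 →
      Algebra.IsSmoothAt k p) :
    Algebra.IsGeometricallyReduced k (Localization.AtPrime q) := by
  have : IsNoetherianRing A := Algebra.FiniteType.isNoetherianRing k A
  let R := Localization.AtPrime q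
  have : IsNoetherianRing R := IsLocalization.isNoetherianRing q.primeCompl _ inferInstance
  let ι := {P : Ideal R // P ∈ minimalPrimes R}
  have : Finite ι := (minimalPrimes.finite_of_isNoetherianRing R).to_subtype
  have hP : ∀ P : ι, P.1.IsPrime := fun P => P.2.1.1
  let p : ι → Ideal A := fun P => P.1.under A
  have : ∀ P, (p P).IsPrime := fun P => inferInstanceAs ((P.1.under A).IsPrime)
  have hle : ∀ P, p P ≤ q := fun P =>
    (Ideal.comap_mono (IsLocalRing.le_maximalIdeal (hP P).ne_top)).trans
      (le_of_eq (Localization.AtPrime.under_maximalIdeal (I := q)))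
  have hdim : ∀ P, ringKrullDim (Localization.AtPrime (p P)) = 0 := fun P => by
    rw [IsLocalization.AtPrime.ringKrullDim_eq_height (p P) (Localization.AtPrime (p P)),
      IsLocalization.height_under q.primeCompl P.1, Ideal.height_eq_zero_iff.2 P.2]
    rfl
  have hgr : ∀ P, Algebra.IsGeometricallyReduced k (Localization.AtPrime (p P)) := fun P =>
    geomReduced_of_isSmoothAt (p P) (hdim P) (h2 (p P) (hle P) (hdim P))
  have hu : ∀ P, ∀ y : q.primeCompl, IsUnit (algebraMap A (Localization.AtPrime (p P)) y) :=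
    fun P y => IsLocalization.map_units _ (⟨y.1, fun hy => y.2 (hle P hy)⟩ : (p P).primeCompl)
  let φ : ∀ P, R →ₐ[k] Localization.AtPrime (p P) := fun P =>
    IsLocalization.liftAlgHom (M := q.primeCompl)
      (f := IsScalarTower.toAlgHom k A (Localization.AtPrime (p P))) (hu P)
  have : IsReduced R := by
    refine CAlg1.reduced_iff_R0_S1.2 ⟨fun P hPp hht => ?_, h1⟩
    let P' : ι := ⟨P, Ideal.height_eq_zero_iff.1 (le_antisymm (by simpa using hht) bot_le)⟩
    have : IsReduced (Localization.AtPrime (p P')) :=
      @Algebra.isReduced_of_isGeometricallyReduced k _ _ _ _ (hgr P')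
    let : Field (Localization.AtPrime (p P')) := (isField_of_isReduced_of_dim_zero (hdim P')).toField
    have : IsLocalization.AtPrime (Localization.AtPrime P) (P.under A) :=
      IsLocalization.isLocalization_isLocalization_atPrime_isLocalization q.primeCompl
        (Localization.AtPrime P) P
    exact IsRegularLocalRing.of_ringEquiv (IsLocalization.algEquiv (P.under A).primeCompl
      (Localization.AtPrime (p P')) (Localization.AtPrime P)).toRingEquiv
  have hinj : ∀ x : R, (∀ P, φ P x = 0) → x = 0 := by
    intro x hx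
    obtain ⟨a, s, rfl⟩ := IsLocalization.exists_mk'_eq q.primeCompl x
    have hmem : ∀ P : ι, a ∈ p P := fun P => by
      have := hP P
      have h3 := hx P
      rw [show φ P (IsLocalization.mk' R a s) = IsLocalization.lift (hu P) (IsLocalization.mk' R a s) from rfl,
        IsLocalization.lift_mk', Units.mul_left_eq_zero] at h3
      obtain ⟨t, ht⟩ := (IsLocalization.map_eq_zero_iff (p P).primeCompl _ a).1 h3
      exact (((hP P).under A).mem_or_mem (ht ▸ zero_mem _)).resolve_left t.2
    refine IsNilpotent.eq_zero ((mem_nilradical).1 ?_)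
    rw [nilradical, ← Ideal.sInf_minimalPrimes, Submodule.mem_sInf]
    intro P hP'
    exact (IsLocalization.mk'_mem_iff (I := P)).2 (hmem ⟨P, hP'⟩)
  rw [Algebra.isGeometricallyReduced_field_iff]
  let K := AlgebraicClosure k
  let Φ : (K ⊗[k] R) →+* ∀ P : ι, K ⊗[k] Localization.AtPrime (p P) :=
    RingHom.pi fun P => (Algebra.TensorProduct.map (AlgHom.id K K) (φ P)).toRingHom
  have hΦ : Function.Injective Φ := by
    let Ψ : R →ₗ[k] ∀ P : ι, Localization.AtPrime (p P) :=
      LinearMap.pi fun P => (φ P).toLinearMap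
    have hΨ : Function.Injective Ψ := (injective_iff_map_eq_zero _).2 fun x hx =>
      hinj x fun P => congrFun hx P
    have := Fintype.ofFinite ι
    classical
    let e := TensorProduct.piRight k k K (fun P : ι => Localization.AtPrime (p P))
    have hcomp : ∀ z, Φ z = e (Ψ.lTensor K z) := fun z => by
      induction z using TensorProduct.induction_on with
      | zero => simp
      | add a b ha hb => simp only [map_add, ha, hb]
      | tmul c r =>
        ext P
        simp [Φ, e, Ψ]
    intro a b hab
    rw [hcomp, hcomp] at hab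
    exact Module.Flat.lTensor_preserves_injective_linearMap Ψ hΨ (e.injective hab)
  have : ∀ P : ι, IsReduced (K ⊗[k] Localization.AtPrime (p P)) := fun P =>
    have := hP P
    (Algebra.isGeometricallyReduced_field_iff k (Localization.AtPrime (p P))).1 (hgr P)
  exact isReduced_of_injective Φ hΦ

variable {X : Scheme.{u}} (f : X ⟶ Spec (CommRingCat.of k))

theorem isGeomReducedAt_chart_iff {A : Type u} [CommRing A] [Algebra k A]
    (j : Spec (CommRingCat.of A) ⟶ X) [IsOpenImmersion j]
    (hj : j ≫ f = Spec.map (CommRingCat.ofHom (algebraMap k A))) (q : PrimeSpectrum A) :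
    FBase.IsGeomReducedAt f (j q) ↔ Algebra.IsGeometricallyReduced k (Localization.AtPrime q.asIdeal) := by
  refine ⟨FBase64.isGeometricallyReduced_atPrime_of_point f j hj q, fun h => ?_⟩
  let K := AlgebraicClosure k
  let tK := Spec.map (CommRingCat.ofHom (algebraMap k K))
  obtain ⟨y', hy'⟩ := (pullback.fst f tK).surjective (j q)
  let c := FBase64.prodChart f tK j (𝟙 _) hj (Category.id_comp _)
  obtain ⟨P, hP⟩ : y' ∈ Set.range c := by
    rw [FBase64.range_prodChart]
    exact ⟨by rw [Set.mem_preimage, hy']; exact ⟨_, rfl⟩, ⟨_, rfl⟩⟩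
  let S := A ⊗[k] K
  let P' : PrimeSpectrum S := P
  have hPq : P'.asIdeal.comap (algebraMap A S) = q.asIdeal := by
    have h1 : j (Spec.map (CommRingCat.ofHom (algebraMap A S)) P) = j q := by
      rw [← hy', ← hP, ← Scheme.Hom.comp_apply, ← FBase64.prodChart_fst f tK j (𝟙 _) hj (Category.id_comp _),
        Scheme.Hom.comp_apply]
    exact congrArg PrimeSpectrum.asIdeal (j.isOpenEmbedding.injective h1)
  have hK := (Algebra.isGeometricallyReduced_field_iff k (Localization.AtPrime q.asIdeal)).1 h
  let e : S ⊗[A] Localization.AtPrime q.asIdeal ≃+* Localization.AtPrime q.asIdeal ⊗[k] K :=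
    (Algebra.TensorProduct.comm A S (Localization.AtPrime q.asIdeal)).toRingEquiv.trans
      (Algebra.TensorProduct.cancelBaseChange k A A (Localization.AtPrime q.asIdeal) K).toRingEquiv
  have : IsReduced (Localization.AtPrime q.asIdeal ⊗[k] K) := FBase64.isReduced_tensor_comm
  have : IsReduced (S ⊗[A] Localization.AtPrime q.asIdeal) := isReduced_of_injective e e.injective
  let M := Algebra.algebraMapSubmonoid S q.asIdeal.primeCompl
  have hM : M ≤ P'.asIdeal.primeCompl := by
    rintro _ ⟨a, ha, rfl⟩ hmem
    exact ha (hPq.le hmem)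
  have : IsReduced (Localization.AtPrime P'.asIdeal) := by
    refine ⟨fun z ⟨n, hn⟩ => ?_⟩
    obtain ⟨x, m, rfl⟩ := IsLocalization.exists_mk'_eq P'.asIdeal.primeCompl z
    rw [← IsLocalization.mk'_pow, IsLocalization.mk'_eq_zero_iff] at hn
    obtain ⟨c, hc⟩ := hn
    have h0 : algebraMap S (S ⊗[A] Localization.AtPrime q.asIdeal) ((c : S) * x) = 0 := by
      refine IsNilpotent.eq_zero ⟨n + 1, ?_⟩
      rw [← map_pow, mul_pow, pow_succ (c : S), pow_succ x, show (c : S) ^ n * c * (x ^ n * x) =
        ((c : S) * x ^ n) * ((c : S) ^ n * x) by ring, hc, zero_mul, map_zero]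
    obtain ⟨m', hm'⟩ := (IsLocalization.map_eq_zero_iff M _ _).1 h0
    rw [IsLocalization.mk'_eq_zero_iff]
    exact ⟨⟨(m' : S) * c, P'.asIdeal.primeCompl.mul_mem (hM m'.2) c.2⟩, by rw [← hm']; ring⟩
  obtain ⟨e'⟩ := FBase64.nonempty_stalkEquiv c P
  have : IsReduced ((FBase.bc f K).presheaf.stalk (c P)) := isReduced_of_injective e' e'.injective
  exact FBase64.isGeomReducedAt_of_perfect f (j q) (c P) (by rw [← hy', ← hP]; rfl)

omit f in
theorem finiteType_of_chart {A : Type u} [CommRing A] [Algebra k A] (f : X ⟶ Spec (CommRingCat.of k))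
    [LocallyOfFiniteType f] (j : Spec (CommRingCat.of A) ⟶ X) [IsOpenImmersion j]
    (hj : j ≫ f = Spec.map (CommRingCat.ofHom (algebraMap k A))) : Algebra.FiniteType k A := by
  have h1 : LocallyOfFiniteType (Spec.map (CommRingCat.ofHom (algebraMap k A))) := hj ▸ inferInstance
  rw [HasRingHomProperty.Spec_iff (P := @LocallyOfFiniteType)] at h1
  exact RingHom.finiteType_algebraMap.mp h1

theorem mem_smoothLocus_chart_iff [LocallyOfFinitePresentation f] {A : Type u} [CommRing A] [Algebra k A]
    (j : Spec (CommRingCat.of A) ⟶ X) [IsOpenImmersion j]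
    (hj : j ≫ f = Spec.map (CommRingCat.ofHom (algebraMap k A))) (q : PrimeSpectrum A) :
    j q ∈ f.smoothLocus ↔ Algebra.IsSmoothAt k q.asIdeal := by
  refine (SetLike.ext_iff.1 (Scheme.Hom.preimage_smoothLocus_eq j f) q).trans (Scheme.Hom.mem_smoothLocus.trans ?_)
  refine (RingHom.FormallySmooth.respectsIso.arrow_mk_iso_iff
    ((eqToIso (by rw [hj]) : _ ≅ _) ≪≫ Scheme.arrowStalkMapSpecIso (CommRingCat.ofHom (algebraMap k A)) q)).trans ?_
  exact Unr55.localRingHom_formallySmooth_iff q.asIdeal

/-- Geometrically reduced at a point iff `(S_1)` there and smooth at the maximal generizations. -/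
theorem isGeomReducedAt_iff [LocallyOfFinitePresentation f] (x : X) :
    FBase.IsGeomReducedAt f x ↔ LocCoh.HasSk 1 (X.presheaf.stalk x) (X.presheaf.stalk x) ∧
      ∀ z, z ⤳ x → ringKrullDim (X.presheaf.stalk z) = 0 → z ∈ f.smoothLocus := by
  have : IsLocallyNoetherian X := LocallyOfFiniteType.isLocallyNoetherian f
  obtain ⟨A, _, _, j, _, ⟨q, rfl⟩, hj⟩ := FBase64.exists_chart f x
  have := finiteType_of_chart f j hj
  have : IsNoetherianRing A := Algebra.FiniteType.isNoetherianRing k A
  have hloc : ∀ p : PrimeSpectrum A, IsNoetherianRing (Localization.AtPrime p.asIdeal) := fun p =>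
    IsLocalization.isNoetherianRing p.asIdeal.primeCompl _ inferInstance
  let q' : PrimeSpectrum A := q
  have := hloc q'
  constructor
  · intro hx
    have hgr := (isGeomReducedAt_chart_iff f j hj q').1 hx
    have : IsReduced (Localization.AtPrime q'.asIdeal) :=
      @Algebra.isReduced_of_isGeometricallyReduced k _ _ _ _ hgr
    obtain ⟨e⟩ := FBase64.nonempty_stalkEquiv j q
    refine ⟨EGA4H10.hasSk_self_ringEquiv e.symm 1 (CAlg1.reduced_iff_R0_S1.1 ‹_›).2, fun z hz hdim => ?_⟩
    obtain ⟨p, rfl⟩ := hz.mem_open j.isOpenEmbedding.isOpen_range ⟨q, rfl⟩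
    have hgz : FBase.IsGeomReducedAt f (j p) := hz.mem_open (FBase64.isOpen_setOf_isGeomReducedAt f) hx
    obtain ⟨e'⟩ := FBase64.nonempty_stalkEquiv j p
    rw [ringKrullDim_eq_of_ringEquiv e'] at hdim
    exact (mem_smoothLocus_chart_iff f j hj p).2
      (isSmoothAt_of_geomReduced (show PrimeSpectrum A from p).asIdeal hdim
        ((isGeomReducedAt_chart_iff f j hj p).1 hgz))
  · rintro ⟨h1, h2⟩
    obtain ⟨e⟩ := FBase64.nonempty_stalkEquiv j q
    refine (isGeomReducedAt_chart_iff f j hj q').2 (geomReduced_of_S1 q'.asIdeal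
      (EGA4H10.hasSk_self_ringEquiv e 1 h1) fun p _ hpq hdim => ?_)
    let p' : PrimeSpectrum A := ⟨p, inferInstance⟩
    obtain ⟨e'⟩ := FBase64.nonempty_stalkEquiv j p'
    refine (mem_smoothLocus_chart_iff f j hj p').1 (h2 (j p') ?_ ?_)
    · exact ((PrimeSpectrum.le_iff_specializes p' q').1 hpq).map j.continuous
    · rw [ringKrullDim_eq_of_ringEquiv e']
      exact hdim

end Groth.Agent.Sk62
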