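import Groth.Agent.Sk62.Open
import Groth.Agent.Cons62.FibreTop
import Groth.Agent.FibDim94.BaseChange
import Groth.Agent.AffNorm62.OpenTarget
import Groth.Agent.CM62.DimStrata

/-! The closures in the fibres of a constructible set, filtered by dimension, are constructible. -/

set_option autoImplicit false

universe u

open CategoryTheory CategoryTheory.Limits AlgebraicGeometry TopologicalSpace Topology

namespace Groth.Agent.Sk62

variable {P X Y Y' : Scheme.{u}}

/-- The points in the closure, inside their fibre, of a point of `E` of dimension at least `m` there. -/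
def fclDeg (f : X ⟶ Y) (E : Set X) (m : ℕ) : Set X :=
  {x | ∃ z ∈ E, z ⤳ x ∧ f z = f x ∧ m ≤ E4O.fdeg f z}

/-- Generizations in a fibre lift along a base change without loss of dimension. -/
theorem exists_lift_fdeg {p : P ⟶ X} {q : P ⟶ Y'} {f : X ⟶ Y} {g : Y' ⟶ Y} [LocallyOfFiniteType f]
    (hsq : IsPullback p q f g) {w : P} {z : X} (h : z ⤳ p w) (hf : f z = f (p w)) :
    ∃ w', w' ⤳ w ∧ q w' = q w ∧ p w' = z ∧ E4O.fdeg q w' = E4O.fdeg f z := by
  have : LocallyOfFiniteType q := MorphismProperty.of_isPullback hsq inferInstance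
  let T : Set ℕ := {n | ∃ w', w' ⤳ w ∧ q w' = q w ∧ p w' = z ∧ E4O.fdeg q w' = n}
  have hne : T.Nonempty := by
    obtain ⟨w₀, h1, h2, h3⟩ := FibDim94.exists_lift_specializes hsq h hf
    exact ⟨_, w₀, h1, h2, h3, rfl⟩
  have hb : BddAbove T := ⟨E4O.fdeg f z, fun n ⟨w', _, _, h3, h4⟩ =>
    h4 ▸ h3 ▸ E4O.fdeg_le_of_isPullback hsq w'⟩
  obtain ⟨w', h1, h2, h3, h4⟩ := Nat.sSup_mem hne hb
  refine ⟨w', h1, h2, h3, ?_⟩
  have hiso1 : ∀ a, pullback.fst f g (hsq.isoPullback.hom a) = p a := fun a => by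
    rw [← Scheme.Hom.comp_apply, hsq.isoPullback_hom_fst]
  have hiso2 : ∀ a, pullback.snd f g (hsq.isoPullback.hom a) = q a := fun a => by
    rw [← Scheme.Hom.comp_apply, hsq.isoPullback_hom_snd]
  have e1 : E4O.fdeg q w' = E4O.fdeg (pullback.snd f g) (hsq.isoPullback.hom w') := by
    rw [← E4O.fdeg_comp_openImmersion hsq.isoPullback.hom (pullback.snd f g) w', hsq.isoPullback_hom_snd]
  rw [e1, ← h3, ← hiso1 w']
  refine Cyc90.fdeg_snd_eq _ fun t ht1 ht2 ht3 => ?_
  obtain ⟨t, rfl⟩ : ∃ t', hsq.isoPullback.hom t' = t :=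
    ⟨hsq.isoPullback.inv t, by rw [← Scheme.Hom.comp_apply, Iso.inv_hom_id]; rfl⟩
  rw [hiso1, hiso1] at ht1
  rw [hiso2, hiso2] at ht2
  have hspec : t ⤳ w' := hsq.isoPullback.hom.isOpenEmbedding.isInducing.specializes_iff.mp ht3
  by_contra hne'
  have hlt := E4O.fdeg_lt (f := q) hspec ht2 fun e => hne' (congrArg hsq.isoPullback.hom e)
  have hle := le_csSup hb ⟨t, hspec.trans h1, ht2.trans h2, ht1.trans h3, rfl⟩
  omega

theorem fclDeg_of_isPullback {p : P ⟶ X} {q : P ⟶ Y'} {f : X ⟶ Y} {g : Y' ⟶ Y} [LocallyOfFiniteType f]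
    (hsq : IsPullback p q f g) (E : Set X) (m : ℕ) : fclDeg q (p ⁻¹' E) m = p ⁻¹' fclDeg f E m := by
  ext w
  have hw : ∀ a, f (p a) = g (q a) := fun a => by
    rw [← Scheme.Hom.comp_apply, hsq.w, Scheme.Hom.comp_apply]
  constructor
  · rintro ⟨w', hE, hs, hq, hm⟩
    exact ⟨p w', hE, hs.map p.continuous, by rw [hw, hw, hq], hm.trans (E4O.fdeg_le_of_isPullback hsq w')⟩
  · rintro ⟨z, hE, hs, hf, hm⟩
    obtain ⟨w', h1, h2, rfl, h4⟩ := exists_lift_fdeg hsq hs hf
    exact ⟨w', hE, h1, h2, h4.symm ▸ hm⟩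

theorem fclDeg_openImmersion_comp {U : Scheme.{u}} (j : U ⟶ X) [IsOpenImmersion j] (f : X ⟶ Y)
    [LocallyOfFiniteType f] (E : Set X) (m : ℕ) : fclDeg (j ≫ f) (j ⁻¹' E) m = j ⁻¹' fclDeg f E m := by
  ext a
  constructor
  · rintro ⟨b, hE, hs, hf, hm⟩
    exact ⟨j b, hE, hs.map j.continuous, hf, hm.trans (E4O.fdeg_comp_openImmersion j f b).le⟩
  · rintro ⟨z, hE, hs, hf, hm⟩
    obtain ⟨b, rfl⟩ := hs.mem_open j.isOpenEmbedding.isOpen_range ⟨a, rfl⟩
    exact ⟨b, hE, j.isOpenEmbedding.isInducing.specializes_iff.1 hs, hf,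
      hm.trans (E4O.fdeg_comp_openImmersion j f b).ge⟩

theorem fclDeg_comp_openImmersion {Z : Scheme.{u}} (f : X ⟶ Y) (j : Y ⟶ Z) [IsOpenImmersion j]
    (E : Set X) (m : ℕ) : fclDeg (f ≫ j) E m = fclDeg f E m := by
  ext a
  simp only [fclDeg, Scheme.Hom.comp_apply, j.isOpenEmbedding.injective.eq_iff,
    AffNorm62.fdeg_comp_right_openImmersion, Set.mem_ofPred_eq]

theorem isConstructible_fclDeg_noetherian {A B : Type u} [CommRing A] [IsNoetherianRing A] [CommRing B]
    (φ : A →+* B) (hφ : φ.FiniteType) {E : Set (Spec (CommRingCat.of B))} (hE : IsConstructible E) (m : ℕ) :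
    IsConstructible (fclDeg (Spec.map (CommRingCat.ofHom φ)) E m) := by
  algebraize [φ]
  let f := Spec.map (CommRingCat.ofHom φ)
  have : LocallyOfFiniteType f := (HasRingHomProperty.Spec_iff (P := @LocallyOfFiniteType)).2 hφ
  have : IsNoetherianRing B := Algebra.FiniteType.isNoetherianRing A B
  have : NoetherianSpace (Spec (CommRingCat.of A)) := inferInstanceAs (NoetherianSpace (PrimeSpectrum A))
  suffices ∀ C : Set (Spec (CommRingCat.of A)), IsClosed C →
      IsConstructible (fclDeg f E m ∩ f ⁻¹' C) by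
    simpa using this Set.univ isClosed_univ
  refine ConstrTop58.closed_induction (by simp) (fun C D _ _ hC hD => ?_) fun C hC hCi ih => ?_
  · rw [Set.preimage_union, Set.inter_union_distrib_left]; exact hC.union hD
  obtain ⟨η', hη⟩ := QuasiSober.sober hCi hC
  let η : PrimeSpectrum A := η'
  have hC' : C = PrimeSpectrum.zeroLocus (η.asIdeal : Set A) :=
    hη.def.symm.trans (PrimeSpectrum.closure_singleton η)
  let A' := A ⧸ η.asIdeal
  let B' := TensorProduct A A' B
  let pr : Spec (CommRingCat.of B') ⟶ Spec (CommRingCat.of B) :=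
    Spec.map (CommRingCat.ofHom (Algebra.TensorProduct.includeRight (R := A) (A := A') (B := B)).toRingHom)
  let q : Spec (CommRingCat.of B') ⟶ Spec (CommRingCat.of A') :=
    Spec.map (CommRingCat.ofHom Algebra.TensorProduct.includeLeftRingHom)
  let g : Spec (CommRingCat.of A') ⟶ Spec (CommRingCat.of A) :=
    Spec.map (CommRingCat.ofHom (algebraMap A A'))
  have hsq : IsPullback pr q f g :=
    (isPullback_SpecMap_of_isPushout _ _ _ _ (CommRingCat.isPushout_tensorProduct A A' B)).flip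
  have : IsClosedImmersion g :=
    IsClosedImmersion.spec_of_surjective _ Ideal.Quotient.mk_surjective
  have : IsClosedImmersion pr := MorphismProperty.of_isPullback hsq.flip this
  have : LocallyOfFiniteType q := MorphismProperty.of_isPullback hsq ‹LocallyOfFiniteType f›
  have : IsNoetherianRing B' := Algebra.FiniteType.isNoetherianRing A' B'
  have hg : Set.range g = C := by
    rw [hC']
    exact (range_comap_of_surjective _ _ Ideal.Quotient.mk_surjective).trans (congrArg (fun I : Ideal A => PrimeSpectrum.zeroLocus (I : Set A)) Ideal.mk_ker)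
  have hE' : IsConstructible (pr ⁻¹' E) := pr.isConstructible_preimage hE
  obtain ⟨h', h0, hgen⟩ := Cons62.exists_closure_fibre (A := A') (B := B') hE'
  obtain ⟨h, rfl⟩ := Ideal.Quotient.mk_surjective h'
  have hh : h ∉ η.asIdeal := fun hp => h0 (Ideal.Quotient.eq_zero_iff_mem.mpr hp)
  let U : Set (Spec (CommRingCat.of A)) := ((PrimeSpectrum.basicOpen h : TopologicalSpace.Opens (PrimeSpectrum A)) : Set (PrimeSpectrum A))
  have hU : IsOpen U := (PrimeSpectrum.basicOpen h).2
  have hlt : C \ U ⊂ C := ⟨Set.sdiff_subset, fun hle => (hle hη.mem).2 hh⟩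
  have h1 := ih _ (hC.sdiff hU) hlt
  have hcl : pr ⁻¹' (fclDeg f E m ∩ f ⁻¹' (C ∩ U)) =
      {x | ∃ z ∈ closure (pr ⁻¹' E), z ⤳ x ∧ q z = q x ∧ m ≤ E4O.fdeg q z} ∩
        q ⁻¹' (g ⁻¹' U) := by
    have hw : ∀ a, f (pr a) = g (q a) := fun a => by
      rw [← Scheme.Hom.comp_apply, hsq.w, Scheme.Hom.comp_apply]
    rw [Set.preimage_inter, ← fclDeg_of_isPullback hsq]
    ext x
    simp only [Set.mem_inter_iff, Set.mem_preimage, hw, Set.mem_ofPred_eq]
    constructor
    · rintro ⟨⟨z, hz, h2, h3, h4⟩, -, hxU⟩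
      exact ⟨⟨z, subset_closure hz, h2, h3, h4⟩, hxU⟩
    · rintro ⟨⟨z, hz, h2, h3, h4⟩, hxU⟩
      refine ⟨?_, hg.le ⟨q x, rfl⟩, hxU⟩
      obtain ⟨z', hz', hs, hq'⟩ := hgen z hz (by
        intro hmem
        have : g (q z) ∈ U := by rw [h3]; exact hxU
        exact this hmem)
      refine ⟨z', hz', hs.trans h2, (show q z' = q z from hq').trans h3, h4.trans ?_⟩
      rcases eq_or_ne z' z with rfl | hne
      · exact le_rfl
      · exact (E4O.fdeg_lt (f := q) hs hq' hne).le
  have h2 : IsConstructible (pr ⁻¹' (fclDeg f E m ∩ f ⁻¹' (C ∩ U))) := by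
    rw [hcl]
    refine IsConstructible.inter ?_ ?_
    · rw [← isConstructible_compl]
      exact IsRetrocompact.isConstructible (isClosed_exists_le_fdeg q isClosed_closure m).isOpen_compl
        fun V _ _ => NoetherianSpace.isCompact _
    · exact IsRetrocompact.isConstructible ((hU.preimage g.continuous).preimage q.continuous)
        fun V _ _ => NoetherianSpace.isCompact _
  have h3 := h2.image_of_isClosedEmbedding pr.isClosedEmbedding (fun V _ _ => NoetherianSpace.isCompact _)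
  rw [Set.image_preimage_eq_inter_range] at h3
  have hpr : f ⁻¹' C ⊆ Set.range pr := fun a ha => by
    obtain ⟨b, hb⟩ := hg.ge ha
    obtain ⟨w, hw, -⟩ := Scheme.exists_preimage_of_isPullback hsq a b hb.symm
    exact ⟨w, hw⟩
  rw [Set.inter_eq_left.2 (Set.inter_subset_right.trans ((Set.preimage_mono Set.inter_subset_left).trans hpr))] at h3
  convert h3.union h1 using 1
  rw [← Set.inter_union_distrib_left, ← Set.preimage_union, Set.inter_union_sdiff]

theorem isConstructible_fclDeg_spec {A B : Type u} [CommRing A] [CommRing B]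
    (φ : A →+* B) (hφ : φ.FinitePresentation) {E : Set (Spec (CommRingCat.of B))} (hE : IsConstructible E) (m : ℕ) :
    IsConstructible (fclDeg (Spec.map (CommRingCat.ofHom φ)) E m) := by
  obtain ⟨d, rfl⟩ := PrimeSpectrum.exists_constructibleSetData_iff.mpr hE
  obtain ⟨A₀, B₀, _, _, φ₀, α, β, hN, hφ₀, hsq, hD⟩ := Cons62.exists_isPullback_model φ hφ [d]
  obtain ⟨d₀, hd₀⟩ := hD d (by simp)
  have : LocallyOfFiniteType (Spec.map (CommRingCat.ofHom φ₀)) :=
    (HasRingHomProperty.Spec_iff (P := @LocallyOfFiniteType)).2 (RingHom.FiniteType.of_finitePresentation hφ₀)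
  rw [hd₀]
  erw [fclDeg_of_isPullback hsq]
  exact (Spec.map (CommRingCat.ofHom β)).isConstructible_preimage
    (isConstructible_fclDeg_noetherian φ₀ (RingHom.FiniteType.of_finitePresentation hφ₀)
      (PrimeSpectrum.ConstructibleSetData.isConstructible_toSet d₀) m)

theorem isLocallyConstructible_fclDeg (f : X ⟶ Y) [LocallyOfFinitePresentation f] {E : Set X}
    (hE : IsLocallyConstructible E) (m : ℕ) : IsLocallyConstructible (fclDeg f E m) := by
  intro x
  obtain ⟨V, hV, hyV, -⟩ := exists_isAffineOpen_mem_and_subset (X := Y) (x := f x) (U := ⊤) trivial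
  obtain ⟨W, hW, hxW, hWV⟩ := exists_isAffineOpen_mem_and_subset (X := X) (x := x) (U := f ⁻¹ᵁ V) hyV
  have hle : W ≤ f ⁻¹ᵁ V := fun a ha => hWV ha
  have := hW.isOpenImmersion_fromSpec
  have := hV.isOpenImmersion_fromSpec
  refine ⟨W, W.isOpen.mem_nhds hxW, W.isOpen, ?_⟩
  have hfp : (f.appLE V W hle).hom.FinitePresentation :=
    LocallyOfFinitePresentation.finitePresentation_appLE f hV hW hle
  have h1 : IsConstructible (hW.fromSpec ⁻¹' fclDeg f E m) := by
    rw [← fclDeg_openImmersion_comp, ← IsAffineOpen.SpecMap_appLE_fromSpec f hV hW hle,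
      fclDeg_comp_openImmersion]
    exact isConstructible_fclDeg_spec _ hfp
      (Cons62.isLocallyConstructible_preimage hW.fromSpec hE).isConstructible m
  let ψ : (W : Set X) ≃ₜ Spec Γ(X, W) := hW.isoSpec.hom.homeomorph
  have h2 := h1.preimage_of_isOpenEmbedding ψ.isOpenEmbedding
  convert h2 using 1
  ext w
  let v : ↥(W : Scheme.{u}) := w
  show v.1 ∈ fclDeg f E m ↔ hW.fromSpec (hW.isoSpec.hom v) ∈ fclDeg f E m
  exact iff_of_eq (congrArg (fun z => z ∈ fclDeg f E m)
    (congrArg (fun g : (W : Scheme.{u}) ⟶ X => g v) hW.isoSpec_hom_fromSpec).symm)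

end Groth.Agent.Sk62
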