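import Groth.Agent.Sk62.GeomRedFibre
import Groth.Agent.Sk62.FibreClosure
import Groth.Agent.EGA4H10.RkLocus
import Groth.Agent.Hensel20.SerreEquiv
import Groth.Agent.FlatMor67.RegularSmooth
import Groth.Agent.Unr55.DescSmooth
import Groth.Agent.Unr55.SmoothStalk
import Mathlib.RingTheory.Ideal.GoingUp

/-! Geometric `(R_k)` of the fibres. -/

set_option autoImplicit false

universe u

open CategoryTheory CategoryTheory.Limits AlgebraicGeometry IsLocalRing TensorProduct Topology

namespace Groth.Agent.Sk62

variable {X : Scheme.{u}}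

/-- `(R_n)` of a local ring in terms of the generizations. -/
theorem hasRk_stalk_iff (n : ℕ) (x : X) :
    LocCoh.HasRk n (X.presheaf.stalk x) ↔
      ∀ z, z ⤳ x → ringKrullDim (X.presheaf.stalk z) ≤ (n : ℕ) → IsRegularLocalRing (X.presheaf.stalk z) := by
  obtain ⟨⟨A⟩, j, hj, ⟨q, rfl⟩, -⟩ :=
    Scheme.exists_affine_mem_range_and_range_subset (U := (⊤ : X.Opens)) (Set.mem_univ x)
  let q' : PrimeSpectrum A := q
  obtain ⟨e⟩ := FBase64.nonempty_stalkEquiv j q
  have hdim : ∀ p : PrimeSpectrum A, ringKrullDim (X.presheaf.stalk (j p)) ≤ (n : ℕ) ↔ p.asIdeal.height ≤ n :=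
    fun p => by
      obtain ⟨e'⟩ := FBase64.nonempty_stalkEquiv j p
      rw [ringKrullDim_eq_of_ringEquiv e',
        IsLocalization.AtPrime.ringKrullDim_eq_height p.asIdeal (Localization.AtPrime p.asIdeal)]
      exact WithBot.coe_le_coe
  have hreg : ∀ p : PrimeSpectrum A, IsRegularLocalRing (X.presheaf.stalk (j p)) ↔ p ∈ EGA4.regLocus A :=
    fun p => by
      obtain ⟨e'⟩ := FBase64.nonempty_stalkEquiv j p
      exact ⟨fun _ => IsRegularLocalRing.of_ringEquiv e',
        fun (_ : IsRegularLocalRing (Localization.AtPrime p.asIdeal)) => IsRegularLocalRing.of_ringEquiv e'.symm⟩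
  have h0 : LocCoh.HasRk n (X.presheaf.stalk (j q)) ↔ EGA4.HasRkAt n A q'.asIdeal :=
    ⟨Hensel20.hasRk_of_ringEquiv e n, Hensel20.hasRk_of_ringEquiv e.symm n⟩
  rw [h0, EGA4H10.hasRkAt_iff]
  constructor
  · intro h z hz hd
    obtain ⟨p, rfl⟩ := hz.mem_open j.isOpenEmbedding.isOpen_range ⟨q, rfl⟩
    exact (hreg p).2 (h p ((PrimeSpectrum.le_iff_specializes p q').2
      (j.isOpenEmbedding.isInducing.specializes_iff.1 hz)) ((hdim p).1 hd))
  · intro h p hp hd
    exact (hreg p).1 (h (j p) (((PrimeSpectrum.le_iff_specializes p q').1 hp).map j.continuous) ((hdim p).2 hd))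

theorem ringKrullDim_le_of_flat {Y : Scheme.{u}} [IsLocallyNoetherian X] [IsLocallyNoetherian Y]
    (h : X ⟶ Y) [Flat h] (x : X) :
    ringKrullDim (Y.presheaf.stalk (h x)) ≤ ringKrullDim (X.presheaf.stalk x) := by
  let _ : Algebra (Y.presheaf.stalk (h x)) (X.presheaf.stalk x) := (h.stalkMap x).hom.toAlgebra
  have : IsLocalHom (algebraMap (Y.presheaf.stalk (h x)) (X.presheaf.stalk x)) :=
    inferInstanceAs (IsLocalHom (h.stalkMap x).hom)
  have : Module.Flat (Y.presheaf.stalk (h x)) (X.presheaf.stalk x) := Flat.stalkMap h x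
  rw [Unr55.ringKrullDim_eq_add_of_flat (Y.presheaf.stalk (h x)) (X.presheaf.stalk x)]
  refine le_add_of_nonneg_right ?_
  have : Nontrivial (X.presheaf.stalk x ⧸ (maximalIdeal (Y.presheaf.stalk (h x))).map
      (algebraMap (Y.presheaf.stalk (h x)) (X.presheaf.stalk x))) :=
    Ideal.Quotient.nontrivial_iff.mpr (ne_top_of_le_ne_top (maximalIdeal.isMaximal _).ne_top
      (((local_hom_TFAE _).out 0 2 rfl rfl).mp ‹_›))
  exact ringKrullDim_nonneg_of_nontrivial

theorem height_le_height_comap {A T : Type u} [CommRing A] [CommRing T] [Algebra A T] [Algebra.IsIntegral A T]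
    (P : Ideal T) [P.IsPrime] : P.height ≤ (P.comap (algebraMap A T)).height := by
  let P' : PrimeSpectrum T := ⟨P, inferInstance⟩
  rw [show P.height = Order.height P' from PrimeSpectrum.height_eq_orderHeight P',
    show (P.comap (algebraMap A T)).height = Order.height (PrimeSpectrum.comap (algebraMap A T) P') from
      PrimeSpectrum.height_eq_orderHeight (PrimeSpectrum.comap (algebraMap A T) P')]
  exact Order.height_le_height_apply_of_strictMono (PrimeSpectrum.comap (algebraMap A T))
    (fun a b hab => by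
      have := a.isPrime
      exact Ideal.IsIntegral.comap_lt_comap (R := A) (A := T) hab) P'

attribute [local instance] Algebra.TensorProduct.rightAlgebra

variable {k : Type u} [Field k] (g : X ⟶ Spec (CommRingCat.of k)) [LocallyOfFinitePresentation g]

theorem regular_of_mem_smoothLocus {z : X} (hz : z ∈ g.smoothLocus) :
    IsRegularLocalRing (X.presheaf.stalk z) := by
  obtain ⟨A, _, _, j, _, ⟨q, rfl⟩, hj⟩ := FBase64.exists_chart g z
  have := finiteType_of_chart g j hj
  obtain ⟨e⟩ := FBase64.nonempty_stalkEquiv j q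
  have := (mem_smoothLocus_chart_iff g j hj q).1 hz
  have := Unr55.isRegularLocalRing_of_isSmoothAt_field (k := k) (show PrimeSpectrum A from q).asIdeal
  exact IsRegularLocalRing.of_ringEquiv e.symm

/-- A point of the base change violating `(R_n)` lies above a given non-smooth point of small height. -/
theorem exists_bad_point (n : ℕ) {x z : X} (hz : z ⤳ x) (hd : ringKrullDim (X.presheaf.stalk z) ≤ (n : ℕ))
    (hns : z ∉ g.smoothLocus) :
    ∃ (K : Type u) (_ : Field K) (_ : Algebra k K) (x' : ↥(FBase.bc g K)),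
      (FBase.bcπ g K).base x' = x ∧ ¬ LocCoh.HasRk n ((FBase.bc g K).presheaf.stalk x') := by
  obtain ⟨A, _, _, j, _, ⟨q, rfl⟩, hj⟩ := FBase64.exists_chart g x
  have := finiteType_of_chart g j hj
  obtain ⟨p, rfl⟩ := hz.mem_open j.isOpenEmbedding.isOpen_range ⟨q, rfl⟩
  let p' : PrimeSpectrum A := p
  let q' : PrimeSpectrum A := q
  have hpq : p'.asIdeal ≤ q'.asIdeal :=
    (PrimeSpectrum.le_iff_specializes p' q').2 (j.isOpenEmbedding.isInducing.specializes_iff.1 hz)
  rw [mem_smoothLocus_chart_iff g j hj p] at hns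
  have hht : p'.asIdeal.height ≤ n := by
    obtain ⟨e⟩ := FBase64.nonempty_stalkEquiv j p
    rw [ringKrullDim_eq_of_ringEquiv e,
      IsLocalization.AtPrime.ringKrullDim_eq_height p'.asIdeal (Localization.AtPrime p'.asIdeal)] at hd
    exact WithBot.coe_le_coe.1 hd
  by_contra hcon
  push Not at hcon
  let L := AlgebraicClosure k
  have : Algebra.IsIntegral A (L ⊗[k] A) := ⟨fun z => by
    have h : (Algebra.TensorProduct.includeRight (R := k) (A := L) (B := A)).toRingHom.IsIntegralElem z := by
      induction z using TensorProduct.induction_on with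
      | zero => exact RingHom.isIntegralElem_zero _
      | add a b ha hb => exact RingHom.IsIntegralElem.add _ ha hb
      | tmul l a =>
        rw [show l ⊗ₜ[k] a = (l ⊗ₜ[k] (1 : A)) * ((1 : L) ⊗ₜ[k] a) by simp]
        refine RingHom.IsIntegralElem.mul _ ?_ ((Algebra.TensorProduct.includeRight (R := k) (A := L) (B := A)).toRingHom.isIntegralElem_map)
        have hl : IsIntegral k l := Algebra.IsIntegral.isIntegral l
        exact (hl.map (Algebra.TensorProduct.includeLeft (R := k) (S := k) (A := L) (B := A))).tower_top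
    exact h⟩
  have : Module.FaithfullyFlat A (L ⊗[k] A) :=
    Module.FaithfullyFlat.of_linearEquiv A _ (Algebra.TensorProduct.commRight k A L).toLinearEquiv.symm
  obtain ⟨P', hP'⟩ := PrimeSpectrum.comap_surjective_of_faithfullyFlat (A := A) (B := L ⊗[k] A) p'
  let P := P'.asIdeal
  have hP : P.comap (Algebra.TensorProduct.includeRight (R := k) (A := L) (B := A)).toRingHom = p'.asIdeal :=
    congrArg PrimeSpectrum.asIdeal hP'
  refine hns ?_
  suffices IsRegularLocalRing (Localization.AtPrime P) by
    have : Algebra.FormallySmooth L P.ResidueField := Sep12.formallySmooth_of_perfectField _ _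
    have hs : Algebra.IsSmoothAt L P := FlatMor67.isSmoothAt_of_regular P
    have : Algebra.FinitePresentation k A := Algebra.FinitePresentation.of_finiteType.mp ‹_›
    show Algebra.IsSmoothAt k p'.asIdeal
    have h := Unr55.isSmoothAt_of_baseChange (R := k) P hs
    simpa only [hP] using h
  have halg : algebraMap A (L ⊗[k] A) =
      (Algebra.TensorProduct.includeRight (R := k) (A := L) (B := A)).toRingHom := rfl
  have hPp : P.comap (algebraMap A (L ⊗[k] A)) = p'.asIdeal := by rw [halg]; exact hP
  obtain ⟨Q, hPQ, _, hQ⟩ := Ideal.exists_ideal_over_prime_of_isIntegral (S := L ⊗[k] A) q'.asIdeal P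
    (hPp.le.trans hpq)
  let c := Algebra.TensorProduct.comm k A L
  let t := Spec.map (CommRingCat.ofHom (algebraMap k L))
  let Q' : PrimeSpectrum (A ⊗[k] L) := ⟨Q.comap c.toRingEquiv.toRingHom, inferInstance⟩
  let P' : PrimeSpectrum (A ⊗[k] L) := ⟨P.comap c.toRingEquiv.toRingHom, inferInstance⟩
  let C := FBase64.prodChart g t j (𝟙 _) hj (Category.id_comp _)
  have hfst : (FBase.bcπ g L).base (C Q') = j q := by
    show (pullback.fst g t) (C Q') = _
    refine (congrArg (fun φ : Spec (CommRingCat.of (A ⊗[k] L)) ⟶ X => φ Q')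
      (FBase64.prodChart_fst g t j (𝟙 _) hj (Category.id_comp _))).trans ?_
    refine congrArg j (PrimeSpectrum.ext ?_)
    show _ = q'.asIdeal
    rw [← hQ, halg]
    rfl
  have hR := (hasRk_stalk_iff n (C Q')).1 (hcon L inferInstance inferInstance (C Q') hfst) (C P')
    (((PrimeSpectrum.le_iff_specializes P' Q').1 (Ideal.comap_mono hPQ)).map C.continuous) (by
      obtain ⟨e⟩ := FBase64.nonempty_stalkEquiv C P'
      rw [ringKrullDim_eq_of_ringEquiv e,
        IsLocalization.AtPrime.ringKrullDim_eq_height P'.asIdeal (Localization.AtPrime P'.asIdeal)]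
      refine WithBot.coe_le_coe.2 ?_
      show (P.comap c.toRingEquiv.toRingHom).height ≤ _
      exact (RingEquiv.height_comap c.toRingEquiv P).le.trans
        ((height_le_height_comap (A := A) P).trans (hPp ▸ hht)))
  obtain ⟨e⟩ := FBase64.nonempty_stalkEquiv C P'
  have : IsRegularLocalRing (Localization.AtPrime P'.asIdeal) := IsRegularLocalRing.of_ringEquiv e
  exact IsRegularLocalRing.of_ringEquiv (atPrimeEquiv c.toRingEquiv P)

/-- The geometric condition `(R_n)` at a point: smooth at the generizations of height at most `n`. -/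
theorem geom_hasRk_iff (n : ℕ) (x : X) :
    (∀ (K : Type u) [Field K] [Algebra k K] (x' : ↥(FBase.bc g K)), (FBase.bcπ g K).base x' = x →
      LocCoh.HasRk n ((FBase.bc g K).presheaf.stalk x')) ↔
      ∀ z, z ⤳ x → ringKrullDim (X.presheaf.stalk z) ≤ (n : ℕ) → z ∈ g.smoothLocus := by
  constructor
  · intro h z hz hd
    by_contra hns
    obtain ⟨K, _, _, x', hx', hbad⟩ := exists_bad_point g n hz hd hns
    exact hbad (h K x' hx')
  · intro h K _ _ x' hx'
    let t := Spec.map (CommRingCat.ofHom (algebraMap k K))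
    let q : FBase.bc g K ⟶ Spec (CommRingCat.of K) := pullback.snd g t
    let π : FBase.bc g K ⟶ X := pullback.fst g t
    have hsq : IsPullback π q g t := IsPullback.of_hasPullback g t
    have : LocallyOfFinitePresentation q := MorphismProperty.of_isPullback hsq inferInstance
    have : IsLocallyNoetherian (FBase.bc g K) := LocallyOfFiniteType.isLocallyNoetherian q
    have : IsLocallyNoetherian X := LocallyOfFiniteType.isLocallyNoetherian g
    have : Flat π := MorphismProperty.of_isPullback (P := @Flat) hsq.flip inferInstance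
    rw [hasRk_stalk_iff]
    intro z' hz' hd'
    have hz : π z' ⤳ x := hx' ▸ hz'.map π.continuous
    have hs := h _ hz ((ringKrullDim_le_of_flat π z').trans hd')
    have hs' : z' ∈ q.smoothLocus := Open62.preimage_smoothLocus_le hsq hs
    exact regular_of_mem_smoothLocus q hs'

end Groth.Agent.Sk62
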