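import Groth.Agent.Sk62.PtIntegralOpen
import Groth.Agent.FBase64.DisjointComponents
import Groth.Agent.NearGen2.CompLocus
import Groth.Agent.Count62.ConstCount
import Groth.Agent.CohFlat58.FlatModel
import Groth.Agent.S1335
import Mathlib.AlgebraicGeometry.Morphisms.FlatDescent
import Mathlib.AlgebraicGeometry.Morphisms.UniversallyOpen
import Mathlib.AlgebraicGeometry.Geometrically.Integral
import Mathlib.AlgebraicGeometry.Geometrically.Connected

/-! Geometrically integral fibres of proper flat morphisms form an open set. -/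

set_option autoImplicit false
set_option linter.style.haveILetI false

universe u

open CategoryTheory CategoryTheory.Limits AlgebraicGeometry TopologicalSpace Topology

namespace Groth.Agent.Sk62

variable {X Y : Scheme.{u}}

theorem geometricallyIntegral_fibre_iff (f : X ⟶ Y) [LocallyOfFiniteType f] [QuasiCompact f] (y : Y) :
    GeometricallyIntegral (f.fiberToSpecResidueField y) ↔
      (∀ z : ↥(f.fiber y), FBase.IsGeomPtIntegralAt (f.fiberToSpecResidueField y) z) ∧
        MoreMor.nGeomConnComp f y = 1 := by
  let k := IsLocalRing.ResidueField (Y.presheaf.stalk y)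
  let t : f.fiber y ⟶ Spec (CommRingCat.of k) := f.fiberToSpecResidueField y
  have : LocallyOfFiniteType t :=
    MorphismProperty.of_isPullback (IsPullback.of_hasPullback f _) ‹LocallyOfFiniteType f›
  have : QuasiCompact t :=
    MorphismProperty.of_isPullback (IsPullback.of_hasPullback f _) ‹QuasiCompact f›
  rw [← NearGen2.geometricallyConnected_fiber_iff]
  constructor
  · intro h
    have h' : GeometricallyIntegral t := h
    refine ⟨fun z K _ _ z' _ => ?_, ⟨?_⟩⟩
    · have : IsIntegral (FBase.bc t K) := pullback_of_geometrically h'.geometrically_isIntegral _ _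
      infer_instance
    · intro K _ y' Z fst snd hZ
      have : IsIntegral Z := h.geometrically_isIntegral _ fst snd hZ
      infer_instance
  · rintro ⟨hP, hC⟩
    let Ω := AlgebraicClosure k
    have hred : GeometricallyReduced t := ((FBase64.forall_isGeomPtIntegralAt_iff (Ω := Ω) t).1 hP).1
    suffices GeometricallyIrreducible t from
      have := hred
      GeometricallyIntegral.of_geometricallyReduced_of_geometricallyIrreducible t
    refine ⟨geometrically_iff_of_commRing_of_isClosedUnderIsomorphisms.mpr fun K _ _ => ?_⟩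
    let T := FBase.bc t K
    let g : T ⟶ Spec (CommRingCat.of K) := FBase.bcStr t K
    show IrreducibleSpace ↥T
    have : LocallyOfFiniteType g :=
      MorphismProperty.of_isPullback (IsPullback.of_hasPullback t _) ‹LocallyOfFiniteType t›
    have : QuasiCompact g :=
      MorphismProperty.of_isPullback (IsPullback.of_hasPullback t _) ‹QuasiCompact t›
    have : IsLocallyNoetherian T := LocallyOfFiniteType.isLocallyNoetherian g
    have : CompactSpace ↥T := QuasiCompact.compactSpace_of_compactSpace g
    have : IsNoetherian T := { }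
    have : ConnectedSpace ↥T := pullback_of_geometrically hC.geometrically_connectedSpace _ _
    have hcard : Nat.card ↥(irreducibleComponents ↥T) = 1 := by
      rw [(FBase64.irrComp_card_eq_iff ↥T).2 fun x Z hZ Z' hZ' h1 h2 =>
        Props58.eq_of_isDomain_stalk x (hP _ K x rfl) Z hZ Z' hZ' h1 h2]
      rw [Nat.card_eq_one_iff_unique]
      exact ⟨inferInstance, ⟨_root_.ConnectedComponents.mk (Classical.arbitrary _)⟩⟩
    obtain ⟨⟨Z, hZ⟩, hZuniq⟩ := Nat.card_eq_one_iff_exists.1 hcard
    rw [irreducibleSpace_def]
    convert hZ.1 using 1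
    refine (Set.eq_univ_of_forall fun x => ?_).symm
    have := congrArg Subtype.val
      (hZuniq ⟨_, irreducibleComponent_mem_irreducibleComponents x⟩)
    exact (show irreducibleComponent x = Z from this) ▸ mem_irreducibleComponent

theorem isOpen_setOf_forall_giLocus (f : X ⟶ Y) [IsProper f] [Flat f] [LocallyOfFinitePresentation f] :
    IsOpen {y : Y | ∀ z : ↥(f.fiber y), FBase.IsGeomPtIntegralAt (f.fiberToSpecResidueField y) z} := by
  rw [← isClosed_compl_iff]
  convert f.isClosedMap _ (isOpen_giLocus f).isClosed_compl using 1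
  ext y
  constructor
  · intro h
    obtain ⟨z, hz⟩ := not_forall.1 h
    exact ⟨f.fiberι y z, fun hmem => hz ((giLocus_fibre_point f z rfl).2 hmem), E4O.apply_fiberι f y z⟩
  · rintro ⟨x, hx, rfl⟩ h
    exact hx (h (f.asFiber x))

theorem isOpen_geometricallyIntegral_noetherian [IsLocallyNoetherian Y] (f : X ⟶ Y) [IsProper f] [Flat f] :
    IsOpen {y : Y | GeometricallyIntegral (f.fiberToSpecResidueField y)} := by
  have : LocallyOfFinitePresentation f := E4O.locallyOfFinitePresentation_of_isLocallyNoetherian f
  rw [isOpen_iff_mem_nhds]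
  intro y hy
  obtain ⟨hP, hn⟩ := (geometricallyIntegral_fibre_iff f y).1 hy
  have : GeometricallyIntegral (f.fiberToSpecResidueField y) := hy
  have : GeometricallyReduced (f.fiberToSpecResidueField y) := inferInstance
  have hopen : ∀ x : X, f x = y → EGA43.IsUnivOpenAt f x := fun x _ => Count62.isOpenAt_of_universallyOpen f x
  filter_upwards [(isOpen_setOf_forall_giLocus f).mem_nhds hP, Count62.eventually_eq f y hopen]
    with z hz hz'
  exact (geometricallyIntegral_fibre_iff f z).2 ⟨hz, hz'.trans hn⟩

theorem geometricallyIntegral_fibre_baseChange {X' Y' : Scheme.{u}} {f : X ⟶ Y} {f' : X' ⟶ Y'}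
    {p : X' ⟶ X} {g : Y' ⟶ Y} [LocallyOfFiniteType f] [QuasiCompact f] (hsq : IsPullback p f' f g) (y' : Y') :
    GeometricallyIntegral (f'.fiberToSpecResidueField y') ↔
      GeometricallyIntegral (f.fiberToSpecResidueField (g y')) := by
  have : LocallyOfFiniteType f' := MorphismProperty.of_isPullback hsq ‹LocallyOfFiniteType f›
  have : QuasiCompact f' := MorphismProperty.of_isPullback hsq ‹QuasiCompact f›
  rw [geometricallyIntegral_fibre_iff, geometricallyIntegral_fibre_iff, S1335.result f f' p g hsq y']
  refine and_congr_left' ⟨fun h z => ?_, fun h z => ?_⟩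
  · obtain ⟨w, hw, hw'⟩ := Scheme.exists_preimage_of_isPullback hsq (f.fiberι (g y') z) y'
      (E4O.apply_fiberι f _ z)
    obtain ⟨v, rfl⟩ := E4O.exists_fiberι_eq f' hw'
    have := (giLocus_fibre_point f' v rfl).1 (h v)
    exact (giLocus_fibre_point f z rfl).2 (hw ▸ (mem_giLocus_of_isPullback hsq _).1 this)
  · refine (giLocus_fibre_point f' z rfl).2 ((mem_giLocus_of_isPullback hsq _).2 ?_)
    have hy : f (p (f'.fiberι y' z)) = g y' := by
      rw [← Scheme.Hom.comp_apply p f, hsq.w, Scheme.Hom.comp_apply, E4O.apply_fiberι]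
    obtain ⟨v, hv⟩ := E4O.exists_fiberι_eq f hy
    exact (giLocus_fibre_point f v hv).1 (h v)

theorem isOpen_geometricallyIntegral (f : X ⟶ Y) [IsProper f] [Flat f] [LocallyOfFinitePresentation f] :
    IsOpen {y : Y | GeometricallyIntegral (f.fiberToSpecResidueField y)} := by
  rw [isOpen_iff_forall_mem_open]
  intro y hy
  obtain ⟨V, hV, hyV, -⟩ := exists_isAffineOpen_mem_and_subset (X := Y) (x := y) (U := ⊤) trivial
  have := hV.isOpenImmersion_fromSpec
  let f' := pullback.snd f hV.fromSpec
  have : IsProper f' := MorphismProperty.pullback_snd _ _ ‹IsProper f›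
  have : Flat f' := MorphismProperty.pullback_snd _ _ ‹Flat f›
  have : LocallyOfFinitePresentation f' := MorphismProperty.pullback_snd _ _ ‹LocallyOfFinitePresentation f›
  obtain ⟨A₁, _, hN, _, X₁, f₁, _, _, q, hq⟩ := CohFlat58.exists_proper_flat_model Γ(Y, V) f'
  have : IsNoetherianRing (CommRingCat.of A₁) := hN
  let b := Spec.map (CommRingCat.ofHom (algebraMap A₁ Γ(Y, V)))
  let U := {p : ↥(Spec (CommRingCat.of A₁)) | GeometricallyIntegral (f₁.fiberToSpecResidueField p)}
  have hU : IsOpen U := isOpen_geometricallyIntegral_noetherian f₁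
  have key : ∀ p : ↥(Spec Γ(Y, V)), hV.fromSpec p ∈ {y : Y | GeometricallyIntegral (f.fiberToSpecResidueField y)} ↔
      b p ∈ U := fun p =>
    (geometricallyIntegral_fibre_baseChange (IsPullback.of_hasPullback f hV.fromSpec) p).symm.trans
      (geometricallyIntegral_fibre_baseChange hq p)
  refine ⟨hV.fromSpec '' (b ⁻¹' U), ?_, hV.fromSpec.isOpenEmbedding.isOpenMap _ (hU.preimage b.continuous), ?_⟩
  · rintro _ ⟨p, hp, rfl⟩
    exact (key p).2 hp
  · obtain ⟨p, rfl⟩ : y ∈ Set.range hV.fromSpec := by rw [hV.range_fromSpec]; exact hyV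
    exact ⟨p, (key p).1 hy, rfl⟩

end Groth.Agent.Sk62
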