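import Groth.Agent.Sk62.PreimmFibre
import Groth.Agent.Sk62.FibreClosure
import Groth.Agent.E4O.ChartDim
import Groth.Agent.FibDim94.FlatPoint
import Groth.Agent.FlatMor67.GenericFibre

/-! Flat morphisms with equidimensional fibres satisfying `(S_1)` are equidimensional (EGA IV 15.2.3). -/

set_option autoImplicit false

universe u

open CategoryTheory CategoryTheory.Limits AlgebraicGeometry Topology

namespace Groth.Agent.Sk62

variable {X Y : Scheme.{u}}

theorem fdim_eq_zero_iff (f : X ⟶ Y) [LocallyOfFiniteType f] (z : X) :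
    fdim f z = 0 ↔ E4O.IsFibreMax f z := by
  obtain ⟨k, m, hk, -, hD⟩ := exists_invariants f z
  constructor
  · intro h a ha hfa
    by_contra hne
    have hk0 : k = 0 := by exact_mod_cast hk.symm.trans h
    have h1 := E4O.fdeg_lt (f := f) ha hfa hne
    have h2 := (E4O.fdeg_le_fibreDimAt ha hfa).trans hD.le
    have h2' : E4O.fdeg f a ≤ k + E4O.fdeg f z := by exact_mod_cast h2
    omega
  · intro h
    rw [E4O.fibreDimAt_eq_fdeg h] at hD
    have : E4O.fdeg f z = k + E4O.fdeg f z := by exact_mod_cast hD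
    rw [hk, show k = 0 by omega]
    rfl

theorem fdepth_eq_zero_of_isFibreMax (f : X ⟶ Y) [LocallyOfFiniteType f] {z : X}
    (h : E4O.IsFibreMax f z) : fdepth f z = 0 := by
  obtain ⟨k, m, hk, hm, -⟩ := exists_invariants f z
  have hk0 : k = 0 := by exact_mod_cast hk.symm.trans ((fdim_eq_zero_iff f z).2 h)
  have := isLocalRing_noetherian_fibre f z
  have h' := EGA4Alg4.depth_le_supportDim (A := (f.fiber (f z)).presheaf.stalk (f.asFiber z))
    (M := (f.fiber (f z)).presheaf.stalk (f.asFiber z))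
  rw [Module.supportDim_self_eq_ringKrullDim] at h'
  change ((fdepth f z : ℕ∞) : WithBot ℕ∞) ≤ fdim f z at h'
  rw [hk, hm] at h'
  have : m ≤ k := by exact_mod_cast h'
  rw [hm, show m = 0 by omega]
  rfl

/-- For a flat morphism, at a point whose fibre is `(S_1)` and equidimensional of dimension `e`,
the generizations which are maximal in their fibre have degree `e` or more. -/
theorem le_fdeg_of_flat_equidim (f : X ⟶ Y) [Flat f] [LocallyOfFinitePresentation f] (x : X) (e : ℕ)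
    (hS : LocCoh.HasSk 1 ((f.fiber (f x)).presheaf.stalk (f.asFiber x))
        ((f.fiber (f x)).presheaf.stalk (f.asFiber x)))
    (he : ∀ z, z ⤳ x → f z = f x → E4O.IsFibreMax f z → e ≤ E4O.fdeg f z)
    {ξ : X} (hξ : ξ ⤳ x) (hmax : E4O.IsFibreMax f ξ) : e ≤ E4O.fdeg f ξ := by
  by_contra hlt
  let d := E4O.fdeg f ξ
  have hB : IsClosed {a : X | ∃ z ∈ {z : X | ((d + 1 : ℕ) : ℕ∞) ≤ rdepth f z}ᶜ,
      z ⤳ a ∧ f z = f a ∧ d ≤ E4O.fdeg f z} :=
    isClosed_exists_le_fdeg f (isOpen_le_rdepth f (d + 1)).isClosed_compl d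
  have hξB : ∃ z ∈ {z : X | ((d + 1 : ℕ) : ℕ∞) ≤ rdepth f z}ᶜ,
      z ⤳ ξ ∧ f z = f ξ ∧ d ≤ E4O.fdeg f z := by
    refine ⟨ξ, ?_, specializes_rfl, rfl, le_rfl⟩
    show ¬ ((d + 1 : ℕ) : ℕ∞) ≤ fdepth f ξ + (E4O.fdeg f ξ : ℕ∞)
    rw [fdepth_eq_zero_of_isFibreMax f hmax, zero_add, Nat.cast_le]
    omega
  obtain ⟨z, hz, hzx, hfz, hd⟩ := hξ.mem_closed hB hξB
  change ¬ ((d + 1 : ℕ) : ℕ∞) ≤ fdepth f z + (E4O.fdeg f z : ℕ∞) at hz
  obtain ⟨k, m, hk, hm, -⟩ := exists_invariants f z
  rw [hm, ← Nat.cast_add, Nat.cast_le] at hz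
  have hsk := ((hasSk_fibre_iff f 1 x).1 hS) z hzx hfz
  rw [hk, hm] at hsk
  have hmin : min 1 k ≤ m := by
    rw [min_le_iff] at hsk ⊢
    exact hsk.imp (fun h => by exact_mod_cast h) fun h => by exact_mod_cast h
  have := he z hzx hfz ((fdim_eq_zero_iff f z).1 (by rw [hk, show k = 0 by omega]; rfl))
  omega

theorem exists_reduction (Y : Scheme.{u}) [IsLocallyNoetherian Y] :
    ∃ (Y' : Scheme.{u}) (i : Y' ⟶ Y), IsClosedImmersion i ∧ Surjective i ∧ IsReduced Y' ∧
      IsLocallyNoetherian Y' := by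
  refine ⟨_, Y.nilradical.subschemeι, inferInstance, ⟨fun y => ?_⟩,
    FlatMor67.isReduced_subscheme_nilradical Y, LocallyOfFiniteType.isLocallyNoetherian Y.nilradical.subschemeι⟩
  have : y ∈ Set.range Y.nilradical.subschemeι := by
    rw [Scheme.IdealSheafData.range_subschemeι, Scheme.support_nilradical]
    exact Set.mem_univ _
  exact this

/-- EGA IV 15.2.3. -/
theorem isEquidimAt_of_maxUnivOpenAt [IsLocallyNoetherian Y] (f : X ⟶ Y) [LocallyOfFiniteType f] (x : X)
    (hopen : MaxUnivOpenAt f x)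
    (hred : FBase.IsGeomReducedAt (f.fiberToSpecResidueField (f x)) (f.asFiber x))
    (e : ℕ) (he : ∀ z, z ⤳ x → f z = f x → E4O.IsFibreMax f z → E4O.fdeg f z = e) :
    EGA43.IsEquidimAt f x := by
  have hlfp : LocallyOfFinitePresentation f := E4O.locallyOfFinitePresentation_of_isLocallyNoetherian f
  obtain ⟨Y', i, _, _, _, _⟩ := exists_reduction Y
  let p := pullback.fst f i
  let q := pullback.snd f i
  have hsq : IsPullback p q f i := IsPullback.of_hasPullback f i
  obtain ⟨x', rfl⟩ := p.surjective x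
  obtain ⟨U, hxU, _, hgr⟩ := exists_nhd_flat_geomReduced q x' (hopen.preimmersion hsq)
    ((isGeomReducedAt_fibre_preimmersion hsq x').2 hred) inferInstance
  have : LocallyOfFinitePresentation q := MorphismProperty.of_isPullback hsq inferInstance
  have hfdeg : ∀ a, E4O.fdeg q a = E4O.fdeg f (p a) := fun a => by
    obtain ⟨a', -, -, h3, h4⟩ := exists_lift_fdeg hsq (w := a) specializes_rfl rfl
    rwa [p.isEmbedding.injective h3] at h4
  have hfp : ∀ b, f (p b) = i (q b) := fun b => by rw [← Scheme.Hom.comp_apply, hsq.w, Scheme.Hom.comp_apply]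
  obtain ⟨z₀, hz₀, hfz₀, hz₀max, hd₀, -⟩ := E4O.exists_isFibreMax_specializes f (p x')
  refine E4O.isEquidimAt_of_forall_generic f _ e (hd₀.trans (by rw [he z₀ hz₀ hfz₀ hz₀max])).le fun ξ hξx hξmax => ?_
  obtain ⟨ξ', rfl⟩ := p.surjective ξ
  have hξ' : ξ' ⤳ x' := p.isEmbedding.isInducing.specializes_iff.1 hξx
  have hle : E4O.fdeg f (p ξ') ≤ e := by
    have := (E4O.fdeg_le_fibreDimAt_of_specializes (f := f) hξx).trans hd₀.le
    rw [he z₀ hz₀ hfz₀ hz₀max] at this
    exact_mod_cast this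
  let a : ↥U := ⟨ξ', hξ'.mem_open U.isOpen hxU⟩
  let b : ↥U := ⟨x', hxU⟩
  have hab : a ⤳ b := (subtype_specializes_iff a b).2 hξ'
  have hflat : ((U.ι ≫ q).stalkMap a).hom.Flat := Flat.stalkMap _ _
  refine ⟨le_antisymm hle ?_, E4O.closure_mem_irreducibleComponents fun y' hy' => ?_⟩
  · have hmax : E4O.IsFibreMax (U.ι ≫ q) a := fun c hc _ =>
      Subtype.ext (p.isEmbedding.injective (hξmax _ (((subtype_specializes_iff c a).1 hc).map p.continuous)))
    have hS : LocCoh.HasSk 1 ((q.fiber (q x')).presheaf.stalk (q.asFiber x'))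
        ((q.fiber (q x')).presheaf.stalk (q.asFiber x')) := ((isGeomReducedAt_fibre_iff q x').1 (hgr x' hxU)).1
    have := le_fdeg_of_flat_equidim (U.ι ≫ q) b e ((hasSk_openImmersion_comp_iff U.ι q 1 b).2 hS)
      (fun z hz hfz hzmax => ?_) hab hmax
    · exact this.trans ((E4O.fdeg_comp_openImmersion U.ι q a).trans (hfdeg _)).le
    · refine le_of_le_of_eq ?_ ((E4O.fdeg_comp_openImmersion U.ι q z).trans (hfdeg _)).symm
      refine (he _ (((subtype_specializes_iff z b).1 hz).map p.continuous) ?_ fun c hc hfc => ?_).ge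
      · rw [hfp, hfp]
        exact congrArg i hfz
      · obtain ⟨c, rfl, hqc, hc'⟩ := exists_of_specializes hsq hc hfc
        have := hzmax ⟨c, hc'.mem_open U.isOpen z.2⟩ ((subtype_specializes_iff (⟨c, hc'.mem_open U.isOpen z.2⟩ : U) z).2 hc') hqc
        exact congrArg p (congrArg Subtype.val this)
  · obtain ⟨η, rfl⟩ := i.surjective y'
    rw [hfp] at hy' ⊢
    have hη : η ⤳ q ξ' := i.isEmbedding.isInducing.specializes_iff.1 hy'
    obtain ⟨c, hc1, hc2, -⟩ := FibDim94.exists_fdeg_ge_of_flat_stalk (U.ι ≫ q) (x := a) hflat (y' := η) hη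
    have := hξmax (p c.1) (((subtype_specializes_iff c a).1 hc2).map p.continuous)
    rw [← hc1, show c = a from Subtype.ext (p.isEmbedding.injective this)]
    rfl

end Groth.Agent.Sk62
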