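import Groth.Agent.Sk62.FieldExt
import Groth.Agent.Sk62.Open
import Groth.Agent.GenFree62.Generic
import Groth.Agent.Cons62.Model
import Mathlib.RingTheory.Spectrum.Prime.Chevalley
import Mathlib.RingTheory.Spectrum.Prime.Noetherian

/-! Constructibility of properties of the local rings of fibres: open on flat morphisms and
invariant under extensions of the base field implies locally constructible. -/

set_option autoImplicit false

universe u

open CategoryTheory AlgebraicGeometry TensorProduct Topology TopologicalSpace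

namespace Groth.Agent.Sk62

variable (Pr : ∀ (R : Type u) [CommRing R] [IsLocalRing R], Prop)

/-- The points at which the local ring of the fibre has the property. -/
def locus {X Y : Scheme.{u}} (f : X ⟶ Y) : Set X :=
  {x | Pr ((f.fiber (f x)).presheaf.stalk (f.asFiber x))}

/-- The ring version of `locus`. -/
def locA (A B : Type u) [CommRing A] [CommRing B] [Algebra A B] : Set (PrimeSpectrum B) :=
  {q | Pr (RelPd52.fibreRing A q)}

/-- Properties of local rings whose fibrewise loci are constructible. -/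
structure GoodProp : Prop where
  iso : ∀ (R S : Type u) [CommRing R] [IsLocalRing R] [CommRing S] [IsLocalRing S] [IsNoetherianRing R],
    (R ≃+* S) → Pr R → Pr S
  ext : ∀ (k S L : Type u) [Field k] [CommRing S] [Algebra k S] [Field L] [Algebra k L]
    [Algebra.FiniteType k S] (Q' : Ideal (S ⊗[k] L)) [Q'.IsPrime],
    Pr (Localization.AtPrime (Q'.comap (algebraMap S (S ⊗[k] L)))) ↔ Pr (Localization.AtPrime Q')
  isOpen_of_flat : ∀ {X Y : Scheme.{u}} (f : X ⟶ Y) [Flat f] [LocallyOfFinitePresentation f],
    IsOpen (locus Pr f)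

variable {Pr} (hPr : GoodProp Pr)

include hPr

theorem mem_locus_chart {X Y : Scheme.{u}} (f : X ⟶ Y) [LocallyOfFiniteType f] {A B : Type u} [CommRing A]
    [CommRing B] [Algebra A B] (e : Spec (CommRingCat.of B) ⟶ X) [IsOpenImmersion e]
    (j : Spec (CommRingCat.of A) ⟶ Y) [IsOpenImmersion j]
    (comm : Spec.map (CommRingCat.ofHom (algebraMap A B)) ≫ j = e ≫ f) (q : PrimeSpectrum B) :
    q ∈ locA Pr A B ↔ e q ∈ locus Pr f := by
  obtain ⟨-, -, ⟨E⟩⟩ := fibreRing_data f e j comm q
  have := isLocalRing_noetherian_fibre f (e q)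
  have := isNoetherianRing_of_ringEquiv _ E.symm
  exact ⟨hPr.iso _ _ E, hPr.iso _ _ E.symm⟩

variable {A B : Type u} [CommRing A] [CommRing B] [Algebra A B]

theorem isOpen_locA [Module.Flat A B] [Algebra.FinitePresentation A B] : IsOpen (locA Pr A B) := by
  let f := Spec.map (CommRingCat.ofHom (algebraMap A B))
  have : Flat f := (HasRingHomProperty.Spec_iff (P := @Flat)).2 (RingHom.flat_algebraMap_iff.2 ‹_›)
  have : LocallyOfFinitePresentation f := (HasRingHomProperty.Spec_iff (P := @LocallyOfFinitePresentation)).2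
    (RingHom.finitePresentation_algebraMap.2 ‹_›)
  have h := hPr.isOpen_of_flat f
  have heq : locA Pr A B = (show Set (PrimeSpectrum B) from locus Pr f) :=
    Set.ext fun q => mem_locus_chart hPr f (𝟙 _) (𝟙 _) (by simp [f]) q
  rw [heq]
  exact h

theorem mem_locA_algEquiv [Algebra.FiniteType A B] {B' : Type u} [CommRing B'] [Algebra A B']
    [Algebra.FiniteType A B'] (e : B' ≃ₐ[A] B) (q : PrimeSpectrum B) :
    q ∈ locA Pr A B ↔ PrimeSpectrum.comap e.toRingHom q ∈ locA Pr A B' := by
  let f := Spec.map (CommRingCat.ofHom (algebraMap A B'))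
  let i := Spec.map (CommRingCat.ofHom e.toRingHom)
  have : IsIso (CommRingCat.ofHom e.toRingHom) :=
    (ConcreteCategory.isIso_iff_bijective _).2 e.bijective
  have : LocallyOfFiniteType f := (HasRingHomProperty.Spec_iff (P := @LocallyOfFiniteType)).2
    (RingHom.finiteType_algebraMap.2 ‹_›)
  have h1 := mem_locus_chart hPr f (A := A) (B := B) i (𝟙 _) (by
    simp only [i, f, Category.comp_id, ← Spec.map_comp, ← CommRingCat.ofHom_comp]
    congr 2
    exact RingHom.ext fun a => (e.commutes a).symm) q
  have h2 := mem_locus_chart hPr f (A := A) (B := B') (𝟙 _) (𝟙 _) (by simp [f])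
    (PrimeSpectrum.comap e.toRingHom q)
  exact h1.trans h2.symm

theorem mem_locA_baseChange [Algebra.FiniteType A B] {A' : Type u} [CommRing A'] [Algebra A A']
    (q' : PrimeSpectrum (A' ⊗[A] B)) :
    q' ∈ locA Pr A' (A' ⊗[A] B) ↔
      PrimeSpectrum.comap Algebra.TensorProduct.includeRight.toRingHom q' ∈ locA Pr A B := by
  obtain ⟨k, S, L, _, _, _, _, _, _, Q', _, ⟨e⟩, ⟨e'⟩⟩ := exists_baseChange_data q'
  have : IsNoetherianRing S := Algebra.FiniteType.isNoetherianRing k S
  have := isNoetherianRing_tensor k S L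
  have : IsNoetherianRing (Localization.AtPrime Q') :=
    IsLocalization.isNoetherianRing Q'.primeCompl _ inferInstance
  have : IsNoetherianRing (Localization.AtPrime (Q'.comap (algebraMap S (S ⊗[k] L)))) :=
    IsLocalization.isNoetherianRing (Q'.comap (algebraMap S (S ⊗[k] L))).primeCompl _ inferInstance
  have := isNoetherianRing_of_ringEquiv _ e
  have := isNoetherianRing_of_ringEquiv _ e'
  exact ⟨fun h => hPr.iso _ _ e ((hPr.ext k S L Q').2 (hPr.iso _ _ e'.symm h)),
    fun h => hPr.iso _ _ e' ((hPr.ext k S L Q').1 (hPr.iso _ _ e.symm h))⟩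

theorem isConstructible_locA_inter [IsNoetherianRing A] [Algebra.FiniteType A B] (I : Ideal A) :
    IsConstructible (locA Pr A B ∩
      PrimeSpectrum.comap (algebraMap A B) ⁻¹' PrimeSpectrum.zeroLocus (I : Set A)) := by
  have : IsNoetherianRing B := Algebra.FiniteType.isNoetherianRing A B
  induction I using WellFoundedGT.induction with
  | _ I ih =>
    by_cases htop : I = ⊤
    · simp [htop]
    have hlt : ∀ c : A, c ∉ I → I < I ⊔ Ideal.span {c} := fun c hc =>
      lt_of_le_of_ne le_sup_left fun h => hc (h ▸ Ideal.mem_sup_right (Ideal.mem_span_singleton_self c))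
    by_cases hprime : I.IsPrime
    swap
    · obtain h | ⟨a, ha, b, hb, hab⟩ := Ideal.not_isPrime_iff.mp hprime
      · exact absurd h htop
      convert (ih _ (hlt a ha)).union (ih _ (hlt b hb)) using 1
      ext P
      simp only [Set.mem_inter_iff, Set.mem_preimage, Set.mem_union, PrimeSpectrum.mem_zeroLocus,
        SetLike.coe_subset_coe, sup_le_iff, Ideal.span_singleton_le_iff_mem]
      constructor
      · rintro ⟨hP, hI⟩
        exact ((PrimeSpectrum.comap (algebraMap A B) P).2.mem_or_mem (hI hab)).imp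
          (fun h => ⟨hP, hI, h⟩) fun h => ⟨hP, hI, h⟩
      · rintro (⟨hP, hI, -⟩ | ⟨hP, hI, -⟩) <;> exact ⟨hP, hI⟩
    have : IsDomain (A ⧸ I) := Ideal.Quotient.isDomain I
    obtain ⟨hb, h0, hfree⟩ := GenFree62.exists_freeAway (A := A ⧸ I) (B := (A ⧸ I) ⊗[A] B)
      (M := (A ⧸ I) ⊗[A] B)
    obtain ⟨h, rfl⟩ := Ideal.Quotient.mk_surjective hb
    have hh : h ∉ I := fun hh => h0 (Ideal.Quotient.eq_zero_iff_mem.2 hh)
    let A' := Localization.Away (Ideal.Quotient.mk I h)
    have hunit : IsUnit (algebraMap (A ⧸ I) A' (Ideal.Quotient.mk I h)) :=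
      IsLocalization.Away.algebraMap_isUnit _
    have := hfree A' hunit
    have : Module.Free A' (A' ⊗[A] B) :=
      Module.Free.of_equiv (AlgebraTensorModule.cancelBaseChange A (A ⧸ I) A' A' B)
    have : Module.Flat A' (A' ⊗[A] B) := Module.Flat.of_free
    have : Algebra.FiniteType A A' :=
      have : Algebra.FiniteType (A ⧸ I) A' := inferInstance
      Algebra.FiniteType.trans (R := A) (S := A ⧸ I) (A := A') inferInstance this
    have : IsNoetherianRing A' := Algebra.FiniteType.isNoetherianRing A A'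
    have : Algebra.FiniteType A' (A' ⊗[A] B) := inferInstance
    have : Algebra.FinitePresentation A' (A' ⊗[A] B) :=
      Algebra.FinitePresentation.of_finiteType.1 inferInstance
    have : IsNoetherianRing (A' ⊗[A] B) := Algebra.FiniteType.isNoetherianRing A' _
    let ρ : B →+* A' ⊗[A] B := Algebra.TensorProduct.includeRight.toRingHom
    have hρ : ρ.FinitePresentation := by
      refine RingHom.FinitePresentation.of_finiteType.1 (RingHom.FiniteType.of_comp_finiteType
        (f := algebraMap A B) ?_)
      rw [show ρ.comp (algebraMap A B) = algebraMap A (A' ⊗[A] B) from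
        Algebra.TensorProduct.includeRight.comp_algebraMap]
      exact RingHom.finiteType_algebraMap.2 (Algebra.FiniteType.trans (R := A) (S := A') (A := A' ⊗[A] B) inferInstance inferInstance)
    have himg := PrimeSpectrum.isConstructible_comap_image hρ
      (IsRetrocompact.isConstructible (isOpen_locA hPr (A := A') (B := A' ⊗[A] B))
        fun U _ _ => NoetherianSpace.isCompact _)
    have hih := ih (I ⊔ Ideal.span {h}) (hlt h hh)
    convert hih.union himg using 1
    ext P
    simp only [Set.mem_inter_iff, Set.mem_preimage, Set.mem_union, PrimeSpectrum.mem_zeroLocus,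
      SetLike.coe_subset_coe, sup_le_iff, Ideal.span_singleton_le_iff_mem, Set.mem_image]
    constructor
    · rintro ⟨hP, hI⟩
      by_cases hPh : h ∈ (PrimeSpectrum.comap (algebraMap A B) P).asIdeal
      · exact Or.inl ⟨hP, hI, hPh⟩
      let K := P.asIdeal.ResidueField
      let g : A ⧸ I →+* K := Ideal.Quotient.lift I (algebraMap A K) fun a ha => by
        rw [IsScalarTower.algebraMap_apply A B K, Ideal.algebraMap_residueField_eq_zero]
        exact hI ha
      have hgu : IsUnit (g (Ideal.Quotient.mk I h)) := by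
        rw [Ideal.Quotient.lift_mk, IsScalarTower.algebraMap_apply A B K, isUnit_iff_ne_zero, ne_eq,
          Ideal.algebraMap_residueField_eq_zero]
        exact hPh
      let φ : A' →ₐ[A] K := ⟨IsLocalization.Away.lift (Ideal.Quotient.mk I h) hgu, fun a => by
        show IsLocalization.Away.lift _ hgu (algebraMap A A' a) = _
        rw [IsScalarTower.algebraMap_apply A (A ⧸ I) A', IsLocalization.Away.lift_eq]
        rfl⟩
      let Φ : A' ⊗[A] B →ₐ[A] K :=
        Algebra.TensorProduct.lift φ (IsScalarTower.toAlgHom A B K) fun _ _ => .all _ _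
      let P' : PrimeSpectrum (A' ⊗[A] B) := ⟨RingHom.ker Φ.toRingHom, RingHom.ker_isPrime _⟩
      have hP' : PrimeSpectrum.comap ρ P' = P := by
        ext b
        show Φ ((1 : A') ⊗ₜ[A] b) = 0 ↔ _
        rw [Algebra.TensorProduct.lift_tmul, map_one, one_mul]
        exact Ideal.algebraMap_residueField_eq_zero
      exact Or.inr ⟨P', (mem_locA_baseChange hPr P').2 (show PrimeSpectrum.comap ρ P' ∈ _ from hP'.symm ▸ hP),
        hP'⟩
    · rintro (⟨hP, hI, -⟩ | ⟨P', hP', rfl⟩)
      · exact ⟨hP, hI⟩
      refine ⟨(mem_locA_baseChange hPr P').1 hP', fun a ha => ?_⟩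
      show ρ (algebraMap A B a) ∈ P'.asIdeal
      rw [show ρ (algebraMap A B a) = algebraMap A (A' ⊗[A] B) a from
        Algebra.TensorProduct.includeRight.commutes a, IsScalarTower.algebraMap_apply A A' (A' ⊗[A] B),
        IsScalarTower.algebraMap_apply A (A ⧸ I) A']
      rw [show algebraMap A (A ⧸ I) a = 0 from Ideal.Quotient.eq_zero_iff_mem.2 ha, map_zero, map_zero]
      exact zero_mem _

theorem isConstructible_locA [Algebra.FinitePresentation A B] : IsConstructible (locA Pr A B) := by
  obtain ⟨A₀, B₀, _, _, e, hN, hfp, -⟩ := Cons62.exists_model (A := A) (B := B) Set.finite_empty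
  have h := isConstructible_locA_inter hPr (A := A₀) (B := B₀) (⊥ : Ideal A₀)
  simp only [Submodule.bot_coe, PrimeSpectrum.zeroLocus_singleton_zero, Set.preimage_univ,
    Set.inter_univ] at h
  obtain ⟨D, hD⟩ := PrimeSpectrum.exists_constructibleSetData_iff.2 h
  refine PrimeSpectrum.exists_constructibleSetData_iff.1
    ⟨D.map (e.toRingHom.comp Algebra.TensorProduct.includeRight.toRingHom), ?_⟩
  rw [PrimeSpectrum.ConstructibleSetData.toSet_map, hD]
  ext q
  exact ((mem_locA_algEquiv hPr e q).trans (mem_locA_baseChange hPr _)).symm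

theorem isLocallyConstructible_locus {X Y : Scheme.{u}} (f : X ⟶ Y) [LocallyOfFinitePresentation f] :
    IsLocallyConstructible (locus Pr f) := by
  intro x
  obtain ⟨V, hV, hyV, -⟩ := exists_isAffineOpen_mem_and_subset (X := Y) (x := f x) (U := ⊤) trivial
  obtain ⟨W, hW, hxW, hWV⟩ := exists_isAffineOpen_mem_and_subset (X := X) (x := x) (U := f ⁻¹ᵁ V) hyV
  have hle : W ≤ f ⁻¹ᵁ V := fun a ha => hWV ha
  let φ := f.appLE V W hle
  algebraize [φ.hom]
  have : Algebra.FinitePresentation Γ(Y, V) Γ(X, W) :=
    LocallyOfFinitePresentation.finitePresentation_appLE f hV hW hle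
  have := hW.isOpenImmersion_fromSpec
  have := hV.isOpenImmersion_fromSpec
  refine ⟨W, W.isOpen.mem_nhds hxW, W.isOpen, ?_⟩
  have h1 : IsConstructible (hW.fromSpec ⁻¹' locus Pr f) := by
    have h := isConstructible_locA hPr (A := Γ(Y, V)) (B := Γ(X, W))
    have heq : hW.fromSpec ⁻¹' locus Pr f = (show Set (Spec Γ(X, W)) from locA Pr Γ(Y, V) Γ(X, W)) :=
      Set.ext fun q => (mem_locus_chart hPr f hW.fromSpec hV.fromSpec
        (IsAffineOpen.SpecMap_appLE_fromSpec f hV hW hle) q).symm
    rw [heq]
    exact h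
  let ψ : (W : Set X) ≃ₜ Spec Γ(X, W) := hW.isoSpec.hom.homeomorph
  have h2 := h1.preimage_of_isOpenEmbedding ψ.isOpenEmbedding
  convert h2 using 1
  ext w
  let v : ↥(W : Scheme.{u}) := w
  show v.1 ∈ locus Pr f ↔ hW.fromSpec (hW.isoSpec.hom v) ∈ locus Pr f
  exact iff_of_eq (congrArg (fun z => z ∈ locus Pr f)
    (congrArg (fun g : (W : Scheme.{u}) ⟶ X => g v) hW.isoSpec_hom_fromSpec).symm)

omit hPr

theorem goodProp_hasSk (k : ℕ) : GoodProp fun R _ _ => LocCoh.HasSk k R R where
  iso _ _ _ _ _ _ _ e h := EGA4H10.hasSk_self_ringEquiv e k h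
  ext K S L _ _ _ _ _ _ Q' _ := hasSk_localization_tensor_iff K S L k Q'
  isOpen_of_flat f _ _ := isOpen_hasSk f k

end Groth.Agent.Sk62
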