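import Groth.Agent.Sk62.GeomRk
import Groth.Agent.Sk62.Constructible
import Groth.Agent.CAlg1.SerreNormal

/-! Loci of equidimensional, geometrically `(R_k)` and geometrically normal points of the fibres. -/

set_option autoImplicit false

universe u

open CategoryTheory CategoryTheory.Limits AlgebraicGeometry TopologicalSpace TensorProduct Topology IsLocalRing

namespace Groth.Agent.Sk62

section Field

variable {k : Type u} [Field k] {X : Scheme.{u}} (g : X ⟶ Spec (CommRingCat.of k)) [LocallyOfFiniteType g]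

theorem hasSk_bc_iff (m : ℕ) (K : Type u) [Field K] [Algebra k K] (x' : ↥(FBase.bc g K)) :
    LocCoh.HasSk m ((FBase.bc g K).presheaf.stalk x') ((FBase.bc g K).presheaf.stalk x') ↔
      LocCoh.HasSk m (X.presheaf.stalk ((FBase.bcπ g K).base x')) (X.presheaf.stalk ((FBase.bcπ g K).base x')) := by
  let tK := Spec.map (CommRingCat.ofHom (algebraMap k K))
  show _ ↔ LocCoh.HasSk m (X.presheaf.stalk (pullback.fst g tK x')) (X.presheaf.stalk (pullback.fst g tK x'))
  obtain ⟨A, _, _, j, _, hx, hj⟩ := FBase64.exists_chart g (pullback.fst g tK x')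
  have := finiteType_of_chart g j hj
  obtain ⟨R, rfl⟩ : x' ∈ Set.range (FBase64.prodChart g tK j (𝟙 _) hj (Category.id_comp _)) := by
    rw [FBase64.range_prodChart]
    exact ⟨hx, ⟨_, rfl⟩⟩
  obtain ⟨e⟩ := FBase64.nonempty_stalkEquiv (FBase64.prodChart g tK j (𝟙 _) hj (Category.id_comp _)) R
  let R' : PrimeSpectrum (A ⊗[k] K) := R
  have hfst : pullback.fst g tK (FBase64.prodChart g tK j (𝟙 _) hj (Category.id_comp _) R) =
      j (⟨R'.asIdeal.comap (algebraMap A (A ⊗[k] K)), inferInstance⟩ : PrimeSpectrum A) :=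
    congrArg (fun φ : Spec (CommRingCat.of (A ⊗[k] K)) ⟶ X => φ R)
      (FBase64.prodChart_fst g tK j (𝟙 _) hj (Category.id_comp _))
  rw [hfst]
  obtain ⟨e'⟩ := FBase64.nonempty_stalkEquiv j
    (⟨R'.asIdeal.comap (algebraMap A (A ⊗[k] K)), inferInstance⟩ : PrimeSpectrum A)
  have : IsNoetherianRing A := Algebra.FiniteType.isNoetherianRing k A
  have := isNoetherianRing_tensor k A K
  have : IsNoetherianRing (Localization.AtPrime R'.asIdeal) :=
    IsLocalization.isNoetherianRing R'.asIdeal.primeCompl _ inferInstance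
  have : IsNoetherianRing (Localization.AtPrime (R'.asIdeal.comap (algebraMap A (A ⊗[k] K)))) :=
    IsLocalization.isNoetherianRing (R'.asIdeal.comap (algebraMap A (A ⊗[k] K))).primeCompl _ inferInstance
  have := isNoetherianRing_of_ringEquiv _ e.symm
  have := isNoetherianRing_of_ringEquiv _ e'.symm
  exact (show _ ↔ _ from ⟨EGA4H10.hasSk_self_ringEquiv e m, EGA4H10.hasSk_self_ringEquiv e.symm m⟩).trans
    ((hasSk_localization_tensor_iff k A K m R'.asIdeal).symm.trans
      ⟨EGA4H10.hasSk_self_ringEquiv e'.symm m, EGA4H10.hasSk_self_ringEquiv e' m⟩)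

/-- A Noetherian local ring is a normal domain iff it is `(R_1)` and `(S_2)`. -/
theorem normal_iff_R1_S2 (R : Type u) [CommRing R] [IsLocalRing R] [IsNoetherianRing R] :
    (IsDomain R ∧ IsIntegrallyClosed R) ↔ (LocCoh.HasRk 1 R ∧ LocCoh.HasSk 2 R R) := by
  rw [← CAlg1.serre_normal]
  constructor
  · rintro ⟨_, _⟩ p _
    exact ⟨IsLocalization.isDomain_localization p.primeCompl_le_nonZeroDivisors,
      isIntegrallyClosed_of_isLocalization _ p.primeCompl p.primeCompl_le_nonZeroDivisors⟩
  · intro h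
    obtain ⟨h1, h2⟩ := h (maximalIdeal R)
    let e : R ≃ₐ[R] Localization.AtPrime (maximalIdeal R) :=
      IsLocalization.atUnits R (maximalIdeal R).primeCompl fun x hx => by
        by_contra hu
        exact hx ((mem_maximalIdeal x).2 hu)
    exact ⟨e.toMulEquiv.isDomain, IsIntegrallyClosed.of_equiv e.symm.toRingEquiv⟩

end Field

variable {X S : Scheme.{u}} (f : X ⟶ S)

theorem isLocallyConstructible_of_bounded [LocallyOfFiniteType f] (s : Set X)
    (h : ∀ D : ℕ, ∃ T : Set X, IsLocallyConstructible T ∧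
      ∀ a, FlatMor.fibreDimAt f a ≤ (D : ℕ) → (a ∈ s ↔ a ∈ T)) : IsLocallyConstructible s := by
  choose T hT hTs using h
  let U : ℕ → X.Opens := fun D => ⟨{a | FlatMor.fibreDimAt f a ≤ (D : ℕ)}, S0402.result f D⟩
  refine .of_isOpenCover (U := U) (TopologicalSpace.IsOpenCover.mk (top_le_iff.mp fun a _ => ?_)) fun D => ?_
  · obtain ⟨z, -, -, hd, -, -⟩ := E4O.exists_fibreDimAt_eq f a
    exact Opens.mem_iSup.mpr ⟨E4O.fdeg f z, hd.le⟩
  · have hEq : ((↑) : U D → X) ⁻¹' s = ((↑) : U D → X) ⁻¹' T D :=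
      Set.ext fun a => hTs D a.1 a.2
    show IsLocallyConstructible (((↑) : U D → X) ⁻¹' s)
    erw [hEq]
    exact Cons62.isLocallyConstructible_preimage (U D).ι (hT D)

variable [LocallyOfFinitePresentation f]

theorem geom_hasRk_fibre_iff (n : ℕ) (x : X) :
    (∀ (K : Type u) [Field K] [Algebra (ResidueField (S.presheaf.stalk (f x))) K]
      (x' : ↥(FBase.bc (f.fiberToSpecResidueField (f x)) K)),
      (FBase.bcπ (f.fiberToSpecResidueField (f x)) K).base x' = f.asFiber x →
        LocCoh.HasRk n ((FBase.bc (f.fiberToSpecResidueField (f x)) K).presheaf.stalk x')) ↔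
      ∀ z, z ⤳ x → f z = f x → fdim f z ≤ (n : ℕ) → z ∈ Open62.fibreSmooth f := by
  let g : f.fiber (f x) ⟶ Spec (CommRingCat.of (ResidueField (S.presheaf.stalk (f x)))) :=
    f.fiberToSpecResidueField (f x)
  have : LocallyOfFinitePresentation g :=
    inferInstanceAs (LocallyOfFinitePresentation (pullback.snd f (S.fromSpecResidueField (f x))))
  have : Flat g := inferInstance
  have hsm : ∀ w : ↥(f.fiber (f x)),
      w ∈ g.smoothLocus ↔ f.fiberι (f x) w ∈ Open62.fibreSmooth f := fun w => by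
    have h : Open62.fibreSmooth g = f.fiberι (f x) ⁻¹' Open62.fibreSmooth f :=
      Open62.fibreSmooth_of_isPullback (f' := g) (g' := f.fiberι (f x))
        (IsPullback.of_hasPullback f (S.fromSpecResidueField (f x)))
    rw [← SetLike.mem_coe, ← Open62.fibreSmooth_of_flat g, h]
    rfl
  refine (geom_hasRk_iff g n (f.asFiber x)).trans ?_
  constructor
  · intro h z hz hfz hd
    obtain ⟨w, rfl⟩ := E4O.exists_fiberι_eq f hfz
    exact (hsm w).1 (h w ((E4O.specializes_fiberι_iff f _ _ _).1 (by rwa [f.fiberι_asFiber]))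
      ((fibre_invariants f (f x) w).1.le.trans hd))
  · intro h w hw hd
    have hz := hw.map (f.fiberι (f x)).continuous
    rw [f.fiberι_asFiber] at hz
    exact (hsm w).2 (h _ hz (E4O.apply_fiberι f _ w) ((fibre_invariants f (f x) w).1.symm.le.trans hd))

theorem isLocallyConstructible_geomRk (n : ℕ) :
    IsLocallyConstructible
      {x : X | ∀ z, z ⤳ x → f z = f x → fdim f z ≤ (n : ℕ) → z ∈ Open62.fibreSmooth f} := by
  let E : ℕ → Set X := fun e =>
    (Open62.fibreSmooth f)ᶜ ∩ {a | FlatMor.fibreDimAt f a ≤ (e : ℕ)}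
  have hE : ∀ e, IsLocallyConstructible (E e) := fun e =>
    (Cons62.isLocallyConstructible_compl (Open62.isLocallyConstructible_fibreSmooth f)).inter
      (CM62.isLocallyConstructible_fibreDimAt_le f e)
  refine isLocallyConstructible_of_bounded f _ fun D => ⟨(⋃ e : Fin (D + 1), fclDeg f (E e) (e - n))ᶜ,
    Cons62.isLocallyConstructible_compl
      (IsLocallyConstructible.iUnion fun e => isLocallyConstructible_fclDeg f (hE e) _), fun a ha => ?_⟩
  rw [Set.mem_compl_iff, Set.mem_iUnion]
  constructor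
  · rintro h ⟨e, z, ⟨hns, hde⟩, hza, hfz, hdeg⟩
    obtain ⟨k, m, hk, -, hdk⟩ := exists_invariants f z
    have hde' : FlatMor.fibreDimAt f z ≤ ((e : ℕ) : WithBot ℕ∞) := hde
    rw [hdk] at hde'
    have : k + E4O.fdeg f z ≤ e := by exact_mod_cast hde'
    refine hns (h z hza hfz ?_)
    rw [hk]
    exact_mod_cast (by omega : k ≤ n)
  · intro h z hza hfz hd
    by_contra hns
    obtain ⟨k, m, hk, -, hdk⟩ := exists_invariants f z
    rw [hk] at hd
    have hkn : k ≤ n := by exact_mod_cast hd
    have hle : k + E4O.fdeg f z ≤ D := by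
      have hzU : FlatMor.fibreDimAt f z ≤ ((D : ℕ) : WithBot ℕ∞) :=
        hza.mem_open (S0402.result f D) ha
      rw [hdk] at hzU
      exact_mod_cast hzU
    exact h ⟨⟨k + E4O.fdeg f z, by omega⟩, z, ⟨hns, hdk.le⟩, hza, hfz,
      show k + E4O.fdeg f z - n ≤ E4O.fdeg f z by omega⟩

theorem geom_normal_fibre_iff (x : X) :
    (∀ (K : Type u) [Field K] [Algebra (ResidueField (S.presheaf.stalk (f x))) K]
      (x' : ↥(FBase.bc (f.fiberToSpecResidueField (f x)) K)),
      (FBase.bcπ (f.fiberToSpecResidueField (f x)) K).base x' = f.asFiber x →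
        (IsDomain ((FBase.bc (f.fiberToSpecResidueField (f x)) K).presheaf.stalk x') ∧
          IsIntegrallyClosed ((FBase.bc (f.fiberToSpecResidueField (f x)) K).presheaf.stalk x'))) ↔
      (∀ z, z ⤳ x → f z = f x → fdim f z ≤ (1 : ℕ) → z ∈ Open62.fibreSmooth f) ∧
        x ∈ locus (fun R _ _ => LocCoh.HasSk 2 R R) f := by
  let g : f.fiber (f x) ⟶ Spec (CommRingCat.of (ResidueField (S.presheaf.stalk (f x)))) :=
    f.fiberToSpecResidueField (f x)
  have : LocallyOfFinitePresentation g :=
    inferInstanceAs (LocallyOfFinitePresentation (pullback.snd f (S.fromSpecResidueField (f x))))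
  have hN : ∀ (K : Type u) [Field K] [Algebra (ResidueField (S.presheaf.stalk (f x))) K] (x' : ↥(FBase.bc g K)),
      (IsDomain ((FBase.bc g K).presheaf.stalk x') ∧ IsIntegrallyClosed ((FBase.bc g K).presheaf.stalk x')) ↔
        (LocCoh.HasRk 1 ((FBase.bc g K).presheaf.stalk x') ∧
          LocCoh.HasSk 2 ((FBase.bc g K).presheaf.stalk x') ((FBase.bc g K).presheaf.stalk x')) := fun K _ _ x' => by
    let q : FBase.bc g K ⟶ Spec (CommRingCat.of K) :=
      pullback.snd g (Spec.map (CommRingCat.ofHom (algebraMap (ResidueField (S.presheaf.stalk (f x))) K)))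
    have : LocallyOfFiniteType q := MorphismProperty.of_isPullback (IsPullback.of_hasPullback g _) (inferInstance : LocallyOfFiniteType g)
    have : IsLocallyNoetherian (FBase.bc g K) := LocallyOfFiniteType.isLocallyNoetherian q
    exact normal_iff_R1_S2 _
  refine Iff.trans ?_ (and_congr_left' (geom_hasRk_fibre_iff f 1 x))
  constructor
  · intro h
    refine ⟨fun K _ _ x' hx' => ((hN K x').1 (h K x' hx')).1, ?_⟩
    obtain ⟨x', hx'⟩ := (pullback.fst g (Spec.map (CommRingCat.ofHom
      (algebraMap (ResidueField (S.presheaf.stalk (f x))) (ResidueField (S.presheaf.stalk (f x))))))).surjective (f.asFiber x)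
    have h2 := (hasSk_bc_iff g 2 _ x').1 ((hN _ x').1 (h _ x' hx')).2
    rw [show (FBase.bcπ g _).base x' = f.asFiber x from hx'] at h2
    exact h2
  · rintro ⟨h1, h2⟩ K _ _ x' hx'
    refine (hN K x').2 ⟨h1 K x' hx', (hasSk_bc_iff g 2 K x').2 ?_⟩
    rw [show (FBase.bcπ g K).base x' = f.asFiber x from hx']
    exact h2

/-- Equidimensionality of the fibres. -/
theorem isLocallyConstructible_equidim :
    IsLocallyConstructible {x : X | ∃ e : ℕ, ∀ z, z ⤳ x → f z = f x → E4O.IsFibreMax f z → E4O.fdeg f z = e} := by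
  have hD := fun e => CM62.isLocallyConstructible_fibreDimAt_le f e
  let F : ℕ → Set X := fun e => {a | FlatMor.fibreDimAt f a ≤ (e : ℕ)} ∩
    (fclDeg f {a | FlatMor.fibreDimAt f a < (e : ℕ)} 0)ᶜ
  have hlt : ∀ e : ℕ, IsLocallyConstructible {a : X | FlatMor.fibreDimAt f a < (e : ℕ)} := fun e => by
    cases e with
    | zero =>
      convert IsLocallyConstructible.empty (X := X) using 1
      refine Set.eq_empty_iff_forall_notMem.2 fun a ha => ?_
      obtain ⟨z, -, -, hd, -, -⟩ := E4O.exists_fibreDimAt_eq f a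
      change FlatMor.fibreDimAt f a < _ at ha
      rw [hd] at ha
      exact Nat.not_lt_zero _ (by exact_mod_cast ha)
    | succ e =>
      convert hD e using 1
      ext a
      obtain ⟨z, -, -, hd, -, -⟩ := E4O.exists_fibreDimAt_eq f a
      show FlatMor.fibreDimAt f a < _ ↔ FlatMor.fibreDimAt f a ≤ _
      rw [hd]
      exact_mod_cast Nat.lt_succ_iff
  refine isLocallyConstructible_of_bounded f _ fun D => ⟨⋃ e : Fin (D + 1), F e,
    IsLocallyConstructible.iUnion fun e => (hD e).inter (Cons62.isLocallyConstructible_compl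
      (isLocallyConstructible_fclDeg f (hlt e) 0)), fun a ha => ?_⟩
  rw [Set.mem_iUnion]
  constructor
  · rintro ⟨e, he⟩
    obtain ⟨z, hza, hfz, hmax, hd, -⟩ := E4O.exists_isFibreMax_specializes f a
    have hze := he z hza hfz hmax
    refine ⟨⟨e, Nat.lt_succ_iff.2 ?_⟩, ?_, ?_⟩
    · rw [hd, hze] at ha
      exact_mod_cast ha
    · show FlatMor.fibreDimAt f a ≤ _
      exact le_of_eq (hd.trans (congrArg _ hze))
    · rintro ⟨w, hw, hwa, hfw, -⟩
      obtain ⟨v, hvw, hfv, hvmax, hdv, -⟩ := E4O.exists_isFibreMax_specializes f w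
      have := he v (hvw.trans hwa) (hfv.trans hfw) hvmax
      change FlatMor.fibreDimAt f w < _ at hw
      rw [hdv, this] at hw
      exact lt_irrefl _ hw
  · rintro ⟨e, he, hnot⟩
    refine ⟨e, fun z hza hfz hmax => ?_⟩
    have h1 : E4O.fdeg f z ≤ e := by exact_mod_cast (E4O.fdeg_le_fibreDimAt hza hfz).trans he
    by_contra hne
    refine hnot ⟨z, ?_, hza, hfz, Nat.zero_le _⟩
    show FlatMor.fibreDimAt f z < _
    rw [E4O.fibreDimAt_eq_fdeg fun w h h' => hmax w h h']
    exact_mod_cast lt_of_le_of_ne h1 hne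

end Groth.Agent.Sk62
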