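import Groth.Agent.Sk62.GeomLoci
import Groth.Agent.NearGen2.CompCount
import Groth.Agent.E4O.GeomRedBC
import Groth.Agent.Grpd80.Components
import Groth.Agent.FBase64.PointCmp

/-! The points at which the fibre is geometrically pointwise integral form a locally constructible
set. -/

set_option autoImplicit false
set_option linter.style.haveILetI false

universe u

open CategoryTheory CategoryTheory.Limits AlgebraicGeometry TopologicalSpace Topology

namespace Groth.Agent.Sk62

/-- A local ring of a scheme is a domain iff it is reduced and a single component passes through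
the point. -/
theorem isDomain_stalk_iff {X : Scheme.{u}} (x : X) :
    IsDomain (X.presheaf.stalk x) ↔
      _root_.IsReduced (X.presheaf.stalk x) ∧ Grp57.UniqueComp x := by
  constructor
  · intro hd
    refine ⟨inferInstance, ?_⟩
    let ζ := X.fromSpecStalk x ⟨⊥, Ideal.isPrime_bot⟩
    suffices h : ∀ Z ∈ irreducibleComponents (X : Type u), x ∈ Z → Z = closure {ζ} from
      fun Z hZ Z' hZ' h1 h2 => (h Z hZ h1).trans (h Z' hZ' h2).symm
    intro Z hZ hxZ
    obtain ⟨η, hη⟩ := QuasiSober.sober hZ.1 (isClosed_of_mem_irreducibleComponents Z hZ)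
    obtain ⟨p, rfl⟩ : η ∈ Set.range (X.fromSpecStalk x) := by
      rw [Scheme.range_fromSpecStalk]
      exact hη.specializes hxZ
    have hsub : Z ⊆ closure {ζ} := hη.def ▸ specializes_iff_closure_subset.1
      (((PrimeSpectrum.le_iff_specializes _ p).mp bot_le).map (X.fromSpecStalk x).continuous)
    exact hsub.antisymm (hZ.2 isIrreducible_singleton.closure hsub)
  · rintro ⟨hr, hu⟩
    have hs := Grpd80.minimalPrimes_subsingleton_of_uniqueComp x hu
    obtain ⟨P, hP, -⟩ := Ideal.exists_minimalPrimes_le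
      (I := (⊥ : Ideal (X.presheaf.stalk x))) (J := IsLocalRing.maximalIdeal _) bot_le
    have hbot : (⊥ : Ideal (X.presheaf.stalk x)) = P := by
      rw [← (nilradical_eq_bot_iff.mpr hr), nilradical, ← Ideal.sInf_minimalPrimes]
      have : (⊥ : Ideal (X.presheaf.stalk x)).minimalPrimes = {P} :=
        Set.eq_singleton_iff_unique_mem.mpr ⟨hP, fun Q hQ => hs hQ hP⟩
      exact (congrArg sInf this).trans sInf_singleton
    have : (⊥ : Ideal (X.presheaf.stalk x)).IsPrime := hbot ▸ hP.1.1
    exact IsDomain.of_bot_isPrime _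

theorem isGeomPtIntegralAt_openImmersion_iff {k : Type u} [Field k] {A B : Scheme.{u}}
    {f : B ⟶ Spec (CommRingCat.of k)} {f' : A ⟶ Spec (CommRingCat.of k)} (e : A ⟶ B)
    [IsOpenImmersion e] (he : e ≫ f = f') (a : A) :
    FBase.IsGeomPtIntegralAt f' a ↔ FBase.IsGeomPtIntegralAt f (e a) := by
  let Ω := AlgebraicClosure k
  let φ : FBase.bc f' Ω ⟶ FBase.bc f Ω :=
    pullback.map _ _ _ _ e (𝟙 _) (𝟙 _) (by rw [Category.comp_id, he]) (by simp)
  have : IsOpenImmersion φ :=
    inferInstanceAs (IsOpenImmersion (pullback.map _ _ _ _ e (𝟙 _) (𝟙 _) _ _))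
  have hφ : φ ≫ FBase.bcπ f Ω = FBase.bcπ f' Ω ≫ e := pullback.lift_fst _ _ _
  obtain ⟨a', ha'⟩ := (pullback.fst f'
    (Spec.map (CommRingCat.ofHom (algebraMap k Ω)))).surjective a
  let a'' : ↥(FBase.bc f' Ω) := a'
  have ha'' : FBase.bcπ f Ω (φ a'') = e a := by
    rw [← Scheme.Hom.comp_apply, hφ, Scheme.Hom.comp_apply]
    exact congrArg e ha'
  let i := (asIso (φ.stalkMap a'')).commRingCatIsoToRingEquiv
  constructor
  · intro h
    have : IsDomain ((FBase.bc f' Ω).presheaf.stalk a'') := h Ω a'' ha'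
    have : IsDomain ((FBase.bc f Ω).presheaf.stalk (φ a'')) := i.toMulEquiv.isDomain
    exact FBase64.isGeomPtIntegralAt_of_isAlgClosed f (e a) (φ a'') ha''
  · intro h
    have : IsDomain ((FBase.bc f Ω).presheaf.stalk (φ a'')) := h Ω (φ a'') ha''
    have : IsDomain ((FBase.bc f' Ω).presheaf.stalk a'') := i.symm.toMulEquiv.isDomain
    exact FBase64.isGeomPtIntegralAt_of_isAlgClosed f' a a'' ha'

variable {X Y : Scheme.{u}}

/-- The points at which the fibre is geometrically pointwise integral. -/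
def giLocus (f : X ⟶ Y) : Set X :=
  {x | FBase.IsGeomPtIntegralAt (f.fiberToSpecResidueField (f x)) (f.asFiber x)}

theorem giLocus_fibre_point (f : X ⟶ Y) {x : X} {y : Y} (z : ↥(f.fiber y)) (hz : f.fiberι y z = x) :
    FBase.IsGeomPtIntegralAt (f.fiberToSpecResidueField y) z ↔ x ∈ giLocus f := by
  obtain rfl : f x = y := hz ▸ E4O.apply_fiberι f y z
  rw [show z = f.asFiber x from (f.fiberι _).isEmbedding.injective (hz.trans (f.fiberι_asFiber x).symm)]
  rfl

theorem mem_giLocus_of_isPullback {X' Y' : Scheme.{u}} {f : X ⟶ Y} {f' : X' ⟶ Y'}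
    {p : X' ⟶ X} {h : Y' ⟶ Y} (hsq : IsPullback p f' f h) (w : X') :
    w ∈ giLocus f' ↔ p w ∈ giLocus f := by
  let y' := f' w
  let σ := Spec.map (h.residueFieldMap y')
  have hσ : σ ≫ Y.fromSpecResidueField (h y') = Y'.fromSpecResidueField y' ≫ h :=
    Scheme.Hom.SpecMap_residueFieldMap_fromSpecResidueField _ _
  let t := f.fiberToSpecResidueField (h y')
  let m : f'.fiber y' ⟶ f.fiber (h y') := pullback.lift (f'.fiberι y' ≫ p) (f'.fiberToSpecResidueField y' ≫ σ) (by
    rw [Category.assoc, hsq.w, ← Category.assoc, Scheme.Hom.fiber_fac, Category.assoc, Category.assoc, hσ])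
  have hm1 : m ≫ f.fiberι (h y') = f'.fiberι y' ≫ p := pullback.lift_fst _ _ _
  have hm2 : m ≫ t = f'.fiberToSpecResidueField y' ≫ σ := pullback.lift_snd _ _ _
  have H : IsPullback m (f'.fiberToSpecResidueField y') t σ := by
    refine IsPullback.of_right (h₁₂ := f.fiberι (h y')) (v₁₃ := f) (h₂₂ := Y.fromSpecResidueField (h y'))
      ?_ hm2 (IsPullback.of_hasPullback f (Y.fromSpecResidueField (h y')))
    rw [hm1, hσ]
    exact (IsPullback.of_hasPullback f' (Y'.fromSpecResidueField y')).paste_horiz hsq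
  letI : Algebra (Y.residueField (h y')) (Y'.residueField y') := (h.residueFieldMap y').hom.toAlgebra
  let e : f'.fiber y' ⟶ FBase.bc (k := Y.residueField (h y')) t (Y'.residueField y') := H.isoPullback.hom
  haveI : IsIso e := inferInstanceAs (IsIso H.isoPullback.hom)
  have he : e ≫ FBase.bcStr (k := Y.residueField (h y')) t (Y'.residueField y') =
      f'.fiberToSpecResidueField y' := H.isoPullback_hom_snd
  have hem : e ≫ FBase.bcπ (k := Y.residueField (h y')) t (Y'.residueField y') = m := H.isoPullback_hom_fst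
  show FBase.IsGeomPtIntegralAt (f'.fiberToSpecResidueField y') (f'.asFiber w) ↔ _
  refine (isGeomPtIntegralAt_openImmersion_iff (k := Y'.residueField y') e he (f'.asFiber w)).trans ?_
  refine (FBase64.isGeomPtIntegralAt_iff_bcStr (k := Y.residueField (h y')) t
    (K := Y'.residueField y') (e (f'.asFiber w))).symm.trans ?_
  refine giLocus_fibre_point f (x := p w) _ ?_
  rw [← Scheme.Hom.comp_apply e, hem, ← Scheme.Hom.comp_apply, hm1, Scheme.Hom.comp_apply]
  exact congrArg p (f'.fiberι_asFiber w)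

theorem giLocus_openImmersion_comp {U : Scheme.{u}} (j : U ⟶ X) [IsOpenImmersion j] (f : X ⟶ Y) :
    giLocus (j ≫ f) = j ⁻¹' giLocus f := by
  ext a
  let y := (j ≫ f) a
  let e : (j ≫ f).fiber y ⟶ f.fiber y := pullback.map _ _ _ _ j (𝟙 _) (𝟙 _) (by simp) (by simp)
  have : IsOpenImmersion e :=
    inferInstanceAs (IsOpenImmersion (pullback.map _ _ _ _ j (𝟙 _) (𝟙 _) _ _))
  have he : e ≫ f.fiberToSpecResidueField y = (j ≫ f).fiberToSpecResidueField y :=
    (pullback.lift_snd _ _ _).trans (Category.comp_id _)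
  have hι : e ≫ f.fiberι y = (j ≫ f).fiberι y ≫ j := pullback.lift_fst _ _ _
  show FBase.IsGeomPtIntegralAt ((j ≫ f).fiberToSpecResidueField y) ((j ≫ f).asFiber a) ↔ _
  refine (isGeomPtIntegralAt_openImmersion_iff (k := Y.residueField y) e he ((j ≫ f).asFiber a)).trans ?_
  refine giLocus_fibre_point f (x := j a) _ ?_
  rw [← Scheme.Hom.comp_apply, hι, Scheme.Hom.comp_apply]
  exact congrArg j ((j ≫ f).fiberι_asFiber a)

theorem giLocus_comp_openImmersion {Z : Scheme.{u}} (f : X ⟶ Y) (j : Y ⟶ Z) [IsOpenImmersion j] :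
    giLocus (f ≫ j) = giLocus f := by
  have h : IsPullback (𝟙 X) f (f ≫ j) j := by
    simpa using (IsPullback.of_horiz_isIso (fst := 𝟙 X) (snd := f) (f := f) (g := 𝟙 Y) ⟨by simp⟩).paste_vert
      (IsKernelPair.id_of_mono j)
  ext a
  exact (mem_giLocus_of_isPullback h a).symm

/-- Over a stratum with a model of the geometric components, the criterion. -/
theorem mem_giLocus_iff (f : X ⟶ Y) {ι : Type u} [Finite ι] (Zc : ι → Closeds X) (x : X)
    (H : ∀ (L' : Type u) [Field L'] (y : Spec (CommRingCat.of L') ⟶ Spec (Y.residueField (f x))),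
      let p := pullback.fst (f.fiberToSpecResidueField (f x)) y ≫ f.fiberι (f x)
      (∀ i, IsIrreducible (p ⁻¹' (Zc i : Set X))) ∧ (⋃ i, p ⁻¹' (Zc i : Set X) = Set.univ) ∧
        (∀ i j, p ⁻¹' (Zc i : Set X) ⊆ p ⁻¹' (Zc j : Set X) → i = j)) :
    x ∈ giLocus f ↔ FBase.IsGeomReducedAt (f.fiberToSpecResidueField (f x)) (f.asFiber x) ∧
      ∀ i j, x ∈ Zc i → x ∈ Zc j → i = j := by
  let k : Type u := IsLocalRing.ResidueField (Y.presheaf.stalk (f x))
  let Ω := AlgebraicClosure k
  let t : f.fiber (f x) ⟶ Spec (CommRingCat.of k) := f.fiberToSpecResidueField (f x)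
  let y : Spec (CommRingCat.of Ω) ⟶ Spec (CommRingCat.of k) :=
    Spec.map (CommRingCat.ofHom (algebraMap k Ω))
  let p : FBase.bc t Ω ⟶ X := FBase.bcπ t Ω ≫ f.fiberι (f x)
  obtain ⟨hirr, hcov, hinj⟩ := H Ω y
  have hcl : ∀ i, IsClosed (p ⁻¹' (Zc i : Set X)) := fun i => (Zc i).isClosed.preimage p.continuous
  have hcomp := NearGen2.irreducibleComponents_eq_range (s := fun i => p ⁻¹' (Zc i : Set X))
    hirr hcl hcov hinj
  obtain ⟨τ₀, hτ₀⟩ := (pullback.fst t y).surjective (f.asFiber x)
  let τ : ↥(FBase.bc t Ω) := τ₀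
  have hτ : p τ = x := by
    show f.fiberι (f x) (pullback.fst t y τ₀) = x
    rw [hτ₀]
    exact f.fiberι_asFiber x
  have huc : Grp57.UniqueComp τ ↔ ∀ i j, x ∈ Zc i → x ∈ Zc j → i = j := by
    unfold Grp57.UniqueComp
    rw [hcomp]
    constructor
    · intro h i j hi hj
      exact hinj i j (h _ ⟨i, rfl⟩ _ ⟨j, rfl⟩ (by show p τ ∈ Zc i; rwa [hτ])
        (by show p τ ∈ Zc j; rwa [hτ])).le
    · rintro h _ ⟨i, rfl⟩ _ ⟨j, rfl⟩ hi hj
      change p τ ∈ Zc i at hi
      change p τ ∈ Zc j at hj
      rw [hτ] at hi hj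
      rw [h i j hi hj]
  constructor
  · intro h
    refine ⟨fun K _ _ x' hx' => ?_, huc.1 ((isDomain_stalk_iff τ).1 (h Ω τ hτ₀)).2⟩
    have := h K x' hx'
    infer_instance
  · rintro ⟨hr, hu⟩
    have : IsDomain ((FBase.bc t Ω).presheaf.stalk τ) :=
      (isDomain_stalk_iff τ).2 ⟨hr Ω τ hτ₀, huc.2 hu⟩
    exact FBase64.isGeomPtIntegralAt_of_isAlgClosed t (f.asFiber x) τ hτ₀

theorem isLocallyConstructible_geomReduced_fibre (f : X ⟶ Y) [LocallyOfFinitePresentation f] :
    IsLocallyConstructible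
      {x : X | FBase.IsGeomReducedAt (f.fiberToSpecResidueField (f x)) (f.asFiber x)} := by
  convert (isLocallyConstructible_locus (goodProp_hasSk 1) f).inter (isLocallyConstructible_geomRk f 0) using 1
  ext x
  refine (isGeomReducedAt_fibre_iff f x).trans (and_congr_right fun _ => ?_)
  constructor
  · intro h z hz hfz hd
    refine h z hz hfz ?_
    obtain ⟨k, m, hk, -, -⟩ := exists_invariants f z
    rw [hk] at hd ⊢
    have : k ≤ 0 := by exact_mod_cast hd
    simp [Nat.le_zero.1 this]
  · intro h z hz hfz hd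
    exact h z hz hfz (le_of_eq (by rw [hd]; rfl))

/-- Over a Noetherian domain, constructibility over a nonempty open. -/
theorem exists_isConstructible_giLocus_inter {A : CommRingCat.{u}} [IsDomain A] [IsNoetherianRing A]
    {Z : Scheme.{u}} (g : Z ⟶ Spec A) [LocallyOfFinitePresentation g] [QuasiCompact g] :
    ∃ U : (Spec A).Opens, (U : Set ↥(Spec A)).Nonempty ∧
      IsLocallyConstructible (giLocus g ∩ g ⁻¹' (U : Set ↥(Spec A))) := by
  obtain ⟨L, _, _, A', hfg, hinj, ι, hι, R, Zc, V', hV', hgood⟩ := NearGen2.exists_components_model g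
  let t : Spec (CommRingCat.of A') ⟶ Spec A := Spec.map (CommRingCat.ofHom (algebraMap A A'))
  have hft : Algebra.FiniteType A A' := (Subalgebra.fg_iff_finiteType A').mp hfg
  have : IsNoetherianRing A' := Algebra.FiniteType.isNoetherianRing A A'
  have : LocallyOfFiniteType t :=
    (HasRingHomProperty.Spec_iff (P := @LocallyOfFiniteType)).2 (RingHom.finiteType_algebraMap.mpr hft)
  have : LocallyOfFinitePresentation t :=
    (HasRingHomProperty.Spec_iff (P := @LocallyOfFinitePresentation)).2
      (RingHom.FinitePresentation.of_finiteType.mp (RingHom.finiteType_algebraMap.mpr hft))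
  have htη : t (genericPoint ↥(Spec (CommRingCat.of A'))) = genericPoint ↥(Spec A) := by
    rw [genericPoint_eq_bot_of_affine, genericPoint_eq_bot_of_affine]
    refine PrimeSpectrum.ext ?_
    exact (RingHom.injective_iff_ker_eq_bot _).mp hinj
  obtain ⟨U, hU, hUV⟩ := NearGen2.near_meet_open t V'.2
    (((genericPoint_spec _).mem_open_set_iff V'.2).mpr (by simpa using hV')) htη
  let g' := pullback.snd g t
  let p₁ := pullback.fst g t
  have : LocallyOfFinitePresentation g' := MorphismProperty.pullback_snd _ _ inferInstance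
  have : LocallyOfFinitePresentation p₁ := MorphismProperty.pullback_fst _ _ inferInstance
  let E : Set ↥(pullback g t) :=
    {x' | FBase.IsGeomReducedAt (g'.fiberToSpecResidueField (g' x')) (g'.asFiber x')} ∩
      (⋂ i, ⋂ j, {x' | x' ∈ Zc i → x' ∈ Zc j → i = j}) ∩
        g' ⁻¹' (V' : Set ↥(Spec (CommRingCat.of A')))
  have hNZ : IsLocallyNoetherian (pullback g t) := LocallyOfFiniteType.isLocallyNoetherian g'
  have : CompactSpace ↥(pullback g t) := QuasiCompact.compactSpace_of_compactSpace g'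
  have : IsNoetherian (pullback g t) := { }
  have hop : ∀ s : Set ↥(pullback g t), IsOpen s → IsLocallyConstructible s := fun s hs =>
    (IsRetrocompact.isConstructible hs fun V _ _ => NoetherianSpace.isCompact _).isLocallyConstructible
  have hE : IsLocallyConstructible E := by
    refine ((isLocallyConstructible_geomReduced_fibre g').inter ?_).inter
      (hop _ (V'.2.preimage g'.continuous))
    refine IsLocallyConstructible.iInter fun i => IsLocallyConstructible.iInter fun j => ?_
    rcases eq_or_ne i j with rfl | hij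
    · convert hop _ isOpen_univ using 1
      exact Set.eq_univ_of_forall fun _ _ _ => rfl
    · convert hop _ ((Zc i).isClosed.inter (Zc j).isClosed).isOpen_compl using 1
      ext x'
      exact ⟨fun h hm => hij (h hm.1 hm.2), fun h h1 h2 => absurd ⟨h1, h2⟩ h⟩
  have hEiff : ∀ x', g' x' ∈ V' → (x' ∈ E ↔ p₁ x' ∈ giLocus g) := fun x' hx' => by
    rw [← mem_giLocus_of_isPullback (IsPullback.of_hasPullback g t) x',
      mem_giLocus_iff g' Zc x' fun L' _ y => ⟨(hgood _ hx' L' y).1, (hgood _ hx' L' y).2.1,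
        (hgood _ hx' L' y).2.2.1⟩]
    simp only [E, Set.mem_inter_iff, Set.mem_iInter, Set.mem_ofPred_eq, Set.mem_preimage,
      SetLike.mem_coe, hx', and_true]
  refine ⟨U, hU, ?_⟩
  have hset : giLocus g ∩ g ⁻¹' (U : Set ↥(Spec A)) = p₁ '' E ∩ g ⁻¹' (U : Set ↥(Spec A)) := by
    refine Set.ext fun x => and_congr_left fun hx => ⟨fun h => ?_, ?_⟩
    · obtain ⟨q, hq, hqV⟩ := hUV _ hx
      obtain ⟨x', hx1, hx2⟩ := Scheme.exists_preimage_of_isPullback (IsPullback.of_hasPullback g t) x q hq.symm
      have hV : g' x' ∈ V' := hx2 ▸ hqV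
      exact ⟨x', (hEiff x' hV).2 (by rw [hx1]; exact h), hx1⟩
    · rintro ⟨x', hx', rfl⟩
      exact (hEiff x' hx'.2).1 hx'
  rw [hset]
  have : IsLocallyNoetherian Z := LocallyOfFiniteType.isLocallyNoetherian g
  have : CompactSpace ↥Z := QuasiCompact.compactSpace_of_compactSpace g
  have : IsNoetherian Z := { }
  exact (Scheme.Hom.isLocallyConstructible_image p₁ hE).inter
    (IsRetrocompact.isConstructible (U.2.preimage g.continuous)
      fun V _ _ => NoetherianSpace.isCompact _).isLocallyConstructible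

theorem isConstructible_giLocus_noetherian {A B : Type u} [CommRing A] [IsNoetherianRing A] [CommRing B]
    (φ : A →+* B) (hφ : φ.FiniteType) :
    IsConstructible (giLocus (Spec.map (CommRingCat.ofHom φ))) := by
  algebraize [φ]
  let f := Spec.map (CommRingCat.ofHom φ)
  have : LocallyOfFinitePresentation f := (HasRingHomProperty.Spec_iff (P := @LocallyOfFinitePresentation)).2
    (RingHom.FinitePresentation.of_finiteType.mp hφ)
  have : IsNoetherianRing B := Algebra.FiniteType.isNoetherianRing A B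
  have : NoetherianSpace (Spec (CommRingCat.of A)) := inferInstanceAs (NoetherianSpace (PrimeSpectrum A))
  suffices ∀ C : Set (Spec (CommRingCat.of A)), IsClosed C →
      IsConstructible (giLocus f ∩ f ⁻¹' C) by
    simpa using this Set.univ isClosed_univ
  refine ConstrTop58.closed_induction (by simp) (fun C D _ _ hC hD => ?_) fun C hC hCi ih => ?_
  · rw [Set.preimage_union, Set.inter_union_distrib_left]; exact hC.union hD
  obtain ⟨η', hη⟩ := QuasiSober.sober hCi hC
  let η : PrimeSpectrum A := η'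
  have hC' : C = PrimeSpectrum.zeroLocus (η.asIdeal : Set A) :=
    hη.def.symm.trans (PrimeSpectrum.closure_singleton η)
  let A' := A ⧸ η.asIdeal
  let B' := TensorProduct A A' B
  let pr : Spec (CommRingCat.of B') ⟶ Spec (CommRingCat.of B) :=
    Spec.map (CommRingCat.ofHom (Algebra.TensorProduct.includeRight (R := A) (A := A') (B := B)).toRingHom)
  let q : Spec (CommRingCat.of B') ⟶ Spec (CommRingCat.of A') :=
    Spec.map (CommRingCat.ofHom Algebra.TensorProduct.includeLeftRingHom)
  let g : Spec (CommRingCat.of A') ⟶ Spec (CommRingCat.of A) :=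
    Spec.map (CommRingCat.ofHom (algebraMap A A'))
  have hsq : IsPullback pr q f g :=
    (isPullback_SpecMap_of_isPushout _ _ _ _ (CommRingCat.isPushout_tensorProduct A A' B)).flip
  have : IsClosedImmersion g :=
    IsClosedImmersion.spec_of_surjective _ Ideal.Quotient.mk_surjective
  have : IsClosedImmersion pr := MorphismProperty.of_isPullback hsq.flip this
  have : LocallyOfFinitePresentation q := MorphismProperty.of_isPullback hsq ‹LocallyOfFinitePresentation f›
  have : IsDomain (CommRingCat.of A') := inferInstanceAs (IsDomain (A ⧸ η.asIdeal))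
  have : IsNoetherianRing (CommRingCat.of A') := inferInstanceAs (IsNoetherianRing (A ⧸ η.asIdeal))
  have hg : Set.range g = C := by
    rw [hC']
    exact (range_comap_of_surjective _ _ Ideal.Quotient.mk_surjective).trans (congrArg (fun I : Ideal A => PrimeSpectrum.zeroLocus (I : Set A)) Ideal.mk_ker)
  obtain ⟨U', ⟨u, hu⟩, hc'⟩ := exists_isConstructible_giLocus_inter q
  obtain ⟨U, hU, hUU'⟩ := g.isClosedEmbedding.isInducing.isOpen_iff.1 U'.2
  have hlt : C \ U ⊂ C := ⟨Set.sdiff_subset, fun hle =>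
    (hle (hg.le ⟨u, rfl⟩)).2 (show g u ∈ U from (Set.ext_iff.1 hUU' u).2 hu)⟩
  have h1 := ih _ (hC.sdiff hU) hlt
  have hw : ∀ a, f (pr a) = g (q a) := fun a => by
    rw [← Scheme.Hom.comp_apply, hsq.w, Scheme.Hom.comp_apply]
  have h2 : IsConstructible (pr ⁻¹' (giLocus f ∩ f ⁻¹' (C ∩ U))) := by
    convert hc'.isConstructible using 1
    ext a
    simp only [Set.mem_inter_iff, Set.mem_preimage, hw]
    rw [mem_giLocus_of_isPullback hsq a]
    refine and_congr_right fun _ => ⟨fun h => (Set.ext_iff.1 hUU' (q a)).1 h.2,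
      fun h => ⟨hg.le ⟨q a, rfl⟩, (Set.ext_iff.1 hUU' (q a)).2 h⟩⟩
  have h3 := h2.image_of_isClosedEmbedding pr.isClosedEmbedding (fun V _ _ => NoetherianSpace.isCompact _)
  rw [Set.image_preimage_eq_inter_range] at h3
  have hpr : f ⁻¹' C ⊆ Set.range pr := fun a ha => by
    obtain ⟨b, hb⟩ := hg.ge ha
    obtain ⟨w, hw, -⟩ := Scheme.exists_preimage_of_isPullback hsq a b hb.symm
    exact ⟨w, hw⟩
  rw [Set.inter_eq_left.2 (Set.inter_subset_right.trans ((Set.preimage_mono Set.inter_subset_left).trans hpr))] at h3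
  convert h3.union h1 using 1
  rw [← Set.inter_union_distrib_left, ← Set.preimage_union, Set.inter_union_sdiff]

theorem isConstructible_giLocus_spec {A B : Type u} [CommRing A] [CommRing B]
    (φ : A →+* B) (hφ : φ.FinitePresentation) :
    IsConstructible (giLocus (Spec.map (CommRingCat.ofHom φ))) := by
  obtain ⟨A₀, B₀, _, _, φ₀, α, β, hN, hφ₀, hsq, -⟩ := Cons62.exists_isPullback_model φ hφ []
  convert (Spec.map (CommRingCat.ofHom β)).isConstructible_preimage
    (isConstructible_giLocus_noetherian φ₀ (RingHom.FiniteType.of_finitePresentation hφ₀)) using 1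
  exact Set.ext fun w => mem_giLocus_of_isPullback hsq w

theorem isLocallyConstructible_giLocus (f : X ⟶ Y) [LocallyOfFinitePresentation f] :
    IsLocallyConstructible (giLocus f) := by
  intro x
  obtain ⟨V, hV, hyV, -⟩ := exists_isAffineOpen_mem_and_subset (X := Y) (x := f x) (U := ⊤) trivial
  obtain ⟨W, hW, hxW, hWV⟩ := exists_isAffineOpen_mem_and_subset (X := X) (x := x) (U := f ⁻¹ᵁ V) hyV
  have hle : W ≤ f ⁻¹ᵁ V := fun a ha => hWV ha
  have := hW.isOpenImmersion_fromSpec
  have := hV.isOpenImmersion_fromSpec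
  refine ⟨W, W.isOpen.mem_nhds hxW, W.isOpen, ?_⟩
  have hfp : (f.appLE V W hle).hom.FinitePresentation :=
    LocallyOfFinitePresentation.finitePresentation_appLE f hV hW hle
  have h1 : IsConstructible (hW.fromSpec ⁻¹' giLocus f) := by
    rw [← giLocus_openImmersion_comp, ← IsAffineOpen.SpecMap_appLE_fromSpec f hV hW hle,
      giLocus_comp_openImmersion]
    exact isConstructible_giLocus_spec _ hfp
  let ψ : (W : Set X) ≃ₜ Spec Γ(X, W) := hW.isoSpec.hom.homeomorph
  have h2 := h1.preimage_of_isOpenEmbedding ψ.isOpenEmbedding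
  convert h2 using 1
  ext w
  let v : ↥(W : Scheme.{u}) := w
  show v.1 ∈ giLocus f ↔ hW.fromSpec (hW.isoSpec.hom v) ∈ giLocus f
  exact iff_of_eq (congrArg (fun z => z ∈ giLocus f)
    (congrArg (fun g : (W : Scheme.{u}) ⟶ X => g v) hW.isoSpec_hom_fromSpec).symm)

end Groth.Agent.Sk62
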