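import Groth.Agent.Sk62.RectDepth
import Mathlib.RingTheory.LocalRing.Module
import Mathlib.RingTheory.Support
import Mathlib.RingTheory.KrullDimension.Module
import Mathlib.RingTheory.IsTensorProduct
import Groth.Agent.S0402

/-! The Cohen–Macaulay locus on the fibres of a flat module is open: affine case. -/

set_option autoImplicit false

universe u

open CategoryTheory AlgebraicGeometry IsLocalRing TensorProduct

set_option synthInstance.maxHeartbeats 200000
set_option maxHeartbeats 1000000

namespace Groth.Agent.Sk62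

/-- The support of a base change is the preimage of the support. -/
theorem mem_support_baseChange {B C : Type u} [CommRing B] [CommRing C] [Algebra B C] (M : Type u)
    [AddCommGroup M] [Module B M] [Module.Finite B M] (P : PrimeSpectrum C) :
    P ∈ Module.support C (C ⊗[B] M) ↔ PrimeSpectrum.comap (algebraMap B C) P ∈ Module.support B M := by
  rw [Module.mem_support_iff_nontrivial_residueField_tensorProduct,
    Module.mem_support_iff_nontrivial_residueField_tensorProduct]
  let p := PrimeSpectrum.comap (algebraMap B C) P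
  let K := P.asIdeal.ResidueField
  let k := p.asIdeal.ResidueField
  let g : k →ₐ[B] K := Ideal.ResidueField.mapₐ p.asIdeal P.asIdeal (Algebra.ofId B C) rfl
  let _ : Algebra k K := g.toRingHom.toAlgebra
  have : IsScalarTower B k K := IsScalarTower.of_algebraMap_eq fun a => (g.commutes a).symm
  rw [(AlgebraTensorModule.cancelBaseChange B C C K M).toEquiv.nontrivial_congr,
    ← (AlgebraTensorModule.cancelBaseChange B k k K M).toEquiv.nontrivial_congr]
  exact Module.FaithfullyFlat.nontrivial_tensorProduct_iff_right k K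

variable {A P B : Type u} [CommRing A] [CommRing P] [CommRing B] [Algebra A P] [Algebra A B]
  [Algebra P B] [IsScalarTower A P B]

/-- For a surjection `P → B` the fibre rings form a pushout square. -/
theorem exists_fibreRing_pushout (hs : Function.Surjective (algebraMap P B)) (q : PrimeSpectrum B) :
    ∃ φ : RelPd52.fibreRing A (PrimeSpectrum.comap (algebraMap P B) q) →+* RelPd52.fibreRing A q,
      Function.Surjective φ ∧
      (letI := φ.toAlgebra
       ∃ _ : IsScalarTower P (RelPd52.fibreRing A (PrimeSpectrum.comap (algebraMap P B) q)) (RelPd52.fibreRing A q),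
       IsBaseChange (RelPd52.fibreRing A (PrimeSpectrum.comap (algebraMap P B) q))
        (IsScalarTower.toAlgHom P B (RelPd52.fibreRing A q)).toLinearMap) := by
  let Q := PrimeSpectrum.comap (algebraMap P B) q
  let S := Localization.AtPrime Q.asIdeal
  let T := Localization.AtPrime q.asIdeal
  have : q.asIdeal.LiesOver Q.asIdeal := ⟨rfl⟩
  let _ : Algebra S T := Localization.AtPrime.algebraOfLiesOver Q.asIdeal q.asIdeal
  let J : Ideal S := (Q.asIdeal.under A).map (algebraMap A S)
  let I : Ideal T := (q.asIdeal.under A).map (algebraMap A T)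
  have htow : ∀ x : P, algebraMap S T (algebraMap P S x) = algebraMap P T x := fun x =>
    (IsScalarTower.algebraMap_apply P S T x).symm
  have hQA : Q.asIdeal.under A = q.asIdeal.under A := by
    show Ideal.comap (algebraMap A P) (Ideal.comap (algebraMap P B) q.asIdeal) = _
    rw [Ideal.comap_comap, ← IsScalarTower.algebraMap_eq]
  have hJI : J.map (algebraMap S T) ≤ I := by
    rw [Ideal.map_map, Ideal.map_le_iff_le_comap]
    intro a ha
    rw [Ideal.mem_comap, RingHom.comp_apply, IsScalarTower.algebraMap_apply A P S, htow,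
      ← IsScalarTower.algebraMap_apply A P T]
    exact Ideal.mem_map_of_mem _ (hQA.le ha)
  let φ : S ⧸ J →+* T ⧸ I := Ideal.quotientMap I (algebraMap S T) (Ideal.map_le_iff_le_comap.1 hJI)
  have hIJ : I ≤ J.map (algebraMap S T) := by
    refine Ideal.map_le_iff_le_comap.2 fun a ha => ?_
    rw [Ideal.mem_comap, IsScalarTower.algebraMap_apply A P T, ← htow, ← IsScalarTower.algebraMap_apply A P S]
    exact Ideal.mem_map_of_mem _ (Ideal.mem_map_of_mem _ (hQA.ge ha))
  have hsT : Function.Surjective (algebraMap S T) := by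
    intro t
    obtain ⟨b, s, rfl⟩ := IsLocalization.exists_mk'_eq q.asIdeal.primeCompl t
    obtain ⟨a, rfl⟩ := hs b
    obtain ⟨⟨c, hc⟩, hcs⟩ : ∃ c : Q.asIdeal.primeCompl, algebraMap P B c = s := by
      obtain ⟨c, hc⟩ := hs s.1
      exact ⟨⟨c, fun h => s.2 (hc ▸ h)⟩, hc⟩
    refine ⟨IsLocalization.mk' S a ⟨c, hc⟩, ?_⟩
    rw [eq_comm, IsLocalization.mk'_eq_iff_eq_mul, ← IsScalarTower.algebraMap_apply P B T a,
      show algebraMap B T s = algebraMap P T c by rw [← hcs, ← IsScalarTower.algebraMap_apply],
      ← htow, ← htow, ← map_mul, IsLocalization.mk'_spec]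
  have hφ : Function.Surjective φ := Ideal.quotientMap_surjective hsT
  refine ⟨φ, hφ, ?_⟩
  let _ : Algebra (S ⧸ J) (T ⧸ I) := φ.toAlgebra
  have hPC : IsScalarTower P (S ⧸ J) (T ⧸ I) := IsScalarTower.of_algebraMap_eq fun x => by
    show algebraMap P (T ⧸ I) x = φ (Ideal.Quotient.mk J (algebraMap P S x))
    rw [show φ (Ideal.Quotient.mk J (algebraMap P S x)) = Ideal.Quotient.mk I (algebraMap S T (algebraMap P S x))
      from rfl, htow]
    rfl
  refine ⟨hPC, ?_⟩
  let ι : B →ₗ[P] T ⧸ I := (IsScalarTower.toAlgHom P B (T ⧸ I)).toLinearMap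
  let c : (S ⧸ J) ⊗[P] B →ₗ[S ⧸ J] T ⧸ I := LinearMap.liftBaseChange (S ⧸ J) ι
  have hc : Function.Surjective c := fun y => by
    obtain ⟨r, rfl⟩ := hφ y
    exact ⟨r ⊗ₜ 1, by simp [c, ι, Algebra.smul_def, RingHom.algebraMap_toAlgebra]⟩
  -- both sides are cyclic and isomorphic through the other description
  have hgen : ∀ z : (S ⧸ J) ⊗[P] B, ∃ r : S ⧸ J, z = r ⊗ₜ[P] (1 : B) := fun z => by
    induction z using TensorProduct.induction_on with
    | zero => exact ⟨0, (TensorProduct.zero_tmul _ _).symm⟩
    | add a b ha hb =>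
      obtain ⟨r, rfl⟩ := ha
      obtain ⟨r', rfl⟩ := hb
      exact ⟨r + r', (TensorProduct.add_tmul _ _ _).symm⟩
    | tmul r b =>
      obtain ⟨x, rfl⟩ := hs b
      exact ⟨x • r, by rw [TensorProduct.smul_tmul, Algebra.algebraMap_eq_smul_one]⟩
  have hbij : Function.Bijective c := by
    refine ⟨(injective_iff_map_eq_zero _).2 fun z hz => ?_, hc⟩
    obtain ⟨r, rfl⟩ := hgen z
    obtain ⟨s, rfl⟩ := Ideal.Quotient.mk_surjective r
    have hr : φ (Ideal.Quotient.mk J s) = 0 := by
      simpa [c, ι, Algebra.smul_def, RingHom.algebraMap_toAlgebra] using hz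
    obtain ⟨j, hj, hjs⟩ := (Ideal.mem_map_iff_of_surjective _ hsT).1
      (hIJ (Ideal.Quotient.eq_zero_iff_mem.1 hr : algebraMap S T s ∈ I))
    rw [show Ideal.Quotient.mk J s = Ideal.Quotient.mk J (s - j) by
      rw [map_sub, Ideal.Quotient.eq_zero_iff_mem.2 hj, sub_zero]]
    obtain ⟨p₀, t₀, h⟩ := IsLocalization.exists_mk'_eq Q.asIdeal.primeCompl (s - j)
    have hsp : (s - j) * algebraMap P S t₀ = algebraMap P S p₀ := by rw [← h, IsLocalization.mk'_spec]
    have h0 : algebraMap B T (algebraMap P B p₀) = 0 := by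
      rw [← IsScalarTower.algebraMap_apply P B T, ← htow, ← hsp, map_mul, map_sub, hjs, sub_self, zero_mul]
    obtain ⟨⟨u, hu⟩, hu0⟩ := (IsLocalization.map_eq_zero_iff q.asIdeal.primeCompl T _).1 h0
    obtain ⟨u₀, rfl⟩ := hs u
    have hunit : IsUnit (algebraMap P (S ⧸ J) (u₀ * t₀)) :=
      (IsLocalization.map_units S (⟨u₀ * t₀, Q.asIdeal.primeCompl.mul_mem hu t₀.2⟩ : Q.asIdeal.primeCompl)).map
        (Ideal.Quotient.mk J)
    apply hunit.smul_eq_zero.1
    rw [TensorProduct.smul_tmul', smul_eq_mul,
      show algebraMap P (S ⧸ J) (u₀ * t₀) * Ideal.Quotient.mk J (s - j) = algebraMap P (S ⧸ J) (u₀ * p₀) by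
        show Ideal.Quotient.mk J (algebraMap P S (u₀ * t₀)) * _ = Ideal.Quotient.mk J (algebraMap P S (u₀ * p₀))
        rw [← map_mul (Ideal.Quotient.mk J), map_mul (algebraMap P S), map_mul (algebraMap P S), mul_assoc,
          mul_comm (algebraMap P S t₀), hsp],
      Algebra.algebraMap_eq_smul_one, TensorProduct.smul_tmul, ← Algebra.algebraMap_eq_smul_one, map_mul,
      show algebraMap P B u₀ * algebraMap P B p₀ = 0 from hu0, TensorProduct.tmul_zero]
  exact IsBaseChange.of_equiv (LinearEquiv.ofBijective c hbij) fun x => by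
    simp [c, ι]
    rfl

/-- The module on the fibre. -/
abbrev fibreMod (A : Type u) [CommRing A] {B : Type u} [CommRing B] [Algebra A B] (M : Type u)
    [AddCommGroup M] [Module B M] (q : PrimeSpectrum B) : Type u :=
  RelPd52.fibreRing A q ⊗[B] M

theorem exists_fibreMod_equiv (hs : Function.Surjective (algebraMap P B)) (M : Type u) [AddCommGroup M]
    [Module B M] [Module P M] [IsScalarTower P B M] (q : PrimeSpectrum B) :
    ∃ φ : RelPd52.fibreRing A (PrimeSpectrum.comap (algebraMap P B) q) →+* RelPd52.fibreRing A q,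
      Function.Surjective φ ∧
      (letI := φ.toAlgebra
       letI : Module (RelPd52.fibreRing A (PrimeSpectrum.comap (algebraMap P B) q)) (fibreMod A M q) :=
        Module.compHom _ φ
       Nonempty (RelPd52.fibreRing A (PrimeSpectrum.comap (algebraMap P B) q) ⊗[P] M ≃ₗ[
        RelPd52.fibreRing A (PrimeSpectrum.comap (algebraMap P B) q)] fibreMod A M q)) := by
  obtain ⟨φ, hφ, ht, hbc⟩ := exists_fibreRing_pushout (A := A) hs q
  refine ⟨φ, hφ, ?_⟩
  let R := RelPd52.fibreRing A (PrimeSpectrum.comap (algebraMap P B) q)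
  let C := RelPd52.fibreRing A q
  let _ : Algebra R C := φ.toAlgebra
  have : IsScalarTower P R C := ht
  have : SMulCommClass R B C := ⟨fun r b c => by
    rw [Algebra.smul_def r (b • c), Algebra.smul_def r c, mul_smul_comm]⟩
  have : Algebra.IsPushout P R B C := ⟨hbc⟩
  let E := (Algebra.IsPushout.cancelBaseChange P R B C M).symm
  have key : ∀ (r : R) (z : R ⊗[P] M), E (r • z) = φ r • E z := fun r z => by
    rw [E.map_smul]
    induction E z using TensorProduct.induction_on with
    | zero => simp
    | add x y hx hy => simp [hx, hy]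
    | tmul c m => simp [TensorProduct.smul_tmul', Algebra.smul_def, RingHom.algebraMap_toAlgebra]
  let _ : Module R (fibreMod A M q) := Module.compHom _ φ
  exact ⟨{ toFun := fun z => E z, invFun := fun z => E.symm z,
           left_inv := E.left_inv, right_inv := E.right_inv,
           map_add' := E.map_add, map_smul' := key }⟩

theorem comap_maximalIdeal_fibreRing (q : PrimeSpectrum B) :
    (maximalIdeal (RelPd52.fibreRing A q)).comap (algebraMap B (RelPd52.fibreRing A q)) = q.asIdeal := by
  let T := Localization.AtPrime q.asIdeal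
  have hloc : IsLocalHom (Ideal.Quotient.mk ((q.asIdeal.under A).map (algebraMap A T))) :=
    IsLocalHom.of_surjective _ Ideal.Quotient.mk_surjective
  rw [show algebraMap B (RelPd52.fibreRing A q) =
    (Ideal.Quotient.mk _).comp (algebraMap B T) from rfl, ← Ideal.comap_comap]
  rw [show (maximalIdeal (RelPd52.fibreRing A q)).comap
      (Ideal.Quotient.mk ((q.asIdeal.under A).map (algebraMap A T))) = maximalIdeal T from
    ((local_hom_TFAE _).out 0 4).1 hloc]
  exact IsLocalization.AtPrime.under_maximalIdeal T q.asIdeal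

theorem subsingleton_fibreMod_iff (M : Type u) [AddCommGroup M] [Module B M] [Module.Finite B M]
    (q : PrimeSpectrum B) : Subsingleton (fibreMod A M q) ↔ q ∉ Module.support B M := by
  let C := RelPd52.fibreRing A q
  have hc : PrimeSpectrum.comap (algebraMap B C) ⟨maximalIdeal C, inferInstance⟩ = q :=
    PrimeSpectrum.ext (comap_maximalIdeal_fibreRing q)
  rw [← Module.support_eq_empty_iff (R := C)]
  constructor
  · intro h hq
    have : (⟨maximalIdeal C, inferInstance⟩ : PrimeSpectrum C) ∈ Module.support C (fibreMod A M q) :=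
      (mem_support_baseChange M _).2 (hc.symm ▸ hq)
    rw [h] at this
    exact this
  · intro hq
    refine Set.eq_empty_iff_forall_notMem.2 fun x hx => hq ?_
    have h1 := Module.mem_support_mono (p := x) (q := (⟨maximalIdeal C, inferInstance⟩ : PrimeSpectrum C))
      (IsLocalRing.le_maximalIdeal x.2.ne_top) hx
    rw [mem_support_baseChange, hc] at h1
    exact h1

/-- Dimension of the support of the module on the fibre. -/
theorem supportDim_fibreMod (M : Type u) [AddCommGroup M] [Module B M] [Module.Finite B M]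
    [Algebra.FiniteType A B] (qb : PrimeSpectrum (B ⧸ Module.annihilator B M)) :
    ∃ k : ℕ,
      Module.supportDim (RelPd52.fibreRing A (PrimeSpectrum.comap (algebraMap B (B ⧸ Module.annihilator B M)) qb))
        (fibreMod A M (PrimeSpectrum.comap (algebraMap B (B ⧸ Module.annihilator B M)) qb)) = (k : ℕ) ∧
      FlatMor.fibreDimAt (Spec.map (CommRingCat.ofHom (algebraMap A (B ⧸ Module.annihilator B M)))) qb =
        ((k + E4O.fdeg (Spec.map (CommRingCat.ofHom (algebraMap A B)))
          (PrimeSpectrum.comap (algebraMap B (B ⧸ Module.annihilator B M)) qb) : ℕ) : WithBot ℕ∞) := by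
  let K := Module.annihilator B M
  let q := PrimeSpectrum.comap (algebraMap B (B ⧸ K)) qb
  let C := RelPd52.fibreRing A q
  let C' := RelPd52.fibreRing A qb
  let g := Spec.map (CommRingCat.ofHom (algebraMap A (B ⧸ K)))
  let h := Spec.map (CommRingCat.ofHom (algebraMap A B))
  let i := Spec.map (CommRingCat.ofHom (algebraMap B (B ⧸ K)))
  have hK : Function.Surjective (algebraMap B (B ⧸ K)) := Ideal.Quotient.mk_surjective
  have : IsClosedImmersion i := IsClosedImmersion.spec_of_surjective _ hK
  have : LocallyOfFiniteType h := (HasRingHomProperty.Spec_iff (P := @LocallyOfFiniteType)).2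
    (RingHom.finiteType_algebraMap.2 ‹_›)
  have hig : i ≫ h = g := by
    simp only [i, h, g, ← Spec.map_comp]
    rfl
  have : LocallyOfFiniteType g := by rw [← hig]; infer_instance
  obtain ⟨k, hk, hD⟩ := CM62.exists_fibre_dim g qb
  obtain ⟨-, hdim, -⟩ := fibreRing_data g (A := A) (B := B ⧸ K) (𝟙 _) (𝟙 _) (by simp [g]) qb
  refine ⟨k, ?_, ?_⟩
  · obtain ⟨φ, hφ, ht, hbc⟩ := exists_fibreRing_pushout (A := A) hK qb
    let _ : Algebra C C' := φ.toAlgebra
    let _ : Module C C' := Algebra.toModule
    have hsupp : Module.support C (fibreMod A M q) = Module.support C C' := by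
      rw [← hbc.equiv.support_eq]
      ext x
      rw [mem_support_baseChange, mem_support_baseChange, Module.support_of_algebra,
        Module.support_eq_zeroLocus, show RingHom.ker (algebraMap B (B ⧸ K)) = K from Ideal.mk_ker]
    show Order.krullDim (Module.support C (fibreMod A M q)) = _
    rw [hsupp, Module.support_of_algebra, ← ringKrullDim_quotient]
    refine (ringKrullDim_eq_of_ringEquiv
      (RingHom.quotientKerEquivOfSurjective (f := algebraMap C C') hφ)).trans ?_
    exact hdim.trans hk
  · have hdeg : E4O.fdeg g qb = E4O.fdeg h q := by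
      rw [← hig]
      exact AffNorm62.fdeg_comp_eq_of_quasiFiniteAt i h qb (i.quasiFiniteAt qb)
    rw [hD, hdeg]

section Polynomial

variable {N : ℕ} [Algebra (MvPolynomial (ULift.{u} (Fin N)) A) B]
  [IsScalarTower A (MvPolynomial (ULift.{u} (Fin N)) A) B]

theorem cm_fibreMod_iff (hs : Function.Surjective (algebraMap (MvPolynomial (ULift.{u} (Fin N)) A) B))
    (M : Type u) [AddCommGroup M] [Module B M] [Module (MvPolynomial (ULift.{u} (Fin N)) A) M]
    [IsScalarTower (MvPolynomial (ULift.{u} (Fin N)) A) B M] [Module.Finite B M] [Algebra.FiniteType A B]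
    (qb : PrimeSpectrum (B ⧸ Module.annihilator B M)) :
    ∃ D e : ℕ,
      FlatMor.fibreDimAt (Spec.map (CommRingCat.ofHom (algebraMap A (B ⧸ Module.annihilator B M)))) qb = (D : ℕ) ∧
      RelPd52.fibrePd A M (PrimeSpectrum.comap (algebraMap (MvPolynomial (ULift.{u} (Fin N)) A) B)
        (PrimeSpectrum.comap (algebraMap B (B ⧸ Module.annihilator B M)) qb)) = (e : WithBot ℕ∞) ∧
      (LocCoh.IsCohenMacaulayModule
        (RelPd52.fibreRing A (PrimeSpectrum.comap (algebraMap B (B ⧸ Module.annihilator B M)) qb))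
        (fibreMod A M (PrimeSpectrum.comap (algebraMap B (B ⧸ Module.annihilator B M)) qb)) ↔ D + e ≤ N) := by
  let q := PrimeSpectrum.comap (algebraMap B (B ⧸ Module.annihilator B M)) qb
  let Q := PrimeSpectrum.comap (algebraMap (MvPolynomial (ULift.{u} (Fin N)) A) B) q
  let R := RelPd52.fibreRing A Q
  let C := RelPd52.fibreRing A q
  obtain ⟨hreg, d', hd', hsum⟩ := polynomial_data A N Q
  obtain ⟨k, hk, hD⟩ := supportDim_fibreMod (A := A) M qb
  obtain ⟨φ, hφ, ⟨E⟩⟩ := exists_fibreMod_equiv (A := A) hs M q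
  let _ : Algebra R C := φ.toAlgebra
  let _ : Module R (fibreMod A M q) := Module.compHom _ φ
  have : Module.Finite R C := Module.Finite.of_surjective (Algebra.linearMap R C) hφ
  have : IsLocalHom (algebraMap R C) := IsLocalHom.of_surjective _ hφ
  have : IsNoetherianRing C := isNoetherianRing_of_surjective R C φ hφ
  have : IsScalarTower R C (fibreMod A M q) := IsScalarTower.of_algebraMap_smul fun r z => rfl
  have : Module.Finite R (fibreMod A M q) := Module.Finite.trans C _
  have hne : Nontrivial (fibreMod A M q) := by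
    rw [← not_subsingleton_iff_nontrivial, subsingleton_fibreMod_iff, not_not,
      Module.support_eq_zeroLocus, PrimeSpectrum.mem_zeroLocus]
    intro x hx
    show algebraMap B (B ⧸ Module.annihilator B M) x ∈ qb.asIdeal
    rw [show algebraMap B (B ⧸ Module.annihilator B M) x = 0 from Ideal.Quotient.eq_zero_iff_mem.2 hx]
    exact zero_mem _
  obtain ⟨d, e, n, hd, hn, he, hne'⟩ := E4O.depth_add_pd_eq_dim R (fibreMod A M q)
  have hdd : d = d' := by exact_mod_cast hd.symm.trans hd'
  let π := 𝔸(ULift.{u} (Fin N); Spec (CommRingCat.of A)) ↘ Spec (CommRingCat.of A)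
  let h := Spec.map (CommRingCat.ofHom (algebraMap A B))
  let i : Spec (CommRingCat.of B) ⟶ 𝔸(ULift.{u} (Fin N); Spec (CommRingCat.of A)) :=
    Spec.map (CommRingCat.ofHom (algebraMap (MvPolynomial (ULift.{u} (Fin N)) A) B)) ≫
      (AffineSpace.SpecIso (ULift.{u} (Fin N)) (CommRingCat.of A)).inv
  have : IsClosedImmersion
      (Spec.map (CommRingCat.ofHom (algebraMap (MvPolynomial (ULift.{u} (Fin N)) A) B))) :=
    IsClosedImmersion.spec_of_surjective _ hs
  have : IsClosedImmersion i := inferInstance
  have hih : i ≫ π = h := by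
    simp only [i, π, h, Category.assoc, AffineSpace.SpecIso_inv_over, ← Spec.map_comp]
    congr 1
    ext a
    exact (IsScalarTower.algebraMap_apply A (MvPolynomial (ULift.{u} (Fin N)) A) B a).symm
  have hdeg : E4O.fdeg h q = E4O.fdeg π (i q) := by
    rw [← hih]
    exact AffNorm62.fdeg_comp_eq_of_quasiFiniteAt i π q (i.quasiFiniteAt q)
  have hsum' : d' + E4O.fdeg π (i q) = N := hsum
  refine ⟨k + E4O.fdeg h q, e, hD, ?_, ?_⟩
  · rw [← he]
    exact projectiveDimension_eq_of_iso E.toModuleIso
  have hdep : LocCoh.depth C (fibreMod A M q) = n :=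
    (EGA4Alg4.depth_eq_of_finite (A := R) (B := C) (fibreMod A M q)).symm.trans hn
  have hle : n ≤ k := by
    have h1 := EGA4Alg4.depth_le_supportDim (A := C) (M := fibreMod A M q)
    rw [hdep, hk] at h1
    exact_mod_cast h1
  show Module.supportDim C (fibreMod A M q) = _ ↔ _
  rw [hk, hdep]
  constructor
  · intro h1
    have : k = n := by exact_mod_cast h1
    omega
  · intro h1
    have : k = n := by omega
    rw [this]
    rfl

/-- The set of zero or Cohen–Macaulay points of the fibres is open. -/
theorem isOpen_fibreMod_cm (hs : Function.Surjective (algebraMap (MvPolynomial (ULift.{u} (Fin N)) A) B))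
    (M : Type u) [AddCommGroup M] [Module B M] [Module (MvPolynomial (ULift.{u} (Fin N)) A) M]
    [IsScalarTower (MvPolynomial (ULift.{u} (Fin N)) A) B M] [Module A M]
    [IsScalarTower A (MvPolynomial (ULift.{u} (Fin N)) A) M] [Module.Finite B M] [Algebra.FiniteType A B]
    [Module.FinitePresentation (MvPolynomial (ULift.{u} (Fin N)) A) M] [Module.Flat A M] :
    IsOpen {q : PrimeSpectrum B | Subsingleton (fibreMod A M q) ∨
      LocCoh.IsCohenMacaulayModule (RelPd52.fibreRing A q) (fibreMod A M q)} := by
  let K := Module.annihilator B M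
  let g := Spec.map (CommRingCat.ofHom (algebraMap A (B ⧸ K)))
  let c := PrimeSpectrum.comap (algebraMap B (B ⧸ K))
  let cP := PrimeSpectrum.comap (algebraMap (MvPolynomial (ULift.{u} (Fin N)) A) B)
  have hce : Topology.IsClosedEmbedding c :=
    PrimeSpectrum.isClosedEmbedding_comap_of_surjective _ _ Ideal.Quotient.mk_surjective
  have hrange : Set.range c = Module.support B M := by
    rw [show c = PrimeSpectrum.comap (Ideal.Quotient.mk K) from rfl,
      range_comap_of_surjective _ _ Ideal.Quotient.mk_surjective, Module.support_eq_zeroLocus, Ideal.mk_ker]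
  have : LocallyOfFiniteType g := (HasRingHomProperty.Spec_iff (P := @LocallyOfFiniteType)).2
    (RingHom.finiteType_algebraMap.2 (Algebra.FiniteType.of_surjective
      (Ideal.Quotient.mkₐ A K) Ideal.Quotient.mk_surjective))
  rw [isOpen_iff_forall_mem_open]
  intro q hq
  by_cases hsupp : q ∈ Module.support B M
  swap
  · refine ⟨(Module.support B M)ᶜ, fun a ha => Or.inl ((subsingleton_fibreMod_iff M a).2 ha), ?_, hsupp⟩
    rw [← hrange]
    exact hce.isClosed_range.isOpen_compl
  obtain ⟨qb, rfl⟩ := hrange.ge hsupp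
  obtain ⟨D, e, hD, he, hiff⟩ := cm_fibreMod_iff hs M qb
  have hDe : D + e ≤ N := hiff.1 (hq.resolve_left fun h => (subsingleton_fibreMod_iff M _).1 h hsupp)
  let L : Set (PrimeSpectrum (B ⧸ K)) := {t | FlatMor.fibreDimAt g t ≤ (D : ℕ)}
  have hL : IsOpen L := S0402.result g D
  refine ⟨(c '' Lᶜ)ᶜ ∩ cP ⁻¹' {Q | RelPd52.fibrePd A M Q < ((e + 1 : ℕ) : WithBot ℕ∞)}, ?_,
    (hce.isClosedMap _ hL.isClosed_compl).isOpen_compl.inter
      ((RelPd52.isOpen_fibrePd_lt (e + 1) M).preimage (PrimeSpectrum.continuous_comap _)), ?_, ?_⟩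
  · rintro a ⟨ha, hae⟩
    by_cases has : a ∈ Module.support B M
    swap
    · exact Or.inl ((subsingleton_fibreMod_iff M a).2 has)
    obtain ⟨t, rfl⟩ := hrange.ge has
    obtain ⟨D', e', hD', he', hiff'⟩ := cm_fibreMod_iff hs M t
    refine Or.inr (hiff'.2 ?_)
    have h1 : D' ≤ D := by
      have : t ∈ L := by_contra fun h => ha ⟨t, h, rfl⟩
      have h := (show FlatMor.fibreDimAt g t ≤ (D : ℕ) from this)
      rw [hD'] at h
      exact_mod_cast h
    have h2 : e' < e + 1 := by
      have h : RelPd52.fibrePd A M (cP (c t)) < ((e + 1 : ℕ) : WithBot ℕ∞) := hae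
      rw [he'] at h
      exact_mod_cast h
    omega
  · rintro ⟨t, ht, hteq⟩
    rw [hce.injective hteq] at ht
    exact ht hD.le
  · show RelPd52.fibrePd A M (cP (c qb)) < _
    rw [he]
    exact_mod_cast Nat.lt_succ_self e

end Polynomial

end Groth.Agent.Sk62
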