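import Groth.Agent.Sk62.RectDepth
import Groth.Agent.EGA4H10.TensorSk
import Groth.Agent.EGA4H10.NormalFlat
import Mathlib.RingTheory.LocalRing.ResidueField.Fiber

/-! Codepth and `(S_k)` of the local rings of fibres under base change. -/

set_option autoImplicit false

universe u

open CategoryTheory AlgebraicGeometry IsLocalRing TensorProduct

namespace Groth.Agent.Sk62

/-- The dimension exceeds the depth by at most `n`. -/
def CodepthLE (n : ℕ) (R : Type u) [CommRing R] [IsLocalRing R] : Prop :=
  ringKrullDim R ≤ ((LocCoh.depth R R : ℕ∞) : WithBot ℕ∞) + n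

theorem codepthLE_of_ringEquiv (n : ℕ) (R S : Type u) [CommRing R] [IsLocalRing R] [CommRing S]
    [IsLocalRing S] [IsNoetherianRing R] (e : R ≃+* S) (h : CodepthLE n R) : CodepthLE n S := by
  have : IsNoetherianRing S := isNoetherianRing_of_ringEquiv R e
  rw [CodepthLE, ← CAlg1.depth_eq_of_ringEquiv e, ← ringKrullDim_eq_of_ringEquiv e]
  exact h

theorem hasSk_localization_iff {S : Type u} [CommRing S] [IsNoetherianRing S] (k : ℕ) (Q : Ideal S)
    [Q.IsPrime] : EGA4.HasSkAt k S S Q ↔
      LocCoh.HasSk k (Localization.AtPrime Q) (Localization.AtPrime Q) := by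
  have : IsNoetherianRing (Localization.AtPrime Q) :=
    IsLocalization.isNoetherianRing Q.primeCompl _ inferInstance
  have : Module.Finite (Localization.AtPrime Q) (LocalizedModule Q.primeCompl S) :=
    Module.Finite.equiv (CAlg1.locSelfEquiv Q).symm
  exact ⟨EGA4H10.hasSk_congr (CAlg1.locSelfEquiv Q) k, EGA4H10.hasSk_congr (CAlg1.locSelfEquiv Q).symm k⟩

section Field

variable (k S L : Type u) [Field k] [CommRing S] [Algebra k S] [Field L] [Algebra k L] [Algebra.FiniteType k S]

theorem isNoetherianRing_tensor : IsNoetherianRing (S ⊗[k] L) := by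
  have : IsNoetherianRing (L ⊗[k] S) := Algebra.FiniteType.isNoetherianRing L (L ⊗[k] S)
  exact isNoetherianRing_of_ringEquiv _ (Algebra.TensorProduct.comm k L S).toRingEquiv

theorem hasSk_localization_tensor_iff (m : ℕ) (Q' : Ideal (S ⊗[k] L)) [Q'.IsPrime] :
    LocCoh.HasSk m (Localization.AtPrime (Q'.comap (algebraMap S (S ⊗[k] L))))
        (Localization.AtPrime (Q'.comap (algebraMap S (S ⊗[k] L)))) ↔
      LocCoh.HasSk m (Localization.AtPrime Q') (Localization.AtPrime Q') := by
  have : IsNoetherianRing S := Algebra.FiniteType.isNoetherianRing k S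
  have := isNoetherianRing_tensor k S L
  rw [← hasSk_localization_iff, ← hasSk_localization_iff]
  exact EGA4H10.hasSkAt_tensor_field k S L (Or.inl inferInstance) m Q'

theorem codepthLE_tensor_iff (n : ℕ) (Q' : Ideal (S ⊗[k] L)) [Q'.IsPrime] :
    CodepthLE n (Localization.AtPrime (Q'.comap (algebraMap S (S ⊗[k] L)))) ↔
      CodepthLE n (Localization.AtPrime Q') := by
  have : IsNoetherianRing S := Algebra.FiniteType.isNoetherianRing k S
  have := isNoetherianRing_tensor k S L
  let Q := Q'.comap (algebraMap S (S ⊗[k] L))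
  have : IsNoetherianRing (Localization.AtPrime Q) :=
    IsLocalization.isNoetherianRing Q.primeCompl _ inferInstance
  have : IsNoetherianRing (Localization.AtPrime Q') :=
    IsLocalization.isNoetherianRing Q'.primeCompl _ inferInstance
  have h := EGA4H10.codepth_tensor_field k S L (Or.inl inferInstance) Q'
  obtain ⟨a, ha⟩ := EGA4Alg4.exists_depth_eq (A := Localization.AtPrime Q) (M := Localization.AtPrime Q)
  obtain ⟨b, hb⟩ := EGA4Alg4.exists_depth_eq (A := Localization.AtPrime Q') (M := Localization.AtPrime Q')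
  have dimNat : ∀ (R : Type u) [CommRing R] [IsLocalRing R] [IsNoetherianRing R],
      ∃ d : ℕ, ringKrullDim R = d := fun R _ _ _ => by
    have hbot := ringKrullDim_ne_bot (R := R)
    have htop := ringKrullDim_ne_top (R := R)
    generalize ringKrullDim R = D at hbot htop ⊢
    induction D with
    | bot => exact absurd rfl hbot
    | coe x =>
      induction x with
      | top => exact absurd rfl htop
      | coe m => exact ⟨m, rfl⟩
  obtain ⟨c, hc⟩ := dimNat (Localization.AtPrime Q)
  obtain ⟨d, hd⟩ := dimNat (Localization.AtPrime Q')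
  rw [CodepthLE, CodepthLE, hc, hd, ha, hb]
  rw [hc, hd, ha, hb] at h
  have h' : c + b = d + a := by exact_mod_cast h
  norm_cast
  omega

end Field

/-- Localizations at primes matched by an isomorphism. -/
noncomputable def atPrimeEquiv {R P : Type u} [CommRing R] [CommRing P] (e : R ≃+* P) (I : Ideal P)
    [I.IsPrime] : Localization.AtPrime (I.comap e.toRingHom) ≃+* Localization.AtPrime I :=
  IsLocalization.ringEquivOfRingEquiv (M := (I.comap e.toRingHom).primeCompl) (T := I.primeCompl) _ _ e (by
    ext x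
    obtain ⟨y, rfl⟩ := e.surjective x
    rw [Submonoid.mem_map]
    exact ⟨fun ⟨z, hz, hzx⟩ => e.injective hzx ▸ hz, fun h => ⟨y, h, rfl⟩⟩)

variable {A B : Type u} [CommRing A] [CommRing B] [Algebra A B]

/-- The local ring of the fibre is a localization of the fibre ring. -/
theorem exists_fibreRing_fiber (p : Ideal A) [p.IsPrime] (Q : Ideal (p.Fiber B)) [Q.IsPrime]
    (q : PrimeSpectrum B) (hq : Q.comap Algebra.TensorProduct.includeRight = q.asIdeal) :
    Nonempty (Localization.AtPrime Q ≃+* RelPd52.fibreRing A q) := by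
  obtain ⟨q, hqp⟩ := q
  subst hq
  let r := Q.comap (Algebra.TensorProduct.includeRight : B →ₐ[A] p.Fiber B)
  have hr : r.LiesOver p := ⟨(Ideal.over_def Q p).trans (by
    show Q.comap (algebraMap A (p.Fiber B)) = r.comap (algebraMap A B)
    ext a
    simp [r, Ideal.mem_comap])⟩
  let _ : Algebra (Localization.AtPrime p) (Localization.AtPrime r) :=
    Localization.AtPrime.algebraOfLiesOver p r
  refine ⟨(Ideal.Fiber.localizationAlgEquivQuotient p Q).toRingEquiv.trans
    (Ideal.quotEquivOfEq ?_)⟩
  exact congrArg (Ideal.map (algebraMap A (Localization.AtPrime r))) hr.over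

/-- A prime of the fibre ring above a point. -/
theorem exists_fiber_prime (q : PrimeSpectrum B) (p : Ideal A) [p.IsPrime] (hp : p = q.asIdeal.under A) :
    ∃ (Q : Ideal (p.Fiber B)) (_ : Q.IsPrime),
      Q.comap Algebra.TensorProduct.includeRight = q.asIdeal := by
  subst hp
  exact CAlg1.exists_fibre_prime q.asIdeal

theorem fiber_prime_unique (p : Ideal A) [p.IsPrime] (Q Q' : Ideal (p.Fiber B)) [Q.IsPrime] [Q'.IsPrime]
    (h : Q.comap Algebra.TensorProduct.includeRight = Q'.comap Algebra.TensorProduct.includeRight) :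
    Q = Q' := by
  have := (PrimeSpectrum.preimageEquivFiber A B ⟨p, inferInstance⟩).symm.injective
    (a₁ := ⟨Q, inferInstance⟩) (a₂ := ⟨Q', inferInstance⟩) (Subtype.ext (PrimeSpectrum.ext h))
  exact congrArg PrimeSpectrum.asIdeal this

variable {A' : Type u} [CommRing A'] [Algebra A A']

set_option maxHeartbeats 400000 in
/-- Base change: the fibre rings are localizations of `S` and `S ⊗ L`. -/
theorem exists_baseChange_data [Algebra.FiniteType A B] (q' : PrimeSpectrum (A' ⊗[A] B)) :
    ∃ (k S L : Type u) (_ : Field k) (_ : CommRing S) (_ : Algebra k S) (_ : Field L) (_ : Algebra k L)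
      (_ : Algebra.FiniteType k S) (Q' : Ideal (S ⊗[k] L)) (_ : Q'.IsPrime),
      Nonempty (Localization.AtPrime (Q'.comap (algebraMap S (S ⊗[k] L))) ≃+*
        RelPd52.fibreRing A (PrimeSpectrum.comap Algebra.TensorProduct.includeRight.toRingHom q')) ∧
      Nonempty (Localization.AtPrime Q' ≃+* RelPd52.fibreRing A' q') := by
  let q : PrimeSpectrum B := PrimeSpectrum.comap Algebra.TensorProduct.includeRight.toRingHom q'
  let p' := q'.asIdeal.under A'
  let p := p'.under A
  have hp : p = q.asIdeal.under A := by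
    show (q'.asIdeal.comap _).comap _ = (q'.asIdeal.comap _).comap _
    rw [Ideal.comap_comap, Ideal.comap_comap, AlgHom.toRingHom_eq_coe, AlgHom.comp_algebraMap_of_tower,
      ← IsScalarTower.algebraMap_eq]
  let k := p.ResidueField
  let L := p'.ResidueField
  let g : k →ₐ[A] L := Ideal.ResidueField.mapₐ p p' (Algebra.ofId A A') rfl
  let _ : Algebra k L := g.toRingHom.toAlgebra
  have : IsScalarTower A k L := IsScalarTower.of_algebraMap_eq fun a => (g.commutes a).symm
  let S := p.Fiber B
  have : Algebra.FiniteType k S := inferInstance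
  obtain ⟨ψ, hψ⟩ : ∃ ψ : p'.Fiber (A' ⊗[A] B) ≃+* S ⊗[k] L,
      ∀ b : B, ψ ((1 : L) ⊗ₜ[A'] ((1 : A') ⊗ₜ[A] b)) = algebraMap S (S ⊗[k] L) ((1 : k) ⊗ₜ[A] b) := by
    refine ⟨(Algebra.TensorProduct.cancelBaseChange A A' A' L B).toRingEquiv.trans
      ((Algebra.TensorProduct.cancelBaseChange A k k L B).symm.toRingEquiv.trans
        (Algebra.TensorProduct.comm k L S).toRingEquiv), fun b => ?_⟩
    simp
  obtain ⟨R', _, hR'⟩ := exists_fiber_prime (A := A') q' p' rfl
  obtain ⟨Q, _, hQ⟩ := exists_fiber_prime q p hp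
  let Q' : Ideal (S ⊗[k] L) := R'.comap ψ.symm.toRingHom
  have hQ' : Q'.IsPrime := inferInstance
  have hcomap : Q'.comap (algebraMap S (S ⊗[k] L)) = Q := by
    refine fiber_prime_unique p _ _ ?_
    rw [hQ]
    show _ = q'.asIdeal.comap _
    ext b
    rw [Ideal.mem_comap (f := Algebra.TensorProduct.includeRight.toRingHom), ← SetLike.ext_iff.1 hR']
    simp only [Ideal.mem_comap, Q', Algebra.TensorProduct.includeRight_apply, AlgHom.toRingHom_eq_coe,
      RingHom.coe_coe, RingEquiv.toRingHom_eq_coe]
    rw [← hψ, RingEquiv.symm_apply_apply]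
  obtain ⟨e⟩ := exists_fibreRing_fiber p Q q hQ
  obtain ⟨e'⟩ := exists_fibreRing_fiber p' R' q' hR'
  refine ⟨k, S, L, inferInstance, inferInstance, inferInstance, inferInstance, inferInstance, inferInstance,
    Q', hQ', ⟨?_⟩, ⟨?_⟩⟩
  · exact (IsLocalization.ringEquivOfRingEquiv (M := (Q'.comap (algebraMap S (S ⊗[k] L))).primeCompl)
      (T := Q.primeCompl) _ _ (RingEquiv.refl S) (by simp [hcomap])).trans e
  · let f := atPrimeEquiv (R := S ⊗[k] L) (P := p'.Fiber (A' ⊗[A] B)) ψ.symm R'
    exact f.trans e'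

end Groth.Agent.Sk62
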