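import Groth.Agent.Sk62.PtIntegral
import Groth.Agent.VarGal.GeomRed
import Groth.Agent.VarGal.Residue
import Groth.Agent.FBase64.Splitting
import Groth.Agent.FlatMor68.FibreStalk
import Groth.Agent.E4O.StalkChart
import Mathlib.RingTheory.Filtration

/-! Geometric pointwise integrality is detected by finite extensions; a point of the special fibre over
a discrete valuation ring with integral fibre has integral local ring. -/

set_option autoImplicit false
set_option linter.style.haveILetI false

universe u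

open CategoryTheory CategoryTheory.Limits AlgebraicGeometry TopologicalSpace Topology

namespace Groth.Agent.Sk62

section Field

variable {k : Type u} [Field k]

theorem isGeomReducedAt_of_openImmersion {A B : Scheme.{u}}
    {f : B ⟶ Spec (CommRingCat.of k)} {f' : A ⟶ Spec (CommRingCat.of k)} (e : A ⟶ B)
    [IsOpenImmersion e] (he : e ≫ f = f') (a : A) (h : FBase.IsGeomReducedAt f (e a)) :
    FBase.IsGeomReducedAt f' a := by
  intro K _ _ x' hx'
  let φ : FBase.bc f' K ⟶ FBase.bc f K :=
    pullback.map _ _ _ _ e (𝟙 _) (𝟙 _) (by rw [Category.comp_id, he]) (by simp)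
  have : IsOpenImmersion φ :=
    inferInstanceAs (IsOpenImmersion (pullback.map _ _ _ _ e (𝟙 _) (𝟙 _) _ _))
  have hφ : φ ≫ FBase.bcπ f K = FBase.bcπ f' K ≫ e := pullback.lift_fst _ _ _
  refine (E4O.isReduced_stalk_of_isOpenImmersion φ x').2 (h K (φ x') ?_)
  rw [← Scheme.Hom.comp_apply, hφ, Scheme.Hom.comp_apply]
  exact congrArg e hx'

theorem isGeomPtIntegralAt_of_finite_qc {V : Scheme.{u}} (g : V ⟶ Spec (CommRingCat.of k))
    [LocallyOfFiniteType g] [QuasiCompact g] (τ : V) (hr : FBase.IsGeomReducedAt g τ)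
    (h : ∀ (L : Type u) [Field L] [Algebra k L], FiniteDimensional k L →
      ∀ τ' : ↥(FBase.bc g L), FBase.bcπ g L τ' = τ → IsDomain ((FBase.bc g L).presheaf.stalk τ')) :
    FBase.IsGeomPtIntegralAt g τ := by
  have : IsLocallyNoetherian V := LocallyOfFiniteType.isLocallyNoetherian g
  have : CompactSpace ↥V := QuasiCompact.compactSpace_of_compactSpace g
  have : IsNoetherian V := { }
  have : Finite ↥(irreducibleComponents ↥V) :=
    NoetherianSpace.finite_irreducibleComponents.to_subtype
  obtain ⟨L, _, _, hfd, -, hL⟩ := FBase64.exists_finite_separable_irreducibleComponents g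
    fun Z hZ => VarGal.residueFieldProp_finite_separableClosure _ _
  obtain ⟨τ₀, hτ₀⟩ := (pullback.fst g (Spec.map (CommRingCat.ofHom (algebraMap k L)))).surjective τ
  let τ' : ↥(FBase.bc g L) := τ₀
  have hτ' : FBase.bcπ g L τ' = τ := hτ₀
  let gL : FBase.bc g L ⟶ Spec (CommRingCat.of L) := FBase.bcStr g L
  have : LocallyOfFiniteType gL :=
    MorphismProperty.of_isPullback (IsPullback.of_hasPullback g _) ‹LocallyOfFiniteType g›
  have : QuasiCompact gL :=
    MorphismProperty.of_isPullback (IsPullback.of_hasPullback g _) ‹QuasiCompact g›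
  have : IsLocallyNoetherian (FBase.bc g L) := LocallyOfFiniteType.isLocallyNoetherian gL
  have : CompactSpace ↥(FBase.bc g L) := QuasiCompact.compactSpace_of_compactSpace gL
  have : IsNoetherian (FBase.bc g L) := { }
  have : Finite ↥(irreducibleComponents ↥(FBase.bc g L)) :=
    NoetherianSpace.finite_irreducibleComponents.to_subtype
  have hu : Grp57.UniqueComp τ' := ((isDomain_stalk_iff τ').1 (h L hfd τ' hτ')).2
  let Ω := AlgebraicClosure L
  let π : FBase.bc gL Ω ⟶ FBase.bc g L := FBase.bcπ gL Ω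
  have hsurj : Function.Surjective π :=
    (pullback.fst gL (Spec.map (CommRingCat.ofHom (algebraMap L Ω)))).surjective
  have hcomp : irreducibleComponents ↥(FBase.bc gL Ω) =
      Set.range fun C : irreducibleComponents ↥(FBase.bc g L) => π ⁻¹' C.1 := by
    refine NearGen2.irreducibleComponents_eq_range (fun C => hL Ω C.1 C.2)
      (fun C => (isClosed_of_mem_irreducibleComponents _ C.2).preimage π.continuous) ?_ ?_
    · rw [← Set.preimage_iUnion, ← Set.sUnion_eq_iUnion, sUnion_irreducibleComponents, Set.preimage_univ]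
    · exact fun C D hCD => Subtype.ext ((hsurj.preimage_subset_preimage_iff.1 hCD).antisymm
        (C.2.2 D.2.1 (hsurj.preimage_subset_preimage_iff.1 hCD)))
  obtain ⟨σ, hσ⟩ := hsurj τ'
  have huσ : Grp57.UniqueComp σ := by
    unfold Grp57.UniqueComp
    rw [hcomp]
    rintro _ ⟨C, rfl⟩ _ ⟨D, rfl⟩ hC hD
    change π σ ∈ C.1 at hC
    change π σ ∈ D.1 at hD
    rw [hσ] at hC hD
    rw [Subtype.ext (hu _ C.2 _ D.2 hC hD)]
  have hrσ := (VarGal.isGeomReducedAt_iff_bcStr g τ').1 (hτ'.symm ▸ hr) Ω σ hσ
  have : IsDomain ((FBase.bc gL Ω).presheaf.stalk σ) := (isDomain_stalk_iff σ).2 ⟨hrσ, huσ⟩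
  have h1 : FBase.IsGeomPtIntegralAt gL τ' := FBase64.isGeomPtIntegralAt_of_isAlgClosed gL τ' σ hσ
  exact hτ' ▸ (FBase64.isGeomPtIntegralAt_iff_bcStr g τ').2 h1

/-- Geometric pointwise integrality from geometric reducedness and the finite extensions. -/
theorem isGeomPtIntegralAt_of_finite {V : Scheme.{u}} (g : V ⟶ Spec (CommRingCat.of k))
    [LocallyOfFiniteType g] (τ : V) (hr : FBase.IsGeomReducedAt g τ)
    (h : ∀ (L : Type u) [Field L] [Algebra k L], FiniteDimensional k L →
      ∀ τ' : ↥(FBase.bc g L), FBase.bcπ g L τ' = τ → IsDomain ((FBase.bc g L).presheaf.stalk τ')) :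
    FBase.IsGeomPtIntegralAt g τ := by
  obtain ⟨A, _, _, j, _, ⟨τ₀, rfl⟩, hj⟩ := FBase64.exists_chart g τ
  let g₀ : Spec (CommRingCat.of A) ⟶ Spec (CommRingCat.of k) :=
    Spec.map (CommRingCat.ofHom (algebraMap k A))
  have : LocallyOfFiniteType g₀ := by
    show LocallyOfFiniteType (Spec.map _)
    rw [← hj]
    infer_instance
  refine (isGeomPtIntegralAt_openImmersion_iff j hj τ₀).1 (isGeomPtIntegralAt_of_finite_qc g₀ τ₀
    (isGeomReducedAt_of_openImmersion j hj τ₀ hr) fun L _ _ hfd τ' hτ' => ?_)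
  let φ : FBase.bc g₀ L ⟶ FBase.bc g L :=
    pullback.map _ _ _ _ j (𝟙 _) (𝟙 _) (by rw [Category.comp_id, hj]) (by simp)
  have : IsOpenImmersion φ :=
    inferInstanceAs (IsOpenImmersion (pullback.map _ _ _ _ j (𝟙 _) (𝟙 _) _ _))
  have hφ : φ ≫ FBase.bcπ g L = FBase.bcπ g₀ L ≫ j := pullback.lift_fst _ _ _
  have : IsDomain ((FBase.bc g L).presheaf.stalk (φ τ')) := h L hfd _ (by
    rw [← Scheme.Hom.comp_apply, hφ, Scheme.Hom.comp_apply, hτ'])
  exact (asIso (φ.stalkMap τ')).commRingCatIsoToRingEquiv.symm.toMulEquiv.isDomain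

end Field

/-- A Noetherian local ring with a regular element whose quotient is a domain is a domain. -/
theorem isDomain_of_quotient_regular {R : Type u} [CommRing R] [IsLocalRing R] [IsNoetherianRing R] (t : R)
    (hreg : ∀ c, t * c = 0 → c = 0)
    [IsDomain (R ⧸ Ideal.span {t})] : IsDomain R := by
  have hP : (Ideal.span {t}).IsPrime := Ideal.Quotient.isDomain_iff_prime _ |>.1 ‹_›
  have hne : Ideal.span {t} ≠ ⊤ := hP.ne_top
  have hzero : ∀ a : R, (∀ n, a ∈ Ideal.span {t} ^ n) → a = 0 := fun a ha => by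
    have h := Ideal.iInf_pow_eq_bot_of_isLocalRing _ hne
    exact (Submodule.mem_bot R).1 (h ▸ (Submodule.mem_iInf _).2 ha)
  have key : ∀ n, ∀ a b : R, a * b = 0 → a ∉ Ideal.span {t} → b ∈ Ideal.span {t} ^ n := by
    intro n
    induction n with
    | zero => intro a b _ _; rw [pow_zero, Ideal.one_eq_top]; trivial
    | succ n ih =>
      intro a b hab ha
      obtain ⟨c, rfl⟩ := Ideal.mem_span_singleton'.1 ((hP.mem_or_mem (hab ▸ zero_mem _)).resolve_left ha)
      have hc : a * c = 0 := hreg _ (by rw [← hab]; ring)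
      rw [pow_succ]
      exact Ideal.mul_mem_mul (ih a c hc ha) (Ideal.mem_span_singleton_self t)
  have key' : ∀ n, ∀ a b : R, a * b = 0 → b ≠ 0 → a ∈ Ideal.span {t} ^ n := by
    intro n
    induction n with
    | zero => intro a b _ _; rw [pow_zero, Ideal.one_eq_top]; trivial
    | succ n ih =>
      intro a b hab hb
      have ha : a ∈ Ideal.span {t} := by
        by_contra ha
        exact hb (hzero b fun m => key m a b hab ha)
      obtain ⟨c, rfl⟩ := Ideal.mem_span_singleton'.1 ha
      have hc : c * b = 0 := hreg _ (by rw [← hab]; ring)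
      rw [pow_succ]
      exact Ideal.mul_mem_mul (ih c b hc hb) (Ideal.mem_span_singleton_self t)
  have : NoZeroDivisors R := ⟨fun {a b} hab => by
    by_cases hb : b = 0
    · exact Or.inr hb
    · exact Or.inl (hzero a fun n => key' n a b hab hb)⟩
  exact NoZeroDivisors.to_isDomain R

theorem isDomain_fibre_stalk_of_giLocus {X Y : Scheme.{u}} (f : X ⟶ Y) {x : X} (h : x ∈ giLocus f) :
    IsDomain ((f.fiber (f x)).presheaf.stalk (f.asFiber x)) := by
  let K := IsLocalRing.ResidueField (Y.presheaf.stalk (f x))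
  let b := FBase.bcπ (k := K) (f.fiberToSpecResidueField (f x)) K
  haveI : IsIso (Spec.map (CommRingCat.ofHom (algebraMap K K))) := by
    rw [show algebraMap K K = RingHom.id _ from rfl, CommRingCat.ofHom_id, Spec.map_id]
    infer_instance
  haveI : IsIso b :=
    MorphismProperty.pullback_fst (P := MorphismProperty.isomorphisms Scheme) _ _ ‹IsIso _›
  have hx : b ((inv b) (f.asFiber x)) = f.asFiber x := by
    rw [← Scheme.Hom.comp_apply, IsIso.inv_hom_id]; rfl
  have := h K ((inv b) (f.asFiber x)) hx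
  exact FBase64.isDomain_stalk_of_iso (inv b) (f.asFiber x)

/-- Over a discrete valuation ring. -/
theorem isDomain_stalk_of_dvr {A : Type u} [CommRing A] [IsDomain A] [IsDiscreteValuationRing A]
    {X : Scheme.{u}} (f : X ⟶ Spec (CommRingCat.of A)) [Flat f] [LocallyOfFiniteType f] (x : X)
    (hfx : f x = IsLocalRing.closedPoint A) (hx : x ∈ giLocus f) : IsDomain (X.presheaf.stalk x) := by
  have : IsLocallyNoetherian X := LocallyOfFiniteType.isLocallyNoetherian f
  let R := (Spec (CommRingCat.of A)).presheaf.stalk (f x)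
  let B := X.presheaf.stalk x
  let y : PrimeSpectrum A := f x
  have hyne : y.asIdeal ≠ ⊥ := fun h => IsDiscreteValuationRing.not_a_field A
    ((congrArg PrimeSpectrum.asIdeal hfx).symm.trans h)
  obtain ⟨al, hal⟩ : ∃ _ : Algebra A R, IsLocalization.AtPrime R y.asIdeal :=
    E4O.exists_isLocalization_stalk (𝟙 (Spec (CommRingCat.of A))) y
  have hdom : IsDomain R := IsLocalization.isDomain_of_le_nonZeroDivisors (R := A) (S := R)
    y.asIdeal.primeCompl_le_nonZeroDivisors
  have : IsDiscreteValuationRing R :=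
    IsLocalization.AtPrime.isDiscreteValuationRing_of_dedekind_domain A hyne R
  let φ : R →+* B := (f.stalkMap x).hom
  obtain ⟨π, hπ⟩ := IsDiscreteValuationRing.exists_irreducible R
  have hπm : IsLocalRing.maximalIdeal R = Ideal.span {π} := hπ.maximalIdeal_eq
  have : IsNoetherianRing B := inferInstance
  have := isDomain_fibre_stalk_of_giLocus f hx
  have : IsDomain (B ⧸ Ideal.span {φ π}) := by
    rw [show Ideal.span {φ π} = (IsLocalRing.maximalIdeal R).map φ by
      rw [hπm, Ideal.map_span, Set.image_singleton]]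
    exact (FlatMor68.FibreStalk.fibreStalkEquivAt f x).toMulEquiv.isDomain
  have hreg : ∀ c : B, φ π * c = 0 → c = 0 := fun c hc => by
    let _ : Algebra R B := φ.toAlgebra
    have : Module.Flat R B := Flat.stalkMap f x
    exact (IsSMulRegular.of_flat (S := B) (IsSMulRegular.of_ne_zero hπ.ne_zero))
      (show φ π • c = φ π • 0 by rw [smul_zero]; exact hc)
  exact isDomain_of_quotient_regular (φ π) hreg

end Groth.Agent.Sk62
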