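import Groth.Agent.Sk62.FibreRing
import Groth.Agent.Sk62.StalkSk
import Groth.Agent.AffNorm62.OpenTarget
import Mathlib.AlgebraicGeometry.Morphisms.FinitePresentation

/-! Depth plus degree of the fibre is lower semicontinuous for a flat morphism. -/

set_option autoImplicit false

universe u

open CategoryTheory AlgebraicGeometry IsLocalRing TensorProduct

namespace Groth.Agent.Sk62

variable {X Y : Scheme.{u}}

/-- Depth of the fibre plus degree over the base. -/
noncomputable def rdepth (f : X ⟶ Y) (z : X) : ℕ∞ := fdepth f z + (E4O.fdeg f z : ℕ∞)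

theorem isLocalRing_noetherian_fibre (f : X ⟶ Y) [LocallyOfFiniteType f] (z : X) :
    IsNoetherianRing ((f.fiber (f z)).presheaf.stalk (f.asFiber z)) := by
  have := CM62.isNoetherianRing_fibQuot f z
  exact isNoetherianRing_of_ringEquiv _ (FlatMor68.FibreStalk.fibreStalkEquivAt f z)

instance isLocalRing_fibreRing {A B : Type u} [CommRing A] [CommRing B] [Algebra A B]
    (q : PrimeSpectrum B) : IsLocalRing (RelPd52.fibreRing A q) := by
  have : Nontrivial (RelPd52.fibreRing A q) := Ideal.Quotient.nontrivial_iff.2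
    (ne_top_of_le_ne_top (maximalIdeal.isMaximal _).ne_top (RelPd52.map_under_le_maximal q))
  exact IsLocalRing.of_surjective' (Ideal.Quotient.mk _) Ideal.Quotient.mk_surjective

theorem fibreRing_data (f : X ⟶ Y) [LocallyOfFiniteType f] {A B : Type u} [CommRing A] [CommRing B]
    [Algebra A B] (e : Spec (CommRingCat.of B) ⟶ X) [IsOpenImmersion e]
    (j : Spec (CommRingCat.of A) ⟶ Y) [IsOpenImmersion j]
    (comm : Spec.map (CommRingCat.ofHom (algebraMap A B)) ≫ j = e ≫ f) (q : PrimeSpectrum B) :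
    LocCoh.depth (RelPd52.fibreRing A q) (RelPd52.fibreRing A q) = fdepth f (e q) ∧
      ringKrullDim (RelPd52.fibreRing A q) = fdim f (e q) ∧
      Nonempty (RelPd52.fibreRing A q ≃+*
        (f.fiber (f (e q))).presheaf.stalk (f.asFiber (e q))) := by
  obtain ⟨E⟩ := exists_fibreRing_equiv f e j comm q
  let E' := E.trans (FlatMor68.FibreStalk.fibreStalkEquivAt f (e q))
  have := isLocalRing_noetherian_fibre f (e q)
  have := isNoetherianRing_of_ringEquiv _ E'.symm
  exact ⟨CAlg1.depth_eq_of_ringEquiv E', ringKrullDim_eq_of_ringEquiv E', ⟨E'⟩⟩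

theorem polynomial_data (A : Type u) [CommRing A] (N : ℕ)
    (Q : PrimeSpectrum (MvPolynomial (ULift.{u} (Fin N)) A)) :
    IsRegularLocalRing (RelPd52.fibreRing A Q) ∧ ∃ d : ℕ, ringKrullDim (RelPd52.fibreRing A Q) = d ∧
      d + E4O.fdeg (𝔸(ULift.{u} (Fin N); Spec (CommRingCat.of A)) ↘ Spec (CommRingCat.of A))
        ((AffineSpace.SpecIso (ULift.{u} (Fin N)) (CommRingCat.of A)).inv Q) = N := by
  let S := Spec (CommRingCat.of A)
  let π := 𝔸(ULift.{u} (Fin N); S) ↘ S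
  let i : Spec (CommRingCat.of (MvPolynomial (ULift.{u} (Fin N)) A)) ⟶ 𝔸(ULift.{u} (Fin N); S) :=
    (AffineSpace.SpecIso (ULift.{u} (Fin N)) (CommRingCat.of A)).inv
  have comm : Spec.map (CommRingCat.ofHom (algebraMap A (MvPolynomial (ULift.{u} (Fin N)) A))) ≫ 𝟙 S =
      i ≫ π := by
    rw [Category.comp_id]
    exact (AffineSpace.SpecIso_inv_over (n := ULift.{u} (Fin N)) (CommRingCat.of A)).symm
  obtain ⟨-, hdim, ⟨E⟩⟩ := fibreRing_data π i (𝟙 S) comm Q
  have := CM62.isRegularLocalRing_fibre_affineSpace (ULift.{u} (Fin N)) (i Q)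
  refine ⟨IsRegularLocalRing.of_ringEquiv E.symm, ?_⟩
  obtain ⟨d, hd, hD⟩ := CM62.exists_fibre_dim π (i Q)
  refine ⟨d, hdim.trans hd, ?_⟩
  obtain ⟨z, -, -, hz, hmax, -⟩ := E4O.exists_fibreDimAt_eq π (i Q)
  obtain ⟨a, ha, had, hab⟩ := AffNorm62.exists_generic N (π (i Q))
  rw [hz] at hD
  have h1 : E4O.fdeg π z = d + E4O.fdeg π (i Q) := by exact_mod_cast hD
  have h2 : E4O.fdeg π z ≤ N := AffNorm62.fdeg_over_le N z
  have h3 : E4O.fdeg π a ≤ E4O.fdeg π z := hmax a (hab _ rfl) ha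
  have h4 : E4O.fdeg π a = N := had
  show d + E4O.fdeg π (i Q) = N
  omega

variable {A B : Type u} [CommRing A] [CommRing B] [Algebra A B]

/-- In a chart, depth plus degree is `N` minus the projective dimension of the fibre. -/
theorem rdepth_add_fibrePd {N : ℕ} [Algebra (MvPolynomial (ULift.{u} (Fin N)) A) B]
    [IsScalarTower A (MvPolynomial (ULift.{u} (Fin N)) A) B]
    (hs : Function.Surjective (algebraMap (MvPolynomial (ULift.{u} (Fin N)) A) B))
    (f : X ⟶ Y) [LocallyOfFiniteType f]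
    (e : Spec (CommRingCat.of B) ⟶ X) [IsOpenImmersion e]
    (j : Spec (CommRingCat.of A) ⟶ Y) [IsOpenImmersion j]
    (comm : Spec.map (CommRingCat.ofHom (algebraMap A B)) ≫ j = e ≫ f) (q : PrimeSpectrum B) :
    ∃ c r : ℕ, rdepth f (e q) = (r : ℕ∞) ∧ r + c = N ∧
      RelPd52.fibrePd A B (PrimeSpectrum.comap (algebraMap (MvPolynomial (ULift.{u} (Fin N)) A) B) q) =
        (c : WithBot ℕ∞) := by
  obtain ⟨hdep, -, -⟩ := fibreRing_data f e j comm q
  let Q := PrimeSpectrum.comap (algebraMap (MvPolynomial (ULift.{u} (Fin N)) A) B) q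
  obtain ⟨hreg, d', hd', hsum⟩ := polynomial_data A N Q
  obtain ⟨d, c, m, hd, hm, hc, hmc⟩ := exists_depth_add_pd (A := A) hs q
  have hdd : d = d' := by exact_mod_cast hd.symm.trans hd'
  refine ⟨c, m + E4O.fdeg f (e q), ?_, ?_, hc⟩
  · rw [rdepth, ← hdep, hm]; rfl
  let S := Spec (CommRingCat.of A)
  let π := 𝔸(ULift.{u} (Fin N); S) ↘ S
  let h : Spec (CommRingCat.of B) ⟶ S := Spec.map (CommRingCat.ofHom (algebraMap A B))
  let g : Spec (CommRingCat.of B) ⟶ Spec (CommRingCat.of (MvPolynomial (ULift.{u} (Fin N)) A)) :=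
    Spec.map (CommRingCat.ofHom (algebraMap (MvPolynomial (ULift.{u} (Fin N)) A) B))
  let k : Spec (CommRingCat.of B) ⟶ 𝔸(ULift.{u} (Fin N); S) :=
    g ≫ (AffineSpace.SpecIso (ULift.{u} (Fin N)) (CommRingCat.of A)).inv
  have : IsClosedImmersion g := IsClosedImmersion.spec_of_surjective _ hs
  have : IsClosedImmersion k := inferInstance
  have hk : k ≫ π = h := by
    simp only [k, π, g, h, S, Category.assoc, AffineSpace.SpecIso_inv_over, ← Spec.map_comp]
    congr 1
    ext a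
    exact (IsScalarTower.algebraMap_apply A (MvPolynomial (ULift.{u} (Fin N)) A) B a).symm
  have : LocallyOfFiniteType h := by rw [← hk]; infer_instance
  have hdeg : E4O.fdeg f (e q) = E4O.fdeg π (k q) :=
    calc E4O.fdeg f (e q) = E4O.fdeg (e ≫ f) q := (E4O.fdeg_comp_openImmersion e f q).symm
      _ = E4O.fdeg (h ≫ j) q := by rw [comm]
      _ = E4O.fdeg h q := AffNorm62.fdeg_comp_right_openImmersion h j q
      _ = E4O.fdeg (k ≫ π) q := by rw [hk]
      _ = E4O.fdeg π (k q) := AffNorm62.fdeg_comp_eq_of_quasiFiniteAt k π q (k.quasiFiniteAt q)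
  have hsum' : d' + E4O.fdeg π (k q) = N := hsum
  omega

/-- Depth plus degree is lower semicontinuous. -/
theorem isOpen_le_rdepth (f : X ⟶ Y) [Flat f] [LocallyOfFinitePresentation f] (d : ℕ) :
    IsOpen {z : X | (d : ℕ∞) ≤ rdepth f z} := by
  rw [isOpen_iff_forall_mem_open]
  intro x hx
  obtain ⟨V, hV, hyV, -⟩ := exists_isAffineOpen_mem_and_subset (X := Y) (x := f x) (U := ⊤) trivial
  obtain ⟨W, hW, hxW, hWV⟩ := exists_isAffineOpen_mem_and_subset (X := X) (x := x) (U := f ⁻¹ᵁ V) hyV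
  have hle : W ≤ f ⁻¹ᵁ V := fun a ha => hWV ha
  let φ := f.appLE V W hle
  algebraize [φ.hom]
  have hfp : Algebra.FinitePresentation Γ(Y, V) Γ(X, W) :=
    LocallyOfFinitePresentation.finitePresentation_appLE f hV hW hle
  have : Module.Flat Γ(Y, V) Γ(X, W) := f.flat_appLE hV hW hle
  have := hW.isOpenImmersion_fromSpec
  have := hV.isOpenImmersion_fromSpec
  obtain ⟨(ι : Type u), _, p, hp, hker⟩ := (Algebra.FinitePresentation.iff_quotient_mvPolynomial'
    (R := Γ(Y, V)) (A := Γ(X, W))).1 hfp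
  let N := Fintype.card ι
  let σ : ULift.{u} (Fin N) ≃ ι := Equiv.ulift.trans (Fintype.equivFin ι).symm
  let p' : MvPolynomial (ULift.{u} (Fin N)) Γ(Y, V) →ₐ[Γ(Y, V)] Γ(X, W) :=
    p.comp (MvPolynomial.renameEquiv Γ(Y, V) σ).toAlgHom
  let _ := p'.toRingHom.toAlgebra
  have : IsScalarTower Γ(Y, V) (MvPolynomial (ULift.{u} (Fin N)) Γ(Y, V)) Γ(X, W) :=
    IsScalarTower.of_algebraMap_eq fun a => (p'.commutes a).symm
  have hs : Function.Surjective (algebraMap (MvPolynomial (ULift.{u} (Fin N)) Γ(Y, V)) Γ(X, W)) :=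
    hp.comp (MvPolynomial.renameEquiv Γ(Y, V) σ).surjective
  have : Module.FinitePresentation (MvPolynomial (ULift.{u} (Fin N)) Γ(Y, V)) Γ(X, W) := by
    refine Module.finitePresentation_of_surjective
      (Algebra.linearMap (MvPolynomial (ULift.{u} (Fin N)) Γ(Y, V)) Γ(X, W)) hs ?_
    exact Algebra.FinitePresentation.ker_fG_of_surjective p' hs
  have comm : Spec.map φ ≫ hV.fromSpec = hW.fromSpec ≫ f :=
    IsAffineOpen.SpecMap_appLE_fromSpec f hV hW hle
  let c := PrimeSpectrum.comap (algebraMap (MvPolynomial (ULift.{u} (Fin N)) Γ(Y, V)) Γ(X, W))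
  let O : Set (PrimeSpectrum Γ(X, W)) :=
    c ⁻¹' {Q | RelPd52.fibrePd Γ(Y, V) Γ(X, W) Q < ((N + 1 - d : ℕ) : WithBot ℕ∞)}
  have hO : IsOpen O := (RelPd52.isOpen_fibrePd_lt (N + 1 - d) Γ(X, W)).preimage (PrimeSpectrum.continuous_comap _)
  have key : ∀ q, q ∈ O ↔ (d : ℕ∞) ≤ rdepth f (hW.fromSpec q) := by
    intro q
    obtain ⟨e, r, hr, hre, he⟩ := rdepth_add_fibrePd hs f hW.fromSpec hV.fromSpec comm q
    rw [hr, Nat.cast_le]
    show RelPd52.fibrePd _ _ _ < _ ↔ _
    rw [he, Nat.cast_lt]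
    omega
  obtain ⟨q, rfl⟩ := hW.range_fromSpec.ge hxW
  refine ⟨hW.fromSpec '' O, ?_, hW.fromSpec.isOpenEmbedding.isOpenMap _ hO, ⟨q, (key q).2 hx, rfl⟩⟩
  rintro _ ⟨t, ht, rfl⟩
  exact (key t).1 ht

end Groth.Agent.Sk62
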