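import Groth.Agent.Unr55.FppfDesc
import Mathlib.RingTheory.Ideal.MinimalPrime.Noetherian
import Mathlib.RingTheory.Ideal.MinimalPrime.Localization
import Mathlib.RingTheory.LocalRing.ResidueField.Fiber
import Mathlib.RingTheory.LocalProperties.Reduced

/-! Flat, finitely presented, with reduced fibres over a reduced ring: reduced. -/

set_option autoImplicit false

universe u

open TensorProduct

namespace Groth.Agent.Sk62

set_option maxHeartbeats 1000000 in
set_option synthInstance.maxHeartbeats 100000 in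
theorem isReduced_tensor_of_flat_of_fields {A₀ A B₀ : Type u} [CommRing A₀] [CommRing A] [CommRing B₀]
    [Algebra A₀ A] [Algebra A₀ B₀] [IsNoetherianRing A₀] [IsReduced A] [Module.Flat A₀ B₀]
    (h : ∀ P : PrimeSpectrum A, IsReduced (P.asIdeal.ResidueField ⊗[A₀] B₀)) :
    IsReduced (A ⊗[A₀] B₀) := by
  classical
  refine ⟨fun z hz => ?_⟩
  obtain ⟨S, hS⟩ := TensorProduct.exists_finset z
  let C := Algebra.adjoin A₀ ((S.image Prod.fst : Finset A) : Set A)
  have : Algebra.FiniteType A₀ C := .adjoin_of_finite (Finset.finite_toSet _)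
  have : IsNoetherianRing C := Algebra.FiniteType.isNoetherianRing A₀ C
  have : IsReduced C := isReduced_of_injective C.val Subtype.val_injective
  let j : C ⊗[A₀] B₀ →ₐ[A₀] A ⊗[A₀] B₀ := Algebra.TensorProduct.map C.val (AlgHom.id A₀ B₀)
  have hj : Function.Injective j :=
    Module.Flat.rTensor_preserves_injective_linearMap C.val.toLinearMap Subtype.val_injective
  obtain ⟨w, rfl⟩ : z ∈ j.range := by
    rw [hS]
    exact sum_mem fun p hp => ⟨(⟨p.1, Algebra.subset_adjoin (Finset.mem_image_of_mem _ hp)⟩ : C) ⊗ₜ p.2, by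
      simp [j]⟩
  suffices IsReduced (C ⊗[A₀] B₀) by
    obtain ⟨n, hn⟩ := hz
    rw [show w = 0 from IsReduced.eq_zero w ⟨n, hj (by rw [map_pow, map_zero]; exact hn)⟩, map_zero]
  let ι := {P : Ideal C // P ∈ minimalPrimes C}
  have : Finite ι := (minimalPrimes.finite_of_isNoetherianRing C).to_subtype
  have : ∀ P : ι, P.1.IsPrime := fun P => P.2.1.1
  let κ : ι → Type u := fun P => P.1.ResidueField
  let φ : ∀ P : ι, C →ₐ[A₀] P.1.ResidueField := fun P => IsScalarTower.toAlgHom A₀ C _
  let Ψ : C →ₗ[A₀] ∀ P : ι, P.1.ResidueField := LinearMap.pi fun P => (φ P).toLinearMap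
  have hΨ : Function.Injective Ψ := (injective_iff_map_eq_zero _).2 fun x hx => by
    refine IsNilpotent.eq_zero ((mem_nilradical).1 ?_)
    rw [nilradical, ← Ideal.sInf_minimalPrimes, Submodule.mem_sInf]
    intro P hP
    have := hP.1.1
    exact Ideal.algebraMap_residueField_eq_zero.1 (congrFun hx (⟨P, hP⟩ : ι))
  have hred : ∀ P : ι, IsReduced (P.1.ResidueField ⊗[A₀] B₀) := fun P => by
    obtain ⟨P', hP', heq⟩ := Ideal.exists_comap_eq_of_mem_minimalPrimes_of_injective
      (f := C.val.toRingHom) Subtype.val_injective P.1 P.2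
    have := h ⟨P', hP'⟩
    let g : P.1.ResidueField →ₐ[A₀] P'.ResidueField := Ideal.ResidueField.mapₐ P.1 P' C.val heq.symm
    exact isReduced_of_injective (Algebra.TensorProduct.map g (AlgHom.id A₀ B₀))
      (Module.Flat.rTensor_preserves_injective_linearMap g.toLinearMap g.toRingHom.injective)
  let Φ : C ⊗[A₀] B₀ →+* ∀ P : ι, P.1.ResidueField ⊗[A₀] B₀ :=
    RingHom.pi fun P => (Algebra.TensorProduct.map (φ P) (AlgHom.id A₀ B₀)).toRingHom
  have hΦ : Function.Injective Φ := by
    have := Fintype.ofFinite ι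
    let e := TensorProduct.piLeft A₀ B₀ (fun P : ι => P.1.ResidueField)
    have hcomp : ∀ z, Φ z = e (Ψ.rTensor B₀ z) := fun z => by
      induction z using TensorProduct.induction_on with
      | zero => simp
      | add a b ha hb => simp only [map_add, ha, hb]
      | tmul c r =>
        ext P
        simp [Φ, e, Ψ]
    intro a b hab
    rw [hcomp, hcomp] at hab
    exact Module.Flat.rTensor_preserves_injective_linearMap Ψ hΨ (e.injective hab)
  exact isReduced_of_injective Φ hΦ

theorem isReduced_of_flat_of_fibres {A B : Type u} [CommRing A] [CommRing B] [Algebra A B]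
    [Algebra.FinitePresentation A B] [Module.Flat A B] [IsReduced A]
    (h : ∀ P : PrimeSpectrum A, IsReduced (P.asIdeal.Fiber B)) : IsReduced B := by
  obtain ⟨A₀, B₀, _, _, _, _, hft, -, hflat, ⟨e⟩⟩ := Unr55.exists_flat_model A B
  have : IsNoetherianRing A₀ := Algebra.FiniteType.isNoetherianRing ℤ A₀
  have : IsReduced (A ⊗[A₀] B₀) := isReduced_tensor_of_flat_of_fields fun P => by
    let e' : P.asIdeal.Fiber B ≃+* P.asIdeal.ResidueField ⊗[A₀] B₀ :=
      (Algebra.TensorProduct.congr (AlgEquiv.refl (R := A) (A₁ := P.asIdeal.ResidueField)) e).toRingEquiv.trans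
        (Algebra.TensorProduct.cancelBaseChange A₀ A A P.asIdeal.ResidueField B₀).toRingEquiv
    have := h P
    exact isReduced_of_injective e'.symm e'.symm.injective
  exact isReduced_of_injective e e.injective

end Groth.Agent.Sk62
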